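import Cfsg.Agent.Lib.FixityFour.ThreeFusion

/-!
The transfer to the abelianised Sylow subgroup rules out the moving configuration.
-/

set_option autoImplicit false
set_option linter.unusedSectionVars false
set_option linter.style.haveILetI false

namespace CfsgLib.FixityFour

open MulAction Subgroup CfsgLib.TransferOrbit
open scoped Pointwise

universe u v

variable {G : Type u} [Group G] [Finite G] {Ω : Type v} [MulAction G Ω] [Finite Ω] {k : ℕ}

theorem moves_false (X : Fix G Ω 3 k) (hB : Moves G Ω k) (hodd : OddStab G Ω) [IsSimpleGroup G]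
    (hna : ¬ IsMulCommutative G) {y : G} (hy : IsTopFix Ω 3 k y) : False := by
  classical
  haveI : Fact (Nat.Prime 3) := ⟨Nat.prime_three⟩
  obtain ⟨P, hP⟩ := (IsPGroup.of_card (n := 1) (by rw [Nat.card_zpowers, hy.1, pow_one]) :
    IsPGroup 3 (zpowers y)).exists_le_sylow
  have hyP : y ∈ (P : Subgroup G) := hP (mem_zpowers y)
  set π : (P : Subgroup G) →* Abelianization (P : Subgroup G) := Abelianization.of with hπ
  obtain ⟨-, h27, -⟩ := card_cent_three X hB hyP hy
  obtain ⟨hA9, hA3⟩ := max_facts P.2 h27 (card_cent_type X hB hyP hy)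
  haveI : Finite (Abelianization (P : Subgroup G)) := Nat.finite_of_card_ne_zero (by rw [hA9]; norm_num)
  haveI : Fintype (Abelianization (P : Subgroup G)) := Fintype.ofFinite _
  haveI : Fintype (P : Subgroup G) := Fintype.ofFinite _
  let C : Finset (Abelianization (P : Subgroup G)) :=
    (Finset.univ.filter fun x : (P : Subgroup G) => ∃ g : G, g * y * g⁻¹ = x).image π
  have memC : ∀ {c}, c ∈ C ↔ ∃ (g : G) (hg : g * y * g⁻¹ ∈ (P : Subgroup G)), π ⟨_, hg⟩ = c := by
    intro c
    simp only [C, Finset.mem_image, Finset.mem_filter, Finset.mem_univ, true_and]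
    constructor
    · rintro ⟨⟨x, hx⟩, ⟨g, hg⟩, rfl⟩
      exact ⟨g, hg ▸ hx, congrArg π (Subtype.ext hg)⟩
    · rintro ⟨g, hg, rfl⟩
      exact ⟨_, ⟨g, rfl⟩, rfl⟩
  have top : ∀ g : G, IsTopFix Ω 3 k (g * y * g⁻¹) := fun g => hy.conj g
  -- no trivial image and no opposite images
  have hne : ∀ c ∈ C, c ≠ 1 ∧ c⁻¹ ∉ C := by
    intro c hc
    obtain ⟨g, hg, rfl⟩ := memC.mp hc
    refine ⟨not_mem_commutator P.2 h27 (card_cent_type X hB hg (top g))
      fun e => X.ne_one (top g) (congrArg Subtype.val e :), fun hc' => ?_⟩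
    obtain ⟨g', hg', e⟩ := memC.mp hc'
    have hinvtop : IsTopFix Ω 3 k (g * y * g⁻¹)⁻¹ :=
      ⟨by rw [orderOf_inv, (top g).1], by rw [fixedBy_inv', (top g).2]⟩
    obtain ⟨a, ha⟩ := exists_conj_of_eq P.2 h27 (x := (⟨_, hg⟩ : (P : Subgroup G))⁻¹) (w := ⟨_, hg'⟩)
      (card_cent_type X hB ((P : Subgroup G).inv_mem hg) hinvtop) (by rw [← hπ, map_inv]; exact e.symm)
    have ha' : (a : G) * (g * y * g⁻¹)⁻¹ * (a : G)⁻¹ = g' * y * g'⁻¹ := congrArg Subtype.val ha
    refine not_real X hB hodd (top g) ((a : G)⁻¹ * g' * g⁻¹) ?_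
    calc (a : G)⁻¹ * g' * g⁻¹ * (g * y * g⁻¹) * ((a : G)⁻¹ * g' * g⁻¹)⁻¹
        = (a : G)⁻¹ * (g' * y * g'⁻¹) * a := by group
      _ = (a : G)⁻¹ * ((a : G) * (g * y * g⁻¹)⁻¹ * (a : G)⁻¹) * a := by rw [ha']
      _ = _ := by group
  -- the images form one orbit of the normaliser
  let N : Subgroup G := normalizer ((P : Subgroup G) : Set G)
  haveI hPn : ((P : Subgroup G).subgroupOf N).Normal := Subgroup.normal_in_normalizer
  let St : Subgroup N := (P : Subgroup G).subgroupOf N ⊔ (centralizer ({y} : Set G)).comap N.subtype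
  have hNP : ∀ n : N, ∀ x ∈ (P : Subgroup G), (n : G) * x * (n : G)⁻¹ ∈ (P : Subgroup G) := fun n x hx =>
    (mem_normalizer_iff.mp n.2 x).mp hx
  let val : N → Abelianization (P : Subgroup G) := fun n => π ⟨_, hNP n y hyP⟩
  have hval : ∀ a b : N, a⁻¹ * b ∈ St → val a = val b := by
    intro a b h
    obtain ⟨p, hp, c, hc, e⟩ := Subgroup.mem_sup_of_normal_left.mp h
    have hcy : (c : G) * y * (c : G)⁻¹ = y := by
      have hc' : (c : G) * y = y * (c : G) := mem_centralizer_singleton_iff.mp hc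
      rw [hc', mul_inv_cancel_right]
    have hh := hNP a _ hp
    have hb : (b : G) * y * (b : G)⁻¹ =
        ((a : G) * p * (a : G)⁻¹) * ((a : G) * y * (a : G)⁻¹) * ((a : G) * p * (a : G)⁻¹)⁻¹ := by
      have e' : (b : G) = a * (p * c) := by
        have := congrArg (fun w : N => (w : G)) e
        simp only [Subgroup.coe_mul, Subgroup.coe_inv] at this
        rw [this, mul_inv_cancel_left]
      calc (b : G) * y * (b : G)⁻¹ = a * p * ((c : G) * y * (c : G)⁻¹) * ((a : G) * p)⁻¹ := by rw [e']; group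
        _ = a * p * y * ((a : G) * p)⁻¹ := by rw [hcy]
        _ = _ := by group
    show π ⟨_, hNP a y hyP⟩ = π ⟨_, hNP b y hyP⟩
    rw [show (⟨_, hNP b y hyP⟩ : (P : Subgroup G)) = ⟨_, hh⟩ * ⟨_, hNP a y hyP⟩ * ⟨_, hh⟩⁻¹ from Subtype.ext hb,
      map_mul, map_mul, map_inv, mul_inv_cancel_comm]
  have hinj : ∀ a b : N, val a = val b → a⁻¹ * b ∈ St := by
    intro a b e
    obtain ⟨p, hp⟩ := exists_conj_of_eq P.2 h27 (card_cent_type X hB (hNP a y hyP) (top a)) e
    have hp' : (p : G) * ((a : G) * y * (a : G)⁻¹) * (p : G)⁻¹ = b * y * (b : G)⁻¹ := congrArg Subtype.val hp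
    refine Subgroup.mem_sup_of_normal_left.mpr ⟨a⁻¹ * ⟨p, le_normalizer p.2⟩ * a, ?_,
      (a⁻¹ * ⟨p, le_normalizer p.2⟩ * a)⁻¹ * (a⁻¹ * b), ?_, by rw [mul_inv_cancel_left]⟩
    · show (a : G)⁻¹ * p * a ∈ (P : Subgroup G)
      simpa using hNP a⁻¹ p p.2
    · refine mem_centralizer_singleton_iff.mpr ?_
      show ((a : G)⁻¹ * p * a)⁻¹ * ((a : G)⁻¹ * b) * y = y * (((a : G)⁻¹ * p * a)⁻¹ * ((a : G)⁻¹ * b))
      calc ((a : G)⁻¹ * p * a)⁻¹ * ((a : G)⁻¹ * b) * y = (a : G)⁻¹ * (p : G)⁻¹ * (b * y * (b : G)⁻¹) * b := by group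
        _ = (a : G)⁻¹ * (p : G)⁻¹ * ((p : G) * ((a : G) * y * (a : G)⁻¹) * (p : G)⁻¹) * b := by rw [hp']
        _ = _ := by group
  have hcardC : C.card = St.index := by
    rw [← Nat.card_eq_finsetCard, Subgroup.index]
    refine (Nat.card_eq_of_bijective (fun q : N ⧸ St => (⟨val q.out, memC.mpr ⟨_, _, rfl⟩⟩ : C)) ⟨?_, ?_⟩).symm
    · intro a b e
      rw [← Quotient.out_eq a, ← Quotient.out_eq b]
      exact QuotientGroup.eq.mpr (hinj _ _ (congrArg Subtype.val e :))
    · rintro ⟨c, hc⟩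
      obtain ⟨g, hg, rfl⟩ := memC.mp hc
      -- conjugate the centraliser of `y` onto that of the image
      set A := (P : Subgroup G) ⊓ centralizer ({y} : Set G) with hA
      set B := (P : Subgroup G) ⊓ centralizer ({g * y * g⁻¹} : Set G) with hB'
      have hA' : (A.map (MulAut.conj g).toMonoidHom) ≤ centralizer ({g * y * g⁻¹} : Set G) := by
        rintro _ ⟨x, hx, rfl⟩
        refine mem_centralizer_singleton_iff.mpr ?_
        show g * x * g⁻¹ * (g * y * g⁻¹) = g * y * g⁻¹ * (g * x * g⁻¹)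
        rw [show g * x * g⁻¹ * (g * y * g⁻¹) = g * (x * y) * g⁻¹ by group, mem_centralizer_singleton_iff.mp hx.2]
        group
      obtain ⟨m, hm, hmB⟩ := exists_conj_le (inf_le_right : B ≤ centralizer ({g * y * g⁻¹} : Set G))
        (P.2.to_le inf_le_left) (fun Z hZ hle hZC => (eq_of_le_of_card_ge hle (by
          rw [(card_cent_three X hB hg (top g)).1]
          exact three_bound X hB (top g) hZ (hZC.trans (centralizer_le_MS _)))).symm)
        ((P.2.to_le inf_le_left : IsPGroup 3 A).map _) hA'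
      have e2 : m * g * y * (m * g)⁻¹ = g * y * g⁻¹ := by
        calc m * g * y * (m * g)⁻¹ = m * (g * y * g⁻¹) * m⁻¹ := by group
          _ = _ := by rw [mem_centralizer_singleton_iff.mp hm, mul_inv_cancel_right]
      obtain ⟨n, hn, hny, e⟩ := fusion_normalizer X hB hodd hy hyP A ⟨hyP, mem_centralizer_singleton_iff.mpr rfl⟩
        inf_le_left (card_cent_three X hB hyP hy).1.ge (m * g) (fun x hx => by
          have := (hmB (g * x * g⁻¹) ⟨x, hx, rfl⟩).1
          rwa [show m * (g * x * g⁻¹) * m⁻¹ = m * g * x * (m * g)⁻¹ by group] at this) (e2.symm ▸ hg)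
      let n' : N := ⟨n, mem_normalizer_fintype hn⟩
      refine ⟨(n' : N ⧸ St), Subtype.ext ?_⟩
      show val _ = _
      rw [hval _ n' (QuotientGroup.eq.mp (QuotientGroup.out_eq' (n' : N ⧸ St)))]
      show π ⟨_, hny⟩ = π ⟨_, hg⟩
      rw [e]
      exact congrArg π (Subtype.ext e2)
  have hC3 : ¬ 3 ∣ C.card := fun h3 => P.not_dvd_index (by
    rw [hcardC] at h3
    have h1 : St.index ∣ ((P : Subgroup G).subgroupOf N).index := index_dvd_of_le le_sup_left
    have h2 : ((P : Subgroup G).subgroupOf N).index ∣ (P : Subgroup G).index :=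
      Dvd.intro _ (relIndex_mul_index (le_normalizer : (P : Subgroup G) ≤ N))
    exact h3.trans (h1.trans h2))
  -- the transfer
  haveI : Fintype (G ⧸ (P : Subgroup G)) := Fintype.ofFinite _
  have ht := transfer_two_elements π hA3 hy.sq (one_pow 3) (Commute.one_right y)
  rw [hom_eq_one hna (MonoidHom.transfer π) y] at ht
  set F := Finset.univ.filter (fun q : G ⧸ (P : Subgroup G) => y • q = q ∧ (1 : G) • q = q) with hF
  have hvalF : ∀ (g : G) (hg : g⁻¹ * y * g ∈ (P : Subgroup G)),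
      cval π y (g : G ⧸ (P : Subgroup G)) = π ⟨_, hg⟩ := fun g hg => cval_eq π (fixed_mk.mpr hg) hg
  have hmaps : ∀ q ∈ F, cval π y q ∈ C := by
    intro q hq
    induction q using QuotientGroup.induction_on with
    | _ g =>
      have hg := fixed_mk.mp (Finset.mem_filter.mp hq).2.1
      exact memC.mpr ⟨g⁻¹, by rwa [inv_inv], by rw [hvalF g hg]; exact congrArg π (Subtype.ext (show g⁻¹ * y * g⁻¹⁻¹ = g⁻¹ * y * g by rw [inv_inv]))⟩
  set Cy := centralizer ({y} : Set G) with hCy
  have hfib : ∀ c ∈ C, (F.filter fun q => cval π y q = c).card * 9 = Nat.card Cy := by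
    intro c hc
    obtain ⟨g₀, hg₀, rfl⟩ := memC.mp hc
    obtain ⟨g, hgdef⟩ : ∃ g, g = g₀⁻¹ := ⟨_, rfl⟩
    have hgi : g⁻¹ = g₀ := by rw [hgdef, inv_inv]
    have hgy : g⁻¹ * y * g ∈ (P : Subgroup G) := by rw [hgi, hgdef]; exact hg₀
    have hv : cval π y (g : G ⧸ (P : Subgroup G)) = π ⟨_, hg₀⟩ := by
      rw [hvalF g hgy]; exact congrArg π (Subtype.ext (show g⁻¹ * y * g = g₀ * y * g₀⁻¹ by rw [hgi, hgdef]))
    have hstab : Nat.card (stabilizer Cy (g : G ⧸ (P : Subgroup G))) = 9 := by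
      rw [← (card_cent_three X hB hgy (by simpa [hgdef] using top g₀)).1]
      refine Nat.card_congr
        { toFun := fun c => ⟨g⁻¹ * ((c : Cy) : G) * g, fixed_mk.mp c.2, mem_centralizer_singleton_iff.mpr ?_⟩
          invFun := fun w => ⟨⟨g * w * g⁻¹, mem_centralizer_singleton_iff.mpr ?_⟩, ?_⟩
          left_inv := fun c => Subtype.ext (Subtype.ext (by group))
          right_inv := fun w => Subtype.ext (by group) }
      · have := mem_centralizer_singleton_iff.mp (c : Cy).2
        calc g⁻¹ * ((c : Cy) : G) * g * (g⁻¹ * y * g) = g⁻¹ * (((c : Cy) : G) * y) * g := by group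
          _ = _ := by rw [this]; group
      · have := mem_centralizer_singleton_iff.mp w.2.2
        calc g * (w : G) * g⁻¹ * y = g * ((w : G) * (g⁻¹ * y * g)) * g⁻¹ := by group
          _ = _ := by rw [this]; group
      · show (g * (w : G) * g⁻¹) • (g : G ⧸ (P : Subgroup G)) = g
        exact fixed_mk.mpr (by
          have := w.2.1
          rwa [show g⁻¹ * (g * (w : G) * g⁻¹) * g = w by group])
    have horb : ((F.filter fun q => cval π y q = π ⟨_, hg₀⟩ : Finset _) : Set (G ⧸ (P : Subgroup G))) =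
        MulAction.orbit Cy (g : G ⧸ (P : Subgroup G)) := by
      ext q
      simp only [Finset.coe_filter, Set.mem_setOf_eq, hF, Finset.mem_filter, Finset.mem_univ, true_and, one_smul,
        and_true]
      induction q using QuotientGroup.induction_on with
      | _ g' =>
        constructor
        · rintro ⟨hq, hc'⟩
          have hg' := fixed_mk.mp hq
          rw [hvalF g' hg', ← hv, hvalF g hgy] at hc'
          obtain ⟨a, ha⟩ := exists_conj_of_eq P.2 h27
            (card_cent_type X hB hg' (by simpa using top g'⁻¹)) hc'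
          have ha' : (a : G) * (g'⁻¹ * y * g') * (a : G)⁻¹ = g⁻¹ * y * g := congrArg Subtype.val ha
          refine ⟨⟨g' * (a : G)⁻¹ * g⁻¹, mem_centralizer_singleton_iff.mpr ?_⟩, ?_⟩
          · calc g' * (a : G)⁻¹ * g⁻¹ * y = g' * (a : G)⁻¹ * (g⁻¹ * y * g) * g⁻¹ := by group
              _ = g' * (a : G)⁻¹ * ((a : G) * (g'⁻¹ * y * g') * (a : G)⁻¹) * g⁻¹ := by rw [ha']
              _ = _ := by group
          · refine (QuotientGroup.eq.mpr ?_ : ((g' * (a : G)⁻¹ * g⁻¹ * g : G) : G ⧸ (P : Subgroup G)) = (g' : G ⧸ (P : Subgroup G)))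
            rw [inv_mul_cancel_right, mul_inv_rev, inv_inv, mul_assoc, inv_mul_cancel, mul_one]
            exact a.2
        · rintro ⟨⟨c, hc'⟩, e⟩
          have hcy := mem_centralizer_singleton_iff.mp hc'
          rw [← e]
          have hm : (c * g)⁻¹ * y * (c * g) = g⁻¹ * y * g := by
            calc (c * g)⁻¹ * y * (c * g) = g⁻¹ * c⁻¹ * (y * c) * g := by group
              _ = g⁻¹ * c⁻¹ * (c * y) * g := by rw [hcy]
              _ = _ := by group
          refine ⟨fixed_mk.mpr (by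
            show (c * g)⁻¹ * y * (c * g) ∈ _
            rw [hm]; exact hgy), ?_⟩
          show cval π y ((c * g : G) : G ⧸ (P : Subgroup G)) = _
          rw [hvalF (c * g) (hm ▸ hgy), ← hv, hvalF g hgy]
          exact congrArg π (Subtype.ext hm)
    have h1 : (F.filter fun q => cval π y q = π ⟨_, hg₀⟩).card =
        Nat.card (MulAction.orbit Cy (g : G ⧸ (P : Subgroup G))) := by
      rw [← horb, Nat.card_coe_set_eq, Set.ncard_coe_finset]
    rw [h1, ← hstab, Nat.card_coe_set_eq, ← MulAction.index_stabilizer, mul_comm, Subgroup.card_mul_index]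
  have hne' : C.Nonempty := ⟨_, memC.mpr ⟨1, by simpa using hyP, rfl⟩⟩
  obtain ⟨c₁, hc₁⟩ := hne'
  set m := (F.filter fun q => cval π y q = c₁).card with hm
  have hm3 : ¬ 3 ∣ m := by
    rintro ⟨l, hl⟩
    have hd : 3 ^ 3 ∣ Nat.card Cy := ⟨l, by rw [← hfib c₁ hc₁, ← hm, hl]; ring⟩
    obtain ⟨K, hK⟩ := Sylow.exists_subgroup_card_pow_prime 3 (G := Cy) hd
    have h27' := three_bound X hB hy (Y := K.map Cy.subtype)
      (IsPGroup.of_card (n := 3) (by rw [Nat.card_congr (K.equivMapOfInjective _ Cy.subtype_injective).symm.toEquiv, hK]))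
      ((map_subtype_le K).trans (centralizer_le_MS y))
    rw [Nat.card_congr (K.equivMapOfInjective _ Cy.subtype_injective).symm.toEquiv, hK] at h27'
    norm_num at h27'
  have hprod : (∏ c ∈ C, c) ^ m = 1 := by
    rw [← Finset.prod_pow]
    calc ∏ c ∈ C, c ^ m = ∏ c ∈ C, ∏ q ∈ F.filter (fun q => cval π y q = c), cval π y q := by
          refine Finset.prod_congr rfl fun c hc => ?_
          rw [Finset.prod_congr rfl (g := fun _ => c) (fun q hq => (Finset.mem_filter.mp hq).2), Finset.prod_const]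
          congr 1
          have := hfib c hc
          have := hfib c₁ hc₁
          omega
      _ = ∏ q ∈ F, cval π y q := Finset.prod_fiberwise_of_maps_to hmaps _
      _ = 1 := ht.symm
  refine no_orbit_set hA9 hA3 C hC3 hne ?_
  have hd1 := Nat.dvd_gcd (orderOf_dvd_of_pow_eq_one hprod) (orderOf_dvd_of_pow_eq_one (hA3 (∏ c ∈ C, c)))
  rw [(Nat.Coprime.symm (Nat.prime_three.coprime_iff_not_dvd.mpr hm3) : Nat.gcd m 3 = 1), Nat.dvd_one] at hd1
  exact orderOf_eq_one_iff.mp hd1

end CfsgLib.FixityFour
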