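import Cfsg.Agent.Lib.FixityFour.Setup
import Mathlib.GroupTheory.Nilpotent

/-!
Stabilisers of fixed sets containing no Sylow subgroup.
-/

set_option autoImplicit false
set_option linter.unusedSectionVars false
set_option linter.style.haveILetI false

namespace CfsgLib.FixityFour

open MulAction Subgroup
open scoped Pointwise

universe u v

variable {G : Type u} [Group G] [Finite G]

/-- An element normalising a proper subgroup of a `p`-group, of order `p` modulo it. -/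
theorem exists_normalizing {p : ℕ} [Fact p.Prime] {S W : Subgroup G} (hS : IsPGroup p S) (hlt : W < S) :
    ∃ s ∈ S, s ∉ W ∧ s ^ p ∈ W ∧ ∀ w ∈ W, s * w * s⁻¹ ∈ W := by
  haveI := hS.isNilpotent
  have hW : W.subgroupOf S < ⊤ := lt_top_iff_ne_top.mpr fun e => hlt.not_ge fun x hx =>
    (mem_subgroupOf.mp (e.ge (mem_top (⟨x, hx⟩ : S))))
  have hN := Group.normalizerCondition_of_isNilpotent (G := S) _ hW
  obtain ⟨s₀, hs₀, hs₀W⟩ := SetLike.exists_of_lt hN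
  classical
  have hex : ∃ i, s₀ ^ p ^ i ∈ W.subgroupOf S := by
    obtain ⟨i, hi⟩ := hS s₀
    exact ⟨i, by rw [hi]; exact one_mem _⟩
  set i := Nat.find hex with hi
  have hi0 : i ≠ 0 := fun e => hs₀W (by
    have h0 : s₀ ^ p ^ i ∈ W.subgroupOf S := Nat.find_spec hex
    rw [e, pow_zero, pow_one] at h0
    exact h0)
  set s := s₀ ^ p ^ (i - 1) with hs
  refine ⟨s, s.2, fun h => Nat.find_min hex (show i - 1 < i by omega) (mem_subgroupOf.mpr h), ?_, fun w hw => ?_⟩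
  · have e : s ^ p ∈ W.subgroupOf S := by
      rw [hs, ← pow_mul, ← pow_succ, show i - 1 + 1 = i by omega]
      exact Nat.find_spec hex
    exact e
  · have := (mem_normalizer_iff.mp (pow_mem hs₀ (p ^ (i - 1))) ⟨w, hlt.le hw⟩).mp hw
    exact this

variable {Ω : Type v} [MulAction G Ω] [Finite Ω]

/-- An element normalising `W = S ∩ MS z` outside it. -/
structure Move (Ω : Type v) [MulAction G Ω] (p k : ℕ) (S : Sylow p G) (W : Subgroup G) (z s : G) : Prop where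
  top : IsTopFix Ω p k z
  zW : z ∈ W
  eqW : W = (S : Subgroup G) ⊓ MS Ω z
  sS : s ∈ S
  norm : ∀ w ∈ W, s * w * s⁻¹ ∈ W
  sW : s ∉ W

theorem exists_move_of {p k : ℕ} (X : Fix G Ω p k) {z : G} (hz : IsTopFix Ω p k z)
    (hno : ∀ T : Sylow p G, ¬ (T : Subgroup G) ≤ MS Ω z) :
    ∃ (S : Sylow p G) (W : Subgroup G) (s : G), Move Ω p k S W z s := by
  haveI := Fact.mk X.prime
  have hp : IsPGroup p (zpowers z) := IsPGroup.of_card (n := 1) (by rw [Nat.card_zpowers, hz.1, pow_one])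
  obtain ⟨W, S, hPW, hW, -⟩ := exists_max hp
    (zpowers_le.mpr (centralizer_le_MS (Ω := Ω) z (mem_centralizer_singleton_iff.mpr rfl)))
  have hlt : W < (S : Subgroup G) := lt_of_le_of_ne (hW ▸ inf_le_left) fun e =>
    hno S (e ▸ hW ▸ inf_le_right)
  obtain ⟨s, hs, hsW, -, hn⟩ := exists_normalizing S.2 hlt
  exact ⟨S, W, s, hz, hPW (mem_zpowers z), hW, hs, hn, hsW⟩

namespace Move

variable {p k : ℕ} {S : Sylow p G} {W : Subgroup G} {z s : G} (h : Move Ω p k S W z s)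
include h

theorem le_left : W ≤ (S : Subgroup G) := h.eqW ▸ inf_le_left

theorem le_MS : W ≤ MS Ω z := h.eqW ▸ inf_le_right

theorem pGroup : IsPGroup p W := S.2.to_le h.le_left

theorem norm_inv {w : G} (hw : w ∈ W) : ∃ w₀ ∈ W, s * w₀ * s⁻¹ = w := by
  let g : W → W := fun x => ⟨s * x * s⁻¹, h.norm x x.2⟩
  have hg : Function.Injective g := fun a b e => Subtype.ext (by
    have e' : s * (a : G) * s⁻¹ = s * b * s⁻¹ := congrArg Subtype.val e
    exact mul_left_cancel (mul_right_cancel e'))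
  obtain ⟨w₀, hw₀⟩ := (Finite.injective_iff_surjective.mp hg) ⟨w, hw⟩
  exact ⟨w₀, w₀.2, congrArg Subtype.val hw₀⟩

theorem le_MS' : W ≤ MS Ω (s * z * s⁻¹) := fun w hw => by
  obtain ⟨w₀, hw₀, rfl⟩ := h.norm_inv hw
  exact MS_conj s z (h.le_MS hw₀)

theorem fixed_ne : fixedBy Ω (s * z * s⁻¹) ≠ fixedBy Ω z := fun e => by
  rw [← smul_fixedBy] at e
  exact h.sW (h.eqW.ge ⟨h.sS, mem_stabilizer_iff.mpr e⟩)

theorem top' : IsTopFix Ω p k (s * z * s⁻¹) := h.top.conj s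

theorem zW' : s * z * s⁻¹ ∈ W := h.norm z h.zW

theorem no_common (X : Fix G Ω p k) {g : G} (hgW : g ∈ W) (h1 : g ∈ KS Ω z) (h2 : g ∈ KS Ω (s * z * s⁻¹)) : g = 1 := by
  by_contra hg1
  obtain ⟨i, hi⟩ := h.pGroup ⟨g, hgW⟩
  exact h.fixed_ne (X.fixed_inj h.top' h.top h2 h1 (congrArg Subtype.val hi) hg1)

theorem commute_factors (X : Fix G Ω p k) {a b : G} (ha : a ∈ W ⊓ KS Ω z) (hb : b ∈ W ⊓ KS Ω (s * z * s⁻¹)) :
    Commute a b := by
  have h1 : a * b * a⁻¹ * b⁻¹ ∈ KS Ω z := by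
    rw [show a * b * a⁻¹ * b⁻¹ = a * (b * a⁻¹ * b⁻¹) by group]
    exact mul_mem ha.2 (KS_conj (h.le_MS hb.1) (inv_mem ha.2))
  have h2 : a * b * a⁻¹ * b⁻¹ ∈ KS Ω (s * z * s⁻¹) := mul_mem (KS_conj (h.le_MS' ha.1) hb.2) (inv_mem hb.2)
  exact mul_inv_eq_iff_eq_mul.mp (mul_inv_eq_one.mp
    (h.no_common X (mul_mem (mul_mem (mul_mem ha.1 hb.1) (inv_mem ha.1)) (inv_mem hb.1)) h1 h2))

/-- The two pointwise stabilisers are conjugate under `s`. -/
theorem mem_conj {g : G} : g ∈ W ⊓ KS Ω (s * z * s⁻¹) ↔ ∃ a ∈ W ⊓ KS Ω z, s * a * s⁻¹ = g := by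
  have hfix : fixedBy Ω (s * z * s⁻¹) = s • fixedBy Ω z := by rw [← smul_fixedBy]
  constructor
  · rintro ⟨hgW, hgK⟩
    obtain ⟨a, ha, rfl⟩ := h.norm_inv hgW
    refine ⟨a, ⟨ha, mem_KS.mpr fun y hy => ?_⟩, rfl⟩
    have := mem_KS.mp hgK (s • y) (hfix.ge ⟨y, hy, rfl⟩)
    rw [mul_smul, mul_smul, inv_smul_smul] at this
    exact MulAction.injective s this
  · rintro ⟨a, ha, rfl⟩
    refine ⟨h.norm a ha.1, mem_KS.mpr fun y hy => ?_⟩
    obtain ⟨x, hx, rfl⟩ := hfix.le hy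
    show (s * a * s⁻¹) • s • x = s • x
    rw [mul_smul, mul_smul, inv_smul_smul, mem_KS.mp ha.2 x hx]

theorem card_conj : Nat.card ↥(W ⊓ KS Ω (s * z * s⁻¹)) = Nat.card ↥(W ⊓ KS Ω z) := by
  refine (Nat.card_eq_of_bijective (fun a : ↥(W ⊓ KS Ω z) =>
    (⟨s * a * s⁻¹, h.mem_conj.mpr ⟨a, a.2, rfl⟩⟩ : ↥(W ⊓ KS Ω (s * z * s⁻¹)))) ⟨fun a b e => ?_, fun b => ?_⟩).symm
  · exact Subtype.ext (mul_left_cancel (mul_right_cancel (congrArg Subtype.val e :)))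
  · obtain ⟨a, ha, hab⟩ := h.mem_conj.mp b.2
    exact ⟨⟨a, ha⟩, Subtype.ext hab⟩

theorem card_dvd (X : Fix G Ω p k) :
    Nat.card ↥(W ⊓ KS Ω z) ∣ (fixedBy Ω (s * z * s⁻¹) \ fixedBy Ω z).ncard :=
  X.card_cent_dvd h.top inf_le_right (h.pGroup.to_le inf_le_left) fun _ hr =>
    h.commute_factors X hr ⟨h.zW', self_mem_KS _⟩

theorem card_sq_le (X : Fix G Ω p k) : Nat.card ↥(W ⊓ KS Ω z) * Nat.card ↥(W ⊓ KS Ω (s * z * s⁻¹)) ≤ Nat.card W := by
  rw [← Nat.card_prod]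
  refine Nat.card_le_card_of_injective (fun q => (⟨(q.1 : G) * q.2, mul_mem q.1.2.1 q.2.2.1⟩ : W)) ?_
  rintro ⟨a, b⟩ ⟨a', b'⟩ e
  have e' : (a : G) * b = a' * b' := congrArg Subtype.val e
  have e2 : (a' : G)⁻¹ * a = b' * (b : G)⁻¹ := by rw [eq_mul_inv_iff_mul_eq, mul_assoc, e', inv_mul_cancel_left]
  have h1 := h.no_common X (mul_mem (inv_mem a'.2.1) a.2.1) (mul_mem (inv_mem a'.2.2) a.2.2)
    (by rw [e2]; exact mul_mem b'.2.2 (inv_mem b.2.2))
  have ha : a' = a := Subtype.ext (inv_mul_eq_one.mp h1)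
  subst ha
  exact Prod.ext rfl (Subtype.ext (mul_left_cancel e'))

end Move

end CfsgLib.FixityFour
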