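import Cfsg.Agent.Lib.FixityFour.ThreeBase
import Cfsg.Agent.Lib.FixityFour.Move

/-!
Elements of order three, when a stabiliser of a maximal fixed set contains a Sylow three-subgroup.
-/

set_option autoImplicit false
set_option linter.unusedSectionVars false
set_option linter.style.haveILetI false

namespace CfsgLib.FixityFour

open MulAction Subgroup CfsgLib.TransferOrbit
open scoped Pointwise

universe u v

variable {G : Type u} [Group G] [Finite G] {Ω : Type v} [MulAction G Ω] [Finite Ω] {k : ℕ}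

/-- A subgroup of order nine with two independent elements lies in every subgroup containing both. -/
theorem le_of_nine {C T : Subgroup G} (hC : Nat.card C = 9) {u z : G} (huC : u ∈ C) (hzC : z ∈ C) (huT : u ∈ T)
    (hzT : z ∈ T) (hz : orderOf z = 3) (hu : u ∉ zpowers z) : C ≤ T := by
  have hd : Nat.card ↥(C ⊓ T) ∣ 3 ^ 2 := (card_dvd_of_le inf_le_left).trans (dvd_of_eq hC)
  obtain ⟨j, hj, hj'⟩ := (Nat.dvd_prime_pow Nat.prime_three).mp hd
  have hzle : zpowers z ≤ C ⊓ T := zpowers_le.mpr ⟨hzC, hzT⟩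
  have h3 := card_le_of_le hzle
  rw [Nat.card_zpowers, hz, hj'] at h3
  interval_cases j
  · omega
  · exact absurd ((eq_of_le_of_card_ge hzle (by rw [hj', Nat.card_zpowers, hz]; rfl)).ge ⟨huC, huT⟩) hu
  · exact (eq_of_le_of_card_ge inf_le_left (by rw [hj', hC]; rfl)).ge.trans inf_le_right

theorem coset_eq_of_fixed {z g : G} (h : fixedBy Ω (g * z * g⁻¹) = fixedBy Ω z) :
    (g : G ⧸ MS Ω z) = ((1 : G) : G ⧸ MS Ω z) := by
  refine QuotientGroup.eq.mpr ?_
  rw [mul_one, inv_mem_iff]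
  refine mem_stabilizer_iff.mpr ?_
  rw [← fixedBy_conj]
  exact h

/-- Two commuting elements of order three stabilising the fixed set of a conjugate of `z`. -/
theorem fixed_cases (X : Fix G Ω 3 k) {z u : G} (hz : IsTopFix Ω 3 k z) (hu3 : u ^ 3 = 1) (hc : Commute u z)
    (huK : u ∉ KS Ω z) {g : G} (hgu : u • (g : G ⧸ MS Ω z) = g) (hgz : z • (g : G ⧸ MS Ω z) = g) :
    (g : G ⧸ MS Ω z) = ((1 : G) : G ⧸ MS Ω z) ∨
      ∃ i : ℕ, IsTopFix Ω 3 k (u * z ^ i) ∧ fixedBy Ω (u * z ^ i) = fixedBy Ω (g * z * g⁻¹) := by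
  have hu' : u ∈ MS Ω (g * z * g⁻¹) := by
    have := MS_conj g z (fixed_mk.mp hgu)
    rwa [show g * (g⁻¹ * u * g) * g⁻¹ = u by group] at this
  have hz' : z ∈ MS Ω (g * z * g⁻¹) := by
    have := MS_conj g z (fixed_mk.mp hgz)
    rwa [show g * (g⁻¹ * z * g) * g⁻¹ = z by group] at this
  have hz3 : z ^ 3 = 1 := hz.sq
  have h' := hz.conj g
  rcases pair_kills (X.k_le hz) (onFin h'.2 ⟨z, hz'⟩) (onFin h'.2 ⟨u, hu'⟩)
      (by rw [← map_pow, show (⟨z, hz'⟩ : MS Ω (g * z * g⁻¹)) ^ 3 = 1 from Subtype.ext hz3, map_one])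
      (by rw [← map_pow, show (⟨u, hu'⟩ : MS Ω (g * z * g⁻¹)) ^ 3 = 1 from Subtype.ext hu3, map_one])
      (by rw [← map_mul, ← map_mul]; exact congrArg _ (Subtype.ext hc.eq.symm)) with e | ⟨i, e⟩
  · exact Or.inl (coset_eq_of_fixed (X.top_eq h' hz.1 ((onFin_eq_one h'.2).mp e)).1.symm)
  · rw [← map_pow, ← map_mul, onFin_eq_one] at e
    have ho : orderOf (u * z ^ (i : ℕ)) = 3 := orderOf_eq_prime (hp := ⟨Nat.prime_three⟩)
      (by rw [(hc.pow_right _).mul_pow, hu3, ← pow_mul, mul_comm (i : ℕ), pow_mul, hz3, one_pow, one_mul]) fun e1 => huK (by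
        rw [eq_inv_of_mul_eq_one_left e1]
        exact inv_mem (pow_mem (self_mem_KS z) _))
    obtain ⟨h1, h2⟩ := X.top_eq h' ho e
    exact Or.inr ⟨i, h2, h1⟩

section Stay
variable (X : Fix G Ω 3 k) (hodd : OddStab G Ω) [IsSimpleGroup G] (hna : ¬ IsMulCommutative G)
  {P : Sylow 3 G} {z : G} (h : Stay Ω k P z)
include X hodd hna h

/-- An element of order three outside `K` gives a maximal one. -/
theorem exists_top_outside {u : G} (huP : u ∈ P) (hu : orderOf u = 3) (huK : u ∉ KS Ω z) :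
    ∃ a ∈ P, IsTopFix Ω 3 k a ∧ a ∉ KS Ω z := by
  classical
  by_contra hn
  push Not at hn
  haveI : Fintype (G ⧸ MS Ω z) := Fintype.ofFinite _
  have hu3 : u ^ 3 = 1 := by rw [← hu]; exact pow_orderOf_eq_one u
  have huM : u ∈ MS Ω z := h.le huP
  obtain ⟨χ, hχ⟩ := exists_chi hodd (k := k) (X.k_le h.top) (u := ⟨u, huM⟩) hu3 huK h.top.2
  have hc : Commute u z := h.central u huP
  have hA : ∀ a : Multiplicative (ZMod 3), a ^ 3 = 1 := cube_zmod
  have ht := transfer_two_elements χ hA hu3 h.top.sq hc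
  rw [hom_eq_one hna (MonoidHom.transfer χ) u] at ht
  have h1u : u • ((1 : G) : G ⧸ MS Ω z) = ((1 : G) : G ⧸ MS Ω z) := fixed_mk.mpr (by simpa using huM)
  have h1z : z • ((1 : G) : G ⧸ MS Ω z) = ((1 : G) : G ⧸ MS Ω z) :=
    fixed_mk.mpr (by simpa using h.le h.mem)
  rw [Finset.prod_eq_single ((1 : G) : G ⧸ MS Ω z)] at ht
  · refine hχ ?_
    rw [cval_eq χ h1u (by simpa using huM)] at ht
    simpa using ht.symm
  · intro q hq hq1
    induction q using QuotientGroup.induction_on with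
    | _ g =>
      obtain ⟨-, hgu, hgz⟩ := Finset.mem_filter.mp hq
      rcases fixed_cases X h.top hu3 hc huK hgu hgz with e | ⟨i, hi, -⟩
      · exact absurd e hq1
      · have hmem : u * z ^ i ∈ P := (P : Subgroup G).mul_mem huP ((P : Subgroup G).pow_mem h.mem i)
        have hK := hn _ hmem hi
        have := mul_mem hK (inv_mem (pow_mem (self_mem_KS (Ω := Ω) z) i))
        rw [mul_inv_cancel_right] at this
        exact absurd this huK
  · exact fun hn1 => absurd (Finset.mem_filter.mpr ⟨Finset.mem_univ _, h1u, h1z⟩) hn1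

/-- No maximal element outside `K`: a strongly 3-embedded subgroup. -/
theorem strongly_three (hcl : ∀ a ∈ P, IsTopFix Ω 3 k a → a ∈ KS Ω z) :
    ∃ H : Subgroup G, H ≠ ⊤ ∧ 3 ∣ Nat.card H ∧
      ∀ g : G, g ∉ H → ¬ 3 ∣ Nat.card ↥(H ⊓ H.map (MulAut.conj g).toMonoidHom) := by
  haveI : Fact (Nat.Prime 3) := ⟨Nat.prime_three⟩
  have hall : ∀ u ∈ P, orderOf u = 3 → u ∈ KS Ω z := fun u huP hu => by
    by_contra huK
    obtain ⟨a, ha, hat, haK⟩ := exists_top_outside X hodd hna h huP hu huK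
    exact haK (hcl a ha hat)
  have key : ∀ x ∈ MS Ω z, orderOf x = 3 → x ∈ KS Ω z := fun x hx hx3 => by
    obtain ⟨m, hm, hmP⟩ := exists_conj_le h.le P.2 (fun Y hY hPY _ => P.3 hY hPY)
      (IsPGroup.of_card (n := 1) (by rw [Nat.card_zpowers, hx3, pow_one]) : IsPGroup 3 (zpowers x))
      (zpowers_le.mpr hx)
    have := KS_conj (inv_mem hm) (hall _ (hmP x (mem_zpowers x))
      (by rw [show m * x * m⁻¹ = MulAut.conj m x from rfl, MulEquiv.orderOf_eq, hx3]))
    rwa [inv_inv, show m⁻¹ * (m * x * m⁻¹) * m = x by group] at this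
  refine ⟨MS Ω z, X.MS_ne_top h.top, h.top.1 ▸ orderOf_dvd_natCard _ (h.le h.mem), fun g hg h3 => ?_⟩
  obtain ⟨⟨x, hx, hxg⟩, hx3⟩ := exists_prime_orderOf_dvd_card' 3 h3
  rw [← Subgroup.orderOf_coe] at hx3
  obtain ⟨y, hy, rfl⟩ := hxg
  have hx3' : orderOf ((MulAut.conj g) y) = 3 := hx3
  have hyK : y ∈ KS Ω z := key y hy (by rwa [MulEquiv.orderOf_eq] at hx3')
  have hxK : g * y * g⁻¹ ∈ KS Ω (g * z * g⁻¹) := mem_KS.mpr fun w hw => by
    rw [fixedBy_conj] at hw
    obtain ⟨v, hv, rfl⟩ := hw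
    show (g * y * g⁻¹) • g • v = g • v
    rw [mul_smul, mul_smul, inv_smul_smul, mem_KS.mp hyK v hv]
  have e := X.fixed_inj (h.top.conj g) h.top hxK (key _ hx hx3) (i := 1)
    (by rw [pow_one, ← hx3]; exact pow_orderOf_eq_one _) fun e => by
      simp only [MulEquiv.toMonoidHom_eq_coe, MonoidHom.coe_coe, MulAut.conj_apply] at hx3
      rw [e, orderOf_one] at hx3
      omega
  refine hg (mem_stabilizer_iff.mpr ?_)
  rw [← fixedBy_conj]
  exact e

/-- A maximal element outside `K`: the Sylow subgroup is elementary of order nine. -/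
theorem outside_nine {u : G} (huP : u ∈ P) (hu : IsTopFix Ω 3 k u) (huK : u ∉ KS Ω z) :
    Nat.card P = 9 ∧ ∀ x ∈ (P : Subgroup G), x ^ 3 = 1 := by
  classical
  haveI : Fact (Nat.Prime 3) := ⟨Nat.prime_three⟩
  haveI : Fintype (G ⧸ MS Ω z) := Fintype.ofFinite _
  set C := (P : Subgroup G) ⊓ centralizer ({u} : Set G) with hC
  have hCp : IsPGroup 3 C := P.2.to_le inf_le_left
  have hc : Commute u z := h.central u huP
  have hzC : z ∈ C := ⟨h.mem, mem_centralizer_singleton_iff.mpr hc.symm.eq⟩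
  have huC : u ∈ C := ⟨huP, mem_centralizer_singleton_iff.mpr rfl⟩
  have huz : u ∉ zpowers z := fun e => huK (zpowers_le.mpr (self_mem_KS z) e)
  have hne : fixedBy Ω u ≠ fixedBy Ω z := fun e => huK (mem_KS.mpr fun y hy => (e.ge hy : _))
  -- the part fixing the points of `z`
  have hR : Nat.card ↥(C ⊓ KS Ω z) = 3 := by
    have hd := X.card_cent_dvd h.top (R := C ⊓ KS Ω z) (t := u) inf_le_right (hCp.to_le inf_le_left)
      fun r hr => mem_centralizer_singleton_iff.mp hr.1.2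
    have hd0 : (fixedBy Ω u \ fixedBy Ω z).ncard ≠ 0 := fun e => hne (Set.eq_of_subset_of_ncard_le
      (Set.sdiff_eq_empty.mp ((Set.ncard_eq_zero (Set.toFinite _)).mp e)) (by rw [hu.2, h.top.2]) (Set.toFinite _))
    have hd4 : (fixedBy Ω u \ fixedBy Ω z).ncard ≤ 4 :=
      (hu.2 ▸ Set.ncard_le_ncard Set.sdiff_subset (Set.toFinite _)).trans (X.k_le hu)
    obtain ⟨j, hj⟩ := IsPGroup.iff_card.1 (hCp.to_le (inf_le_left : C ⊓ KS Ω z ≤ C))
    have h3 : 3 ∣ Nat.card ↥(C ⊓ KS Ω z) := h.top.1 ▸ orderOf_dvd_natCard _ (show z ∈ C ⊓ KS Ω z from ⟨hzC, self_mem_KS z⟩)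
    have hle := Nat.le_of_dvd (Nat.pos_of_ne_zero hd0) hd
    rw [hj] at h3 hle ⊢
    rcases Nat.lt_or_ge j 2 with hj2 | hj2
    · interval_cases j <;> simp_all
    · have := Nat.pow_le_pow_right (show 0 < 3 by norm_num) hj2
      omega
  have hC9 : Nat.card C = 9 := by
    have hd := card_dvd_mul_factorial (Ω := Ω) (W := C) (z := z) (inf_le_left.trans h.le)
    rw [hR, h.top.2] at hd
    have hd' : Nat.card C ∣ 9 * 8 := hd.trans ((mul_dvd_mul_left 3 (Nat.factorial_dvd_factorial (X.k_le h.top))).trans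
      (dvd_of_eq rfl))
    obtain ⟨j, hj⟩ := IsPGroup.iff_card.1 hCp
    have h9 : Nat.card C ∣ 9 := by
      rw [hj] at hd' ⊢
      exact (Nat.Coprime.pow_left _ (by decide)).dvd_of_dvd_mul_right hd'
    refine le_antisymm (Nat.le_of_dvd (by norm_num) h9) ?_
    have h3 : Nat.card ↥(zpowers z) = 3 := by rw [Nat.card_zpowers, h.top.1]
    have hlt : zpowers z < C := lt_of_le_of_ne (zpowers_le.mpr hzC) fun e => huz (e.ge huC)
    rcases (Nat.dvd_prime_pow Nat.prime_three).mp (show Nat.card C ∣ 3 ^ 2 from h9) with ⟨i, hi, hi'⟩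
    by_contra hc
    have : Nat.card C ≤ 3 := by rw [hi'] at hc ⊢; interval_cases i <;> simp_all
    exact hlt.ne (eq_of_le_of_card_ge hlt.le (by rw [h3]; exact this))
  by_cases hCP : C = (P : Subgroup G)
  · refine ⟨by rw [← hC9, hCP], fun x hx => ?_⟩
    rw [← hCP] at hx
    haveI := IsPGroup.isMulCommutative_of_card_eq_prime_sq (p := 3) (G := C) (by rw [hC9]; norm_num)
    letI : CommGroup C := { (inferInstance : Group C) with mul_comm := fun a b => Std.Commutative.comm a b }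
    let T : Subgroup G := ((powMonoidHom 3 : C →* C).ker).map C.subtype
    have hle : C ≤ T := le_of_nine (T := T) hC9 huC hzC
      ⟨⟨u, huC⟩, Subtype.ext hu.sq, rfl⟩ ⟨⟨z, hzC⟩, Subtype.ext h.top.sq, rfl⟩ h.top.1 huz
    obtain ⟨⟨y, hy⟩, hy3, rfl⟩ := hle hx
    exact congrArg Subtype.val (MonoidHom.mem_ker.mp hy3)
  exfalso
  obtain ⟨h₀, hh₀P, hh₀C, -, hh₀n⟩ := exists_normalizing P.2 (lt_of_le_of_ne inf_le_left hCP)
  set r := u⁻¹ * (h₀ * u * h₀⁻¹) with hr
  have huM : u ∈ MS Ω z := h.le huP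
  obtain ⟨χ, hχ⟩ := exists_chi hodd (k := k) (X.k_le h.top) (u := ⟨u, huM⟩) hu.sq huK h.top.2
  -- conjugation by `h₀` multiplies `u` by an element of the group of `z`
  have hrz : r ∈ zpowers z := by
    have hrC : r ∈ C := C.mul_mem (C.inv_mem huC) (hh₀n u huC)
    have hrK : r ∈ KS Ω z := by
      refine (onFin_eq_one h.top.2 (g := ⟨r, h.le hrC.1⟩)).mp ?_
      have e : (⟨r, h.le hrC.1⟩ : MS Ω z) = ⟨u, huM⟩⁻¹ * (⟨h₀, h.le hh₀P⟩ * ⟨u, huM⟩ * ⟨h₀, h.le hh₀P⟩⁻¹) := rfl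
      have hh := image_comm h.top.2 (X.k_le h.top) h.le P.2 hh₀P huP
      rw [e, map_mul, map_mul, map_mul, map_inv, map_inv, hh, mul_inv_cancel_right, inv_mul_cancel]
    exact (eq_of_le_of_card_ge (zpowers_le.mpr ⟨hzC, self_mem_KS z⟩ : zpowers z ≤ C ⊓ KS Ω z)
      (by rw [hR, Nat.card_zpowers, h.top.1])).ge ⟨hrC, hrK⟩
  have hr3 : r ^ 3 = 1 := by
    obtain ⟨i, hi⟩ := mem_zpowers_iff.mp hrz
    rw [← hi, ← zpow_natCast, ← zpow_mul, mul_comm i, zpow_mul, zpow_natCast, h.top.sq, one_zpow]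
  have hr1 : r ≠ 1 := fun e => hh₀C ⟨hh₀P, mem_centralizer_singleton_iff.mpr
    (mul_inv_eq_iff_eq_mul.mp (inv_mul_eq_one.mp e).symm)⟩
  have hrK : r ∈ KS Ω z := zpowers_le.mpr (self_mem_KS z) hrz
  set σ := h₀⁻¹ with hσ
  have hσu : σ⁻¹ * u * σ = u * r := by rw [hσ, hr, inv_inv, mul_inv_cancel_left]
  have hσz : σ⁻¹ * z * σ = z := by
    rw [hσ, inv_inv, (h.central h₀ hh₀P).eq, mul_inv_cancel_right]
  have hrc : Commute r σ := by
    obtain ⟨i, hi⟩ := mem_zpowers_iff.mp hrz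
    rw [← hi]
    exact ((h.central h₀ hh₀P).inv_left.symm).zpow_left i
  -- the common fixed cosets
  have hA : ∀ a : Multiplicative (ZMod 3), a ^ 3 = 1 := cube_zmod
  have ht := transfer_two_elements χ hA hu.sq h.top.sq hc
  rw [hom_eq_one hna (MonoidHom.transfer χ) u] at ht
  set one' : G ⧸ MS Ω z := ((1 : G) : G ⧸ MS Ω z) with hone
  have h1u : u • one' = one' := fixed_mk.mpr (by simpa using huM)
  have h1z : z • one' = one' := fixed_mk.mpr (by simpa using h.le h.mem)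
  rw [← Finset.mul_prod_erase _ _ (Finset.mem_filter.mpr ⟨Finset.mem_univ one', h1u, h1z⟩)] at ht
  rw [prod_triangles (cval χ u) (fun q => σ • q)] at ht
  · rw [cval_eq χ h1u (by simpa using huM), mul_one] at ht
    exact hχ (by simpa using ht.symm)
  · -- invariance
    intro q hq
    obtain ⟨hq1, hqf⟩ := Finset.mem_erase.mp hq
    obtain ⟨-, hqu, hqz⟩ := Finset.mem_filter.mp hqf
    refine Finset.mem_erase.mpr ⟨fun e => hq1 ?_, Finset.mem_filter.mpr ⟨Finset.mem_univ _, ?_, ?_⟩⟩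
    · have h1σ : σ • one' = one' := fixed_mk.mpr (by
        rw [inv_one, one_mul, mul_one]; exact h.le ((P : Subgroup G).inv_mem hh₀P))
      exact smul_left_cancel σ (e.trans h1σ.symm)
    · have hrq : r • q = q := (zpowers_le.mpr hqz : zpowers z ≤ stabilizer G q) hrz
      rw [← mul_smul, show u * σ = σ * (u * r) by rw [← hσu]; group, mul_smul, mul_smul, hrq, hqu]
    · rw [← mul_smul, show z * σ = σ * z by
        calc z * σ = σ * (σ⁻¹ * z * σ) := by group
          _ = σ * z := by rw [hσz], mul_smul, hqz]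
  · -- period three
    intro q hq
    obtain ⟨-, hqu, hqz⟩ := (Finset.mem_filter.mp (Finset.mem_erase.mp hq).2)
    have h3 : (σ * σ * σ) ∈ C := by
      refine ⟨(P : Subgroup G).mul_mem ((P : Subgroup G).mul_mem ((P : Subgroup G).inv_mem hh₀P)
        ((P : Subgroup G).inv_mem hh₀P)) ((P : Subgroup G).inv_mem hh₀P), mem_centralizer_singleton_iff.mpr ?_⟩
      have e2 : (σ * σ * σ)⁻¹ * u * (σ * σ * σ) = u * r ^ 3 := by
        calc (σ * σ * σ)⁻¹ * u * (σ * σ * σ) = σ⁻¹ * (σ⁻¹ * (σ⁻¹ * u * σ) * σ) * σ := by group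
          _ = σ⁻¹ * (σ⁻¹ * (u * r) * σ) * σ := by rw [hσu]
          _ = σ⁻¹ * (σ⁻¹ * u * σ * (σ⁻¹ * (r * σ))) * σ := by group
          _ = σ⁻¹ * (u * r * r) * σ := by rw [hσu, hrc.eq, inv_mul_cancel_left]
          _ = σ⁻¹ * u * σ * (σ⁻¹ * ((r * r) * σ)) := by group
          _ = u * r * (r * r) := by rw [hσu, (hrc.mul_left hrc).eq, inv_mul_cancel_left]
          _ = u * r ^ 3 := by rw [pow_succ', pow_two, mul_assoc]
      rw [hr3, mul_one] at e2
      calc σ * σ * σ * u = σ * σ * σ * ((σ * σ * σ)⁻¹ * u * (σ * σ * σ)) := by rw [e2]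
        _ = u * (σ * σ * σ) := by group
    show σ • σ • σ • q = q
    rw [← mul_smul, ← mul_smul]
    exact le_of_nine (T := stabilizer G q) hC9 huC hzC hqu hqz h.top.1 huz h3
  · -- no fixed coset
    intro q hq e
    obtain ⟨hq1, hqf⟩ := Finset.mem_erase.mp hq
    obtain ⟨-, hqu, hqz⟩ := Finset.mem_filter.mp hqf
    induction q using QuotientGroup.induction_on with
    | _ g =>
      rcases fixed_cases X h.top hu.sq hc huK hqu hqz with e1 | ⟨i, hi, hfix⟩
      · exact hq1 e1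
      · set a := u * z ^ i with ha
        have hσM : σ ∈ MS Ω a := by
          have := MS_conj g z (fixed_mk.mp e)
          rw [show g * (g⁻¹ * σ * g) * g⁻¹ = σ by group] at this
          rwa [MS, hfix]
        have haK : σ⁻¹ * a * σ ∈ KS Ω a := by
          have := KS_conj (inv_mem hσM) (self_mem_KS (Ω := Ω) a)
          rwa [inv_inv σ] at this
        have hra : r ∈ KS Ω a := by
          have hrz' : Commute r (z ^ i) := by
            obtain ⟨l, hl⟩ := mem_zpowers_iff.mp hrz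
            rw [← hl]
            exact ((Commute.refl z).zpow_left l).pow_right i
          have e2 : σ⁻¹ * a * σ = a * r := by
            have hzi : Commute σ (z ^ i) := ((h.central h₀ hh₀P).inv_left).pow_right i
            calc σ⁻¹ * (u * z ^ i) * σ = σ⁻¹ * u * (σ * z ^ i) := by rw [hzi.eq]; group
              _ = σ⁻¹ * u * σ * z ^ i := by group
              _ = u * (r * z ^ i) := by rw [hσu, mul_assoc]
              _ = u * z ^ i * r := by rw [hrz'.eq, mul_assoc]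
          rw [e2] at haK
          simpa using mul_mem (inv_mem (self_mem_KS (Ω := Ω) a)) haK
        have e3 := X.fixed_inj hi h.top hra hrK (i := 1) (by rw [pow_one, hr3]) hr1
        exact hq1 (coset_eq_of_fixed (hfix.symm.trans e3))
  · -- triangles
    intro q hq
    obtain ⟨-, hqu, hqz⟩ := (Finset.mem_filter.mp (Finset.mem_erase.mp hq).2)
    induction q using QuotientGroup.induction_on with
    | _ g =>
      have hrg : r • (g : G ⧸ MS Ω z) = g := (zpowers_le.mpr hqz : zpowers z ≤ stabilizer G (g : G ⧸ MS Ω z)) hrz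
      have hm0 := fixed_mk.mp hqu
      have hmr := fixed_mk.mp hrg
      have hu1 : u • σ • (g : G ⧸ MS Ω z) = σ • (g : G ⧸ MS Ω z) := by
        rw [← mul_smul, show u * σ = σ * (u * r) by rw [← hσu]; group, mul_smul, mul_smul, hrg, hqu]
      have hu2 : u • σ • σ • (g : G ⧸ MS Ω z) = σ • σ • (g : G ⧸ MS Ω z) := by
        rw [← mul_smul u, show u * σ = σ * (u * r) by rw [← hσu]; group, mul_smul, mul_smul u r,
          ← mul_smul r σ, hrc.eq, mul_smul σ r, hrg, hu1]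
      have e1 : (σ * g)⁻¹ * u * (σ * g) = g⁻¹ * u * g * (g⁻¹ * r * g) := by
        calc (σ * g)⁻¹ * u * (σ * g) = g⁻¹ * (σ⁻¹ * u * σ) * g := by group
          _ = _ := by rw [hσu]; group
      have e2 : (σ * (σ * g))⁻¹ * u * (σ * (σ * g)) = g⁻¹ * u * g * (g⁻¹ * r * g) * (g⁻¹ * r * g) := by
        calc (σ * (σ * g))⁻¹ * u * (σ * (σ * g)) = g⁻¹ * (σ⁻¹ * (σ⁻¹ * u * σ) * σ) * g := by group
          _ = g⁻¹ * (σ⁻¹ * (u * r) * σ) * g := by rw [hσu]
          _ = g⁻¹ * (σ⁻¹ * u * σ * (σ⁻¹ * (r * σ))) * g := by group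
          _ = _ := by rw [hσu, hrc.eq, inv_mul_cancel_left]; group
      rw [cval_eq χ hqu hm0]
      change χ ⟨_, hm0⟩ * cval χ u ((σ * g : G) : G ⧸ MS Ω z) * cval χ u ((σ * (σ * g) : G) : G ⧸ MS Ω z) = 1
      rw [cval_eq χ (x := σ * g) hu1 (e1 ▸ mul_mem hm0 hmr), cval_eq χ (x := σ * (σ * g)) hu2
        (e2 ▸ mul_mem (mul_mem hm0 hmr) hmr)]
      set a0 := χ ⟨_, hm0⟩ with ha0
      set b0 := χ ⟨_, hmr⟩ with hb0
      have val : ∀ (x : G) (hx : x ∈ MS Ω z) (w : MS Ω z), x = w → χ ⟨x, hx⟩ = χ w :=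
        fun x hx w e => congrArg χ (Subtype.ext e)
      rw [val _ _ (⟨_, hm0⟩ * ⟨_, hmr⟩) e1, val _ _ (⟨_, hm0⟩ * ⟨_, hmr⟩ * ⟨_, hmr⟩) e2, map_mul, map_mul, map_mul,
        ← ha0, ← hb0]
      calc a0 * (a0 * b0) * (a0 * b0 * b0) = a0 ^ 3 * b0 ^ 3 := by
            simp only [pow_succ, pow_zero, one_mul]; ac_rfl
        _ = 1 := by rw [hA, hA, one_mul]

end Stay

end CfsgLib.FixityFour
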