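import Cfsg.Agent.Lib.FixityFour.TwoMove

/-!
Involutions with four fixed points whose fixed sets are not stabilised by a Sylow subgroup.
-/

set_option autoImplicit false
set_option linter.unusedSectionVars false
set_option linter.style.haveILetI false

namespace CfsgLib.FixityFour

open MulAction Subgroup
open scoped Pointwise

universe u v

variable {G : Type u} [Group G] [Finite G] {Ω : Type v} [MulAction G Ω] [Finite Ω]
variable {S : Sylow 2 G} {W : Subgroup G} {z s : G}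

/-- Nothing outside the product centralises a whole factor. -/
theorem no_central {u : G} (hu : (fixedBy Ω u).ncard = 4) (hW : W ≤ MS Ω u) (h32 : Nat.card W = 32)
    {K₂ E : Subgroup G} (hEW : E ≤ W) (hE : Nat.card E = 16) (hK1 : Nat.card ↥(W ⊓ KS Ω u) = 4)
    (hdec : ∀ e ∈ E, ∃ a ∈ W ⊓ KS Ω u, ∃ b ∈ K₂, e = a * b) (hK2W : K₂ ≤ W)
    (hK2 : ∀ a ∈ K₂, ∀ b ∈ K₂, a * b = b * a) {w : G} (hw : w ∈ W) (hwE : w ∉ E) :
    ∃ b ∈ K₂, w * b ≠ b * w := by
  by_contra hc
  push Not at hc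
  let f : W →* Equiv.Perm (Fin 4) := (onFour hu).comp (inclusion hW)
  have hk : Nat.card f.ker = 4 := by
    refine Eq.trans (b := Nat.card ↥(W ⊓ KS Ω u)) (Nat.card_congr
      { toFun := fun g => ⟨((g : W) : G), (g : W).2, (onFour_eq_one hu).mp g.2⟩
        invFun := fun g => ⟨⟨(g : G), g.2.1⟩, (onFour_eq_one hu).mpr g.2.2⟩
        left_inv := fun _ => rfl
        right_inv := fun _ => rfl }) hK1
  have hr : Nat.card f.range = 8 := by
    have := card_eq_card_quotient_mul_card_subgroup f.ker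
    rw [Nat.card_congr (QuotientGroup.quotientKerEquivRange f).toEquiv, h32, hk] at this
    omega
  have hi : (E.subgroupOf W).index = 2 := by
    have := (E.subgroupOf W).card_mul_index
    rw [Nat.card_congr (subgroupOfEquivOfLe hEW).toEquiv, hE, h32] at this
    omega
  let B : Set (Equiv.Perm (Fin 4)) := {σ | ∃ b : W, (b : G) ∈ K₂ ∧ (f b = σ ∨ f ⟨w, hw⟩ * f b = σ)}
  have hB : ∀ g : W, f g ∈ B := fun g => by
    have hE' : ∀ e : W, (e : G) ∈ E → ∃ b : W, (b : G) ∈ K₂ ∧ f e = f b := fun e he => by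
      obtain ⟨a, ha, b, hb, hab⟩ := hdec e he
      refine ⟨⟨b, hK2W hb⟩, hb, ?_⟩
      rw [show e = (⟨a, ha.1⟩ : W) * ⟨b, hK2W hb⟩ from Subtype.ext hab, map_mul,
        show f ⟨a, ha.1⟩ = 1 from (onFour_eq_one hu).mpr ha.2, one_mul]
    by_cases hg : (g : G) ∈ E
    · obtain ⟨b, hb, e⟩ := hE' g hg
      exact ⟨b, hb, Or.inl e.symm⟩
    · have hwi : (⟨w, hw⟩ : W)⁻¹ ∉ E.subgroupOf W := fun e => hwE (inv_mem_iff.mp (mem_subgroupOf.mp e))
      have hm := (mul_mem_iff_of_index_two hi (a := (⟨w, hw⟩ : W)⁻¹) (b := g)).mpr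
        (iff_of_false hwi fun e => hg (mem_subgroupOf.mp e))
      obtain ⟨b, hb, e⟩ := hE' _ (mem_subgroupOf.mp hm)
      exact ⟨b, hb, Or.inr (by rw [← e, ← map_mul, mul_inv_cancel_left])⟩
  refine not_comm_eight f.range hr ?_
  rintro _ ⟨g, rfl⟩ _ ⟨g', rfl⟩
  obtain ⟨b, hb, e⟩ := hB g
  obtain ⟨b', hb', e'⟩ := hB g'
  have hwb : ∀ c : W, (c : G) ∈ K₂ → Commute (f ⟨w, hw⟩) (f c) := fun c hc' =>
    Commute.map (show Commute (⟨w, hw⟩ : W) c from Subtype.ext (hc c hc')) f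
  have hbb : Commute (f b) (f b') := Commute.map (show Commute b b' from Subtype.ext (hK2 _ hb _ hb')) f
  rcases e with e | e <;> rcases e' with e' | e' <;> rw [← e, ← e']
  · exact hbb.eq
  · exact ((hwb b hb).symm.mul_right hbb).eq
  · exact ((hwb b' hb').mul_left hbb).eq
  · exact (((Commute.refl _).mul_right (hwb b' hb')).mul_left ((hwb b hb).symm.mul_right hbb)).eq

variable (h : Move Ω 2 4 S W z s) (X : Fix G Ω 2 4) (hK : Nat.card ↥(W ⊓ KS Ω z) = 4)
include h X hK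

theorem Move.outside (h32 : Nat.card W = 32) {x : G} (hx : x ∈ W) (hxE : x ∉ h.prod X) :
    (∃ a ∈ W ⊓ KS Ω z, x * a ≠ a * x) ∧ ∃ b ∈ W ⊓ KS Ω (s * z * s⁻¹), x * b ≠ b * x := by
  refine ⟨?_, ?_⟩
  · exact no_central h.top'.2 h.le_MS' h32 (h.prod_le X hK) (h.card_prod X hK) (by rw [h.card_conj, hK])
      (fun e ⟨a, ha, b, hb, he⟩ => ⟨b, hb, a, ha, he.trans (h.commute_factors X ha hb).eq⟩) inf_le_left
      (fun a ha b hb => (h.comm_four X hK ha hb).eq) hx hxE
  · exact no_central h.top.2 h.le_MS h32 (h.prod_le X hK) (h.card_prod X hK) hK (fun e he => he) inf_le_left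
      (fun a ha b hb => (h.comm_four' X hK ha hb).eq) hx hxE

/-- The centraliser in the product of an element outside it splits. -/
theorem Move.cent_split {x : G} (hx : x ∈ W) {a b : G} (ha : a ∈ W ⊓ KS Ω z) (hb : b ∈ W ⊓ KS Ω (s * z * s⁻¹))
    (e : a * b * x = x * (a * b)) : a * x = x * a ∧ b * x = x * b := by
  have ha' : x * a * x⁻¹ ∈ W ⊓ KS Ω z :=
    ⟨W.mul_mem (W.mul_mem hx ha.1) (W.inv_mem hx), KS_conj (h.le_MS hx) ha.2⟩
  have hb' : x * b * x⁻¹ ∈ W ⊓ KS Ω (s * z * s⁻¹) :=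
    ⟨W.mul_mem (W.mul_mem hx hb.1) (W.inv_mem hx), KS_conj (h.le_MS' hx) hb.2⟩
  obtain ⟨e1, e2⟩ := h.prod_unique X hK ha' hb' ha hb (by
    calc x * a * x⁻¹ * (x * b * x⁻¹) = x * (a * b) * x⁻¹ := by group
      _ = a * b := by rw [← e, mul_inv_cancel_right])
  exact ⟨(mul_inv_eq_iff_eq_mul.mp e1).symm, (mul_inv_eq_iff_eq_mul.mp e2).symm⟩

theorem Move.card_cent_part {u x : G} (hu : ∃ a ∈ W ⊓ KS Ω u, x * a ≠ a * x) (h4 : Nat.card ↥(W ⊓ KS Ω u) = 4) :
    Nat.card (centIn (W ⊓ KS Ω u) x) ≤ 2 := by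
  obtain ⟨a, ha, hax⟩ := hu
  have hlt : Nat.card (centIn (W ⊓ KS Ω u) x) ≠ 4 := fun e =>
    hax (mem_centIn.mp ((eq_of_le_of_card_ge (inf_le_left : centIn (W ⊓ KS Ω u) x ≤ W ⊓ KS Ω u)
      (by rw [h4, e])).ge ha)).2.symm
  have hd : Nat.card (centIn (W ⊓ KS Ω u) x) ∣ 2 ^ 2 := (card_dvd_of_le inf_le_left).trans (dvd_of_eq h4)
  obtain ⟨j, hj, hj'⟩ := (Nat.dvd_prime_pow Nat.prime_two).mp hd
  rw [hj'] at hlt ⊢
  interval_cases j <;> simp_all

/-- An element outside centralises at most four elements of the product. -/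
theorem Move.card_cent_prod (h32 : Nat.card W = 32) {x : G} (hx : x ∈ W) (hxE : x ∉ h.prod X) :
    Nat.card (centIn (h.prod X) x) ≤
      Nat.card (centIn (W ⊓ KS Ω z) x) * Nat.card (centIn (W ⊓ KS Ω (s * z * s⁻¹)) x) ∧
    Nat.card (centIn (W ⊓ KS Ω z) x) ≤ 2 ∧ Nat.card (centIn (W ⊓ KS Ω (s * z * s⁻¹)) x) ≤ 2 := by
  obtain ⟨h1, h2⟩ := h.outside X hK h32 hx hxE
  refine ⟨?_, h.card_cent_part X hK h1 hK, h.card_cent_part X hK h2 (by rw [h.card_conj, hK])⟩
  rw [← Nat.card_prod]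
  refine Nat.card_le_card_of_surjective
    (fun p => (⟨(p.1 : G) * p.2, mem_centIn.mpr ⟨⟨p.1, p.1.2.1, p.2, p.2.2.1, rfl⟩, by
      rw [mul_assoc, (mem_centIn.mp p.2.2).2, ← mul_assoc, (mem_centIn.mp p.1.2).2, mul_assoc]⟩⟩ :
        centIn (h.prod X) x)) ?_
  rintro ⟨e, he⟩
  obtain ⟨⟨a, ha, b, hb, rfl⟩, hcomm⟩ := mem_centIn.mp he
  obtain ⟨e1, e2⟩ := h.cent_split X hK hx ha hb hcomm
  exact ⟨(⟨a, mem_centIn.mpr ⟨ha, e1⟩⟩, ⟨b, mem_centIn.mpr ⟨hb, e2⟩⟩), rfl⟩

theorem Move.index_two (h32 : Nat.card W = 32) {x y : G} (hx : x ∈ W) (hy : y ∈ W) (hxE : x ∉ h.prod X)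
    (hyE : y ∉ h.prod X) : x * y ∈ h.prod X := by
  have hi : ((h.prod X).subgroupOf W).index = 2 := by
    have := ((h.prod X).subgroupOf W).card_mul_index
    rw [Nat.card_congr (subgroupOfEquivOfLe (h.prod_le X hK)).toEquiv, h.card_prod X hK, h32] at this
    omega
  exact (mul_mem_iff_of_index_two hi (a := ⟨x, hx⟩) (b := ⟨y, hy⟩)).mpr (iff_of_false hxE hyE)

/-- Four fixed points and factors of order four, elementary: the order 32. -/
theorem Move.elementary_case (hel : ∀ a ∈ W ⊓ KS Ω z, a * a = 1) (h32 : Nat.card W = 32) :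
    Cfsg.SectionalPRankLE 2 4 G := by
  set E := h.prod X with hE
  obtain ⟨w, hw, hwE⟩ : ∃ w ∈ W, w ∉ E := by
    by_contra hc
    push Not at hc
    have := card_le_of_le (show W ≤ E from hc)
    rw [h.card_prod X hK] at this
    omega
  have hwinv : ∀ e ∈ E, w * e * w⁻¹ ∈ E := fun e he => by
    obtain ⟨a, ha, b, hb, rfl⟩ := he
    exact ⟨w * a * w⁻¹, ⟨W.mul_mem (W.mul_mem hw ha.1) (W.inv_mem hw), KS_conj (h.le_MS hw) ha.2⟩, w * b * w⁻¹,
      ⟨W.mul_mem (W.mul_mem hw hb.1) (W.inv_mem hw), KS_conj (h.le_MS' hw) hb.2⟩, by group⟩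
  have hcomm : ∀ a ∈ E, ∀ b ∈ E, a * b = b * a := fun a ha b hb => h.prod_comm X hK ha hb
  have hE2 : ∀ e ∈ E, e * e = 1 := fun e he => h.elementary X hK hel he
  -- an involution outside
  let φ : E →* E :=
    { toFun := fun e => ⟨(e : G) * (w * e * w⁻¹), mul_mem e.2 (hwinv e e.2)⟩
      map_one' := Subtype.ext (by simp)
      map_mul' := fun a b => Subtype.ext (by
        show (a : G) * b * (w * (a * b) * w⁻¹) = a * (w * a * w⁻¹) * (b * (w * b * w⁻¹))
        rw [show w * ((a : G) * b) * w⁻¹ = w * a * w⁻¹ * (w * b * w⁻¹) by group, mul_assoc (a : G),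
          mul_assoc (a : G) (w * a * w⁻¹), ← mul_assoc (b : G), ← mul_assoc (w * a * w⁻¹),
          hcomm b b.2 _ (hwinv a a.2)]) }
  have hker : Nat.card φ.ker = Nat.card (centIn E w) := Nat.card_congr
    { toFun := fun e => ⟨((e : E) : G), mem_centIn.mpr ⟨(e : E).2, by
        have e1 : ((e : E) : G) * (w * (e : E) * w⁻¹) = 1 := congrArg Subtype.val (MonoidHom.mem_ker.mp e.2)
        have e2 := (inv_eq_of_mul_eq_one_right e1).symm.trans (inv_eq_of_mul_eq_one_right (hE2 _ (e : E).2))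
        exact (mul_inv_eq_iff_eq_mul.mp e2).symm⟩⟩
      invFun := fun e => ⟨⟨e, (mem_centIn.mp e.2).1⟩, MonoidHom.mem_ker.mpr (Subtype.ext (by
        show (e : G) * (w * e * w⁻¹) = 1
        rw [← (mem_centIn.mp e.2).2, mul_inv_cancel_right]
        exact hE2 _ (mem_centIn.mp e.2).1))⟩
      left_inv := fun _ => rfl
      right_inv := fun _ => rfl }
  have hww : w * w ∈ E := h.index_two X hK h32 hw hw hwE hwE
  have hrange : φ.range.map E.subtype ≤ centIn E w := by
    rintro _ ⟨_, ⟨e, rfl⟩, rfl⟩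
    refine mem_centIn.mpr ⟨(φ e).2, ?_⟩
    show (e : G) * (w * e * w⁻¹) * w = w * (e * (w * e * w⁻¹))
    calc (e : G) * (w * e * w⁻¹) * w = w * e * w⁻¹ * e * w := by rw [hcomm e e.2 _ (hwinv e e.2)]
      _ = w * (e * (w⁻¹ * e * w)) := by group
      _ = w * (e * (w * e * w⁻¹)) := by
        congr 2
        calc w⁻¹ * (e : G) * w = w⁻¹ * ((e : G) * (w * w)) * w⁻¹ := by group
          _ = w⁻¹ * ((w * w) * e) * w⁻¹ := by rw [hcomm e e.2 _ hww]
          _ = _ := by group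
  have hcard := card_eq_card_quotient_mul_card_subgroup φ.ker
  rw [Nat.card_congr (QuotientGroup.quotientKerEquivRange φ).toEquiv, hker, h.card_prod X hK,
    Nat.card_congr (φ.range.equivMapOfInjective E.subtype E.subtype_injective).toEquiv] at hcard
  have hle := card_le_of_le hrange
  have h4 : Nat.card (centIn E w) ≤ 4 := by
    obtain ⟨h1, h2, h3⟩ := h.card_cent_prod X hK h32 hw hwE
    exact h1.trans ((Nat.mul_le_mul h2 h3).trans (le_refl 4))
  have hsurj : φ.range.map E.subtype = centIn E w := eq_of_le_of_card_ge hrange (by nlinarith)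
  obtain ⟨_, ⟨e, rfl⟩, he⟩ := hsurj.ge (mem_centIn.mpr ⟨hww, mul_assoc w w w⟩)
  have he' : (e : G) * (w * e * w⁻¹) = w * w := he
  have hxx : (e : G) * w * (e * w) = 1 := by
    calc (e : G) * w * (e * w) = e * (w * e * w⁻¹) * (w * w) := by group
      _ = w * w * (w * w) := by rw [he']
      _ = 1 := hE2 _ hww
  have hxE : (e : G) * w ∉ E := fun hc => hwE ((E.mul_mem_cancel_left e.2).mp hc)
  have hxW : (e : G) * w ∈ W := W.mul_mem (h.prod_le X hK e.2) hw
  -- its centraliser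
  have hcx : centIn E ((e : G) * w) = centIn E w := by
    ext g
    simp only [mem_centIn]
    refine and_congr_right fun hg => ⟨fun e1 => ?_, fun e1 => ?_⟩
    · have c1 : Commute g ((e : G) * w) := e1
      have c2 : Commute g ((e : G)⁻¹) := (show Commute g e from hcomm g hg e e.2).inv_right
      simpa using (c2.mul_right c1).eq
    · exact ((show Commute g e from hcomm g hg e e.2).mul_right e1).eq
  have h44 : Nat.card (centIn E w) = 4 := by nlinarith
  refine rank_wreath S h.le_left (h.prod_le X hK) hcomm hE2 (h.card_prod X hK) h32 hxW hxE hxx (by rw [hcx, h44]) ?_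
  intro g hg hgc
  obtain ⟨h1, h2, h3⟩ := h.card_cent_prod X hK h32 hxW hxE
  have h5 : Nat.card (centIn (W ⊓ KS Ω z) ((e : G) * w)) = 2 := by rw [hcx, h44] at h1; nlinarith
  obtain ⟨a, ha1⟩ : ∃ a : centIn (W ⊓ KS Ω z) ((e : G) * w), (a : G) ≠ 1 := by
    haveI : Nontrivial (centIn (W ⊓ KS Ω z) ((e : G) * w)) := Finite.one_lt_card_iff_nontrivial.mp (by omega)
    obtain ⟨a, ha⟩ := exists_ne (1 : centIn (W ⊓ KS Ω z) ((e : G) * w))
    exact ⟨a, fun e1 => ha (Subtype.ext e1)⟩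
  obtain ⟨haK, hax⟩ := mem_centIn.mp a.2
  refine h.eqW.ge ⟨hg, X.centralizer_le h.top haK.2 (i := 1) (by rw [pow_one, pow_two, hel _ haK]) ha1
    (mem_centralizer_singleton_iff.mpr (hgc a (mem_centIn.mpr ⟨⟨a, haK, 1, one_mem _, (mul_one _).symm⟩, hax⟩)))⟩

/-- Four fixed points and cyclic factors of order four. -/
theorem Move.cyclic_case (hcy : ∃ a ∈ W ⊓ KS Ω z, a * a ≠ 1) (hW : Nat.card W = 16 ∨ Nat.card W = 32) :
    Cfsg.SectionalPRankLE 2 4 G := by
  classical
  set E := h.prod X with hE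
  have hzS := h.le_left h.zW
  have hC : centIn (S : Subgroup G) z = W := le_antisymm h.cent_le' fun w hw =>
    mem_centIn.mpr ⟨h.le_left hw, h.central_cyclic X hK hcy hw⟩
  by_cases hinv : ∃ x ∈ W, x ∉ E ∧ x * x = 1
  · obtain ⟨x, hx, hxE, hxx⟩ := hinv
    have h32 : Nat.card W = 32 := hW.resolve_left fun e => hxE (by
      rw [hE, eq_of_le_of_card_ge (h.prod_le X hK) (by rw [h.card_prod X hK, e])]; exact hx)
    set A := centIn W x with hA
    have hz' : (s * z * s⁻¹) * (s * z * s⁻¹) = 1 := by rw [← pow_two]; exact h.top'.sq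
    have hzz : z * z = 1 := by rw [← pow_two]; exact h.top.sq
    have hzK : z ∈ W ⊓ KS Ω z := ⟨h.zW, self_mem_KS z⟩
    have hzK' : s * z * s⁻¹ ∈ W ⊓ KS Ω (s * z * s⁻¹) := ⟨h.zW', self_mem_KS _⟩
    have hxz : Commute x z := h.central_cyclic X hK hcy hx
    obtain ⟨h1, h2, h3⟩ := h.card_cent_prod X hK h32 hx hxE
    -- the fixed points of `x` on the product
    have hfix : ∀ e ∈ E, e * x = x * e → e * e = 1 := fun e he hex => by
      obtain ⟨a, ha, b, hb, rfl⟩ := he
      obtain ⟨ea, eb⟩ := h.cent_split X hK hx ha hb hex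
      have hsq : ∀ u : G, orderOf u = 2 → u ∈ W ⊓ KS Ω u → x * u = u * x →
          Nat.card (centIn (W ⊓ KS Ω u) x) ≤ 2 → ∀ c ∈ centIn (W ⊓ KS Ω u) x, c * c = 1 := fun u hu huK hux hle c hc => by
        have h2' : Nat.card (centIn (W ⊓ KS Ω u) x) = 2 := le_antisymm hle (Nat.le_of_dvd Nat.card_pos
          (hu ▸ orderOf_dvd_natCard _ (mem_centIn.mpr ⟨huK, hux.symm⟩)))
        rw [← pow_two]
        exact congrArg Subtype.val (h2' ▸ pow_card_eq_one' (x := (⟨c, hc⟩ : centIn (W ⊓ KS Ω u) x)))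
      have hxz' : x * (s * z * s⁻¹) = s * z * s⁻¹ * x := by
        obtain ⟨w₀, hw₀, rfl⟩ := h.norm_inv hx
        exact CfsgLib.Bender.Q.conj_comm (h.central_cyclic X hK hcy hw₀)
      rw [(h.commute_factors X ha hb).symm.mul_mul_mul_comm, hsq z h.top.1 hzK hxz h2 a (mem_centIn.mpr ⟨ha, ea⟩),
        hsq _ h.top'.1 hzK' hxz' h3 b (mem_centIn.mpr ⟨hb, eb⟩), one_mul]
    have hA2 : ∀ g ∈ A, g * g = 1 := fun g hg => by
      obtain ⟨hgW, hgx⟩ := mem_centIn.mp hg
      by_cases hgE : g ∈ E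
      · exact hfix g hgE hgx
      · have hm := h.index_two X hK h32 hgW hx hgE hxE
        have hcm : Commute g x := hgx
        have := hfix (g * x) hm (hcm.mul_left (Commute.refl x)).eq
        rwa [hcm.symm.mul_mul_mul_comm, hxx, mul_one] at this
    have hAc : ∀ a ∈ A, ∀ b ∈ A, a * b = b * a := fun a ha b hb => congrArg Subtype.val
      (MacWilliams.exp_two_comm (fun v : A => Subtype.ext (by simpa [pow_two] using hA2 v v.2)) ⟨a, ha⟩ ⟨b, hb⟩)
    have hxA : x ∈ A := mem_centIn.mpr ⟨hx, rfl⟩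
    have hzA : z ∈ A := mem_centIn.mpr ⟨h.zW, hxz.symm.eq⟩
    -- eight elements
    have hle : Nat.card A ≤ 8 := by
      have hsub : Nat.card A ≤ Nat.card (centIn E x × Bool) := by
        refine Nat.card_le_card_of_injective (fun g => if hg : (g : G) ∈ E
          then (⟨g, mem_centIn.mpr ⟨hg, (mem_centIn.mp g.2).2⟩⟩, false)
          else (⟨g * x, mem_centIn.mpr ⟨h.index_two X hK h32 (mem_centIn.mp g.2).1 hx hg hxE,
            ((show Commute (g : G) x from (mem_centIn.mp g.2).2).mul_left (Commute.refl x)).eq⟩⟩, true)) ?_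
        intro a b e
        simp only at e
        split_ifs at e <;> simp at e
        · exact e
        · exact e
      rw [Nat.card_prod, show Nat.card Bool = 2 by simp] at hsub
      nlinarith
    have hge : 8 ≤ Nat.card A := by
      have hz'A : s * z * s⁻¹ ∈ A := by
        obtain ⟨w₀, hw₀, rfl⟩ := h.norm_inv hx
        exact mem_centIn.mpr ⟨h.zW', (CfsgLib.Bender.Q.conj_comm (h.central_cyclic X hK hcy hw₀)).symm⟩
      have hf : Function.Injective (fun p : (Bool × Bool) × Bool => (⟨(cond p.1.1 z 1) * (cond p.1.2 (s * z * s⁻¹) 1) *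
          cond p.2 x 1, A.mul_mem (A.mul_mem (by cases p.1.1 <;> first | exact one_mem _ | exact hzA)
          (by cases p.1.2 <;> first | exact one_mem _ | exact hz'A))
          (by cases p.2 <;> first | exact one_mem _ | exact hxA)⟩ : A)) := by
        rintro ⟨⟨a, b⟩, c⟩ ⟨⟨a', b'⟩, c'⟩ e
        have e' := congrArg Subtype.val e
        simp only at e'
        have hK1 : ∀ a : Bool, cond a z 1 ∈ W ⊓ KS Ω z := fun a => by cases a <;> first | exact one_mem _ | exact hzK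
        have hK2 : ∀ a : Bool, cond a (s * z * s⁻¹) 1 ∈ W ⊓ KS Ω (s * z * s⁻¹) := fun a => by
          cases a <;> first | exact one_mem _ | exact hzK'
        have hmem : ∀ a b : Bool, cond a z 1 * cond b (s * z * s⁻¹) 1 ∈ E := fun a b => ⟨_, hK1 a, _, hK2 b, rfl⟩
        have hc : c = c' := by
          cases c <;> cases c' <;> simp only [cond_true, cond_false, mul_one] at e' <;> try rfl
          · exact absurd ((E.mul_mem_cancel_left (hmem a' b')).mp (e' ▸ hmem a b)) hxE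
          · exact absurd ((E.mul_mem_cancel_left (hmem a b)).mp (e'.symm ▸ hmem a' b')) hxE
        subst hc
        obtain ⟨e1, e2⟩ := h.prod_unique X hK (hK1 a) (hK2 b) (hK1 a') (hK2 b') (mul_right_cancel e')
        have ha : a = a' := by
          cases a <;> cases a' <;> simp only [cond_true, cond_false] at e1 <;> first | rfl | exact absurd e1 (X.ne_one h.top) | exact absurd e1.symm (X.ne_one h.top)
        have hb : b = b' := by
          cases b <;> cases b' <;> simp only [cond_true, cond_false] at e2 <;> first | rfl | exact absurd e2 (X.ne_one h.top') | exact absurd e2.symm (X.ne_one h.top')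
        rw [ha, hb]
      have := Nat.card_le_card_of_injective _ hf
      simpa using this
    refine rank_self_eight S (inf_le_left.trans h.le_left) hAc hA2 (le_antisymm hle hge) fun g hg hgA => ?_
    exact mem_centIn.mpr ⟨hC ▸ mem_centIn.mpr ⟨hg, hgA z hzA⟩, hgA x hxA⟩
  · push Not at hinv
    refine rank_no_eight S hzS h.top.1 fun B hB hB2 => ?_
    rw [hC] at hB
    have hsub : (B : Set G) ⊆ ↑({1, z, s * z * s⁻¹, z * (s * z * s⁻¹)} : Finset G) := fun b hb => by
      have hbE : b ∈ E := by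
        by_contra hn
        exact hinv b (hB hb) hn (hB2 b hb)
      rcases h.split_sq X hK hcy hbE (hB2 b hb) with rfl | rfl | rfl | rfl <;> simp
    have := Set.ncard_le_ncard hsub (Finset.finite_toSet _)
    rw [Set.ncard_coe_finset, ← Nat.card_coe_set_eq] at this
    exact lt_of_le_of_lt (this.trans Finset.card_le_four) (by norm_num)

omit hK

/-- Four fixed points. -/
theorem Move.four : Cfsg.SectionalPRankLE 2 4 G := by
  haveI : Fact (Nat.Prime 2) := ⟨Nat.prime_two⟩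
  obtain ⟨j, hj⟩ := IsPGroup.iff_card.1 (h.pGroup.to_le (inf_le_left : W ⊓ KS Ω z ≤ W))
  have hd := h.diff_bound
  have hR := (Nat.le_of_dvd (Nat.pos_of_ne_zero hd.1) (h.card_dvd X)).trans hd.2
  rw [hj] at hR
  have hj2 : j ≤ 2 := (Nat.pow_le_pow_iff_right one_lt_two).mp (show 2 ^ j ≤ 2 ^ 2 by omega)
  have hj0 : j ≠ 0 := fun e => by
    have hzK : z ∈ W ⊓ KS Ω z := ⟨h.zW, self_mem_KS z⟩
    rw [e, pow_zero] at hj
    rw [card_eq_one.mp hj, mem_bot] at hzK
    exact X.ne_one h.top hzK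
  have hdvd := card_dvd_mul_factorial (Ω := Ω) h.le_MS
  rw [h.top.2, hj, show (4 : ℕ).factorial = 8 * 3 from rfl, ← mul_assoc] at hdvd
  have hWd := two_pow_dvd h.pGroup (by decide) hdvd
  rcases (show j = 1 ∨ j = 2 by omega) with rfl | rfl
  · -- the pointwise stabiliser is generated by `z`
    have hC : centIn (S : Subgroup G) z = W := le_antisymm h.cent_le' fun w hw => by
      refine mem_centIn.mpr ⟨h.le_left hw, ?_⟩
      have hm : w * z * w⁻¹ ∈ W ⊓ KS Ω z :=
        ⟨W.mul_mem (W.mul_mem hw h.zW) (W.inv_mem hw), KS_conj (h.le_MS hw) (self_mem_KS z)⟩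
      haveI : Fintype ↥(W ⊓ KS Ω z) := Fintype.ofFinite _
      have h2 : Nat.card ↥(W ⊓ KS Ω z) = 2 := hj
      have hz : (⟨z, h.zW, self_mem_KS z⟩ : ↥(W ⊓ KS Ω z)) ≠ 1 := fun e => X.ne_one h.top (congrArg Subtype.val e :)
      have hu : (⟨w * z * w⁻¹, hm⟩ : ↥(W ⊓ KS Ω z)) ≠ 1 := fun e =>
        X.ne_one h.top (conj_eq_one_iff.mp (congrArg Subtype.val e :))
      obtain ⟨x, hx, huniq⟩ := (Nat.card_eq_two_iff' (1 : ↥(W ⊓ KS Ω z))).mp h2
      exact mul_inv_eq_iff_eq_mul.mp (congrArg Subtype.val ((huniq _ hu).trans (huniq _ hz).symm) :)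
    have h16 : Nat.card W ≤ 16 := Nat.le_of_dvd (by norm_num) (hWd.trans (dvd_of_eq rfl))
    refine rank_small S (h.le_left h.zW) h.top.1 (hC ▸ h16) fun e16 => ?_
    rw [hC] at e16 ⊢
    exact exists_noncomm h.top.2 h.le_MS (by rw [e16, hj]; rfl)
  · have hK : Nat.card ↥(W ⊓ KS Ω z) = 4 := hj
    have h16 : 16 ≤ Nat.card W := (h.card_prod X hK).symm.le.trans (card_le_of_le (h.prod_le X hK))
    have hW : Nat.card W = 16 ∨ Nat.card W = 32 := by
      obtain ⟨i, hi, hi'⟩ := (Nat.dvd_prime_pow Nat.prime_two).mp (show Nat.card W ∣ 2 ^ 5 from hWd)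
      rw [hi'] at h16 ⊢
      interval_cases i <;> simp_all
    by_cases hel : ∀ a ∈ W ⊓ KS Ω z, a * a = 1
    · rcases hW with hW | hW
      · have hEW : h.prod X = W := eq_of_le_of_card_ge (h.prod_le X hK) (by rw [h.card_prod X hK, hW])
        have hWc : ∀ a ∈ W, ∀ b ∈ W, a * b = b * a := fun a ha b hb =>
          h.prod_comm X hK (hEW.ge ha) (hEW.ge hb)
        refine rank_setup S (T := W) (B := W ⊓ KS Ω z) h.le_left hWc
          (fun a ha => h.elementary X hK hel (hEW.ge ha)) hW inf_le_left hK fun b hb hb1 => ?_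
        refine le_antisymm (fun g hg => h.eqW.ge ⟨hg.1, ?_⟩)
          fun w hw => mem_centIn.mpr ⟨h.le_left hw, hWc w hw b hb.1⟩
        exact X.centralizer_le h.top hb.2 (i := 1) (by rw [pow_one, pow_two, hel b hb]) hb1 hg.2
      · exact h.elementary_case X hK hel hW
    · push Not at hel
      exact h.cyclic_case X hK hel hW

end CfsgLib.FixityFour
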