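import Cfsg.Agent.Lib.FixityFour.TwoFour
import Cfsg.Agent.Lib.FixityFour.TwoMoveMain
import Cfsg.Agent.Lib.FixityFour.ThreeStay
import Cfsg.Agent.Lib.FixityFour.ThreeCount
import Cfsg.Agent.Lib.BaseThree.Classes
import Cfsg.Agent.Lib.Fusion.GLTwoSylow
import Cfsg.Agent.Lib.Bender.Q.Main

/-!
Simple groups of fixity four.
-/

set_option autoImplicit false
set_option linter.unusedSectionVars false
set_option linter.style.haveILetI false

namespace CfsgLib.FixityFour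

open MulAction Subgroup
open scoped Pointwise

universe u v

variable {G : Type u} [Group G] [Finite G] [IsSimpleGroup G] {Ω : Type v} [MulAction G Ω] [Finite Ω]
  [FaithfulSMul G Ω] (hna : ¬ IsMulCommutative G) (htrans : IsPretransitive G Ω)
include hna htrans

/-- No small invariant set. -/
theorem proper_set {s : Set Ω} (hs : s.Nonempty) (h4 : s.ncard ≤ 4) : stabilizer G s ≠ ⊤ := by
  intro e
  have huniv : s = Set.univ := by
    refine Set.eq_univ_iff_forall.mpr fun y => ?_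
    obtain ⟨x, hx⟩ := hs
    obtain ⟨g, rfl⟩ := htrans.exists_smul_eq x y
    exact (mem_stabilizer_iff.mp (e.ge (mem_top g))).le ⟨x, hx, rfl⟩
  have hc : Nat.card Ω ≤ 4 := by rw [← Set.ncard_univ, ← huniv]; exact h4
  haveI : Group.IsSolvable (Equiv.Perm Ω) := CfsgLib.BaseThree.solvable_perm_le_four hc
  haveI : Group.IsSolvable G :=
    Group.isSolvable_of_isSolvable_injective (f := MulAction.toPermHom G Ω) MulAction.toPerm_injective
  exact hna ⟨⟨IsSimpleGroup.comm_iff_isSolvable.mpr inferInstance⟩⟩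

theorem fix_of_bound (hfix : ∀ g : G, g ≠ 1 → Nat.card (fixedBy Ω g) ≤ 4) {p k : ℕ} (hp : p.Prime) (hk : 1 ≤ k)
    (htop : ∀ g : G, orderOf g = p → (fixedBy Ω g).ncard ≤ k) : Fix G Ω p k :=
  ⟨fun g hg => by rw [← Nat.card_coe_set_eq]; exact hfix g hg, hp, hk, htop,
    fun s hs h4 => proper_set hna htrans hs h4⟩

/-- One fixed point: point stabilisers are strongly embedded. -/
theorem one_point (hbound : ∀ g : G, orderOf g = 2 → (fixedBy Ω g).ncard ≤ 1) {g₀ : G} (hg₀ : orderOf g₀ = 2)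
    (h1 : (fixedBy Ω g₀).ncard = 1) (a : Ω) : Cfsg.IsStronglyEmbedded (stabilizer G a) := by
  haveI : Fact (Nat.Prime 2) := ⟨Nat.prime_two⟩
  have hne : stabilizer G a ≠ ⊤ := fun e => proper_set hna htrans (Set.singleton_nonempty a) (by simp)
    (top_le_iff.mp fun g _ => mem_stabilizer_iff.mpr
      (by rw [Set.smul_set_singleton, mem_stabilizer_iff.mp (e.ge (mem_top g))]))
  obtain ⟨b, hb⟩ := (Set.ncard_pos (Set.toFinite _)).mp (h1.symm ▸ Nat.one_pos : 0 < (fixedBy Ω g₀).ncard)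
  obtain ⟨c, hc⟩ := htrans.exists_smul_eq b a
  refine ⟨hne, ?_, fun g hg => ?_⟩
  · have hmem : c * g₀ * c⁻¹ ∈ stabilizer G a := mem_stabilizer_iff.mpr (by
      rw [← hc, mul_smul, mul_smul, inv_smul_smul, hb])
    rw [even_iff_two_dvd, ← hg₀, ← (show orderOf (c * g₀ * c⁻¹) = orderOf g₀ from
      MulEquiv.orderOf_eq (MulAut.conj c) g₀)]
    exact Subgroup.orderOf_dvd_natCard _ hmem
  · refine Nat.not_even_iff_odd.mp fun he => hg (mem_stabilizer_iff.mpr ?_)
    obtain ⟨⟨x, hx, hxg⟩, hx2⟩ := exists_prime_orderOf_dvd_card' 2 (even_iff_two_dvd.mp he)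
    rw [← Subgroup.orderOf_coe] at hx2
    obtain ⟨y, hy, hyx⟩ := hxg
    have hxa : x • a = a := hx
    have hxga : x • g • a = g • a := by
      rw [← hyx]
      show (g * y * g⁻¹) • g • a = g • a
      rw [mul_smul, mul_smul, inv_smul_smul, mem_stabilizer_iff.mp hy]
    exact (Set.ncard_le_one (Set.toFinite _)).mp (hbound x hx2) (g • a) hxga a hxa

/-- The part for involutions. -/
theorem two_part (hfix : ∀ g : G, g ≠ 1 → Nat.card (fixedBy Ω g) ≤ 4) (S : Sylow 2 G) {f : ℕ}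
    (hf : ∀ g : G, orderOf g = 2 → (fixedBy Ω g).ncard ≤ f) {g₀ : G} (hg₀ : orderOf g₀ = 2)
    (hf' : (fixedBy Ω g₀).ncard = f) (hf1 : 1 ≤ f) (a : Ω) :
    (∃ H : Subgroup G, Cfsg.IsStronglyEmbedded H) ∨
      (f ≤ 3 ∧ ((∃ n : ℕ, Nonempty ((S : Subgroup G) ≃* DihedralGroup n)) ∨ Cfsg.IsQuasiDihedral (S : Subgroup G))) ∨
      (f = 4 ∧ Cfsg.SectionalPRankLE 2 4 G) := by
  haveI : Fact (Nat.Prime 2) := ⟨Nat.prime_two⟩
  by_cases hone : f = 1
  · subst hone
    exact Or.inl ⟨_, one_point hna htrans hf hg₀ hf' a⟩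
  have X := fix_of_bound hna htrans hfix Nat.prime_two hf1 hf
  have hz₀ : IsTopFix Ω 2 f g₀ := ⟨hg₀, hf'⟩
  have hf4 : f ≤ 4 := X.k_le hz₀
  have transfer : ∀ T : Sylow 2 G,
      ((∃ n : ℕ, Nonempty ((T : Subgroup G) ≃* DihedralGroup n)) ∨ Cfsg.IsQuasiDihedral (T : Subgroup G)) →
      (∃ n : ℕ, Nonempty ((S : Subgroup G) ≃* DihedralGroup n)) ∨ Cfsg.IsQuasiDihedral (S : Subgroup G) := by
    intro T hT
    exact hT.imp (fun ⟨n, ⟨e⟩⟩ => ⟨n, ⟨(S.equiv T).trans e⟩⟩)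
      (CfsgLib.GLTwoSylow.isQuasiDihedral_congr (T.equiv S))
  by_cases hA : ∀ z : G, IsTopFix Ω 2 f z → ∃ T : Sylow 2 G, (T : Subgroup G) ≤ MS Ω z
  · obtain ⟨T, hT⟩ := hA g₀ hz₀
    obtain ⟨z, hst⟩ := exists_stay X hT hz₀ S
    by_cases hcl : ∀ t ∈ S, IsTopFix Ω 2 f t → fixedBy Ω t = fixedBy Ω z
    · exact Or.inl (stay_clean CfsgLib.Bender.Q.theoremQ X hst hcl)
    push Not at hcl
    obtain ⟨t, htS, ht, hne⟩ := hcl
    rcases Nat.lt_or_ge f 4 with h3 | h4
    · exact Or.inr (Or.inl ⟨by omega, stay_small X hst htS ht hne (by omega)⟩)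
    · obtain rfl : f = 4 := by omega
      exact Or.inr (Or.inr ⟨rfl, stay_four X hA hst htS ht hne⟩)
  · push Not at hA
    obtain ⟨z, hz, hno⟩ := hA
    obtain ⟨T, W, s, hm⟩ := exists_move_of X hz hno
    rcases Nat.lt_or_ge f 4 with h3 | h4
    · exact Or.inr (Or.inl ⟨by omega, transfer T (hm.small X (by omega))⟩)
    · obtain rfl : f = 4 := by omega
      exact Or.inr (Or.inr ⟨rfl, hm.four X⟩)

/-- The part for elements of order three. -/
theorem three_part (hfix : ∀ g : G, g ≠ 1 → Nat.card (fixedBy Ω g) ≤ 4) (hodd : OddStab G Ω) (P : Sylow 3 G) {a : Ω}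
    (h3 : 3 ∣ Nat.card (stabilizer G a)) :
    (∃ H : Subgroup G, H ≠ ⊤ ∧ 3 ∣ Nat.card H ∧
        ∀ g : G, g ∉ H → ¬ 3 ∣ Nat.card ↥(H ⊓ H.map (MulAut.conj g).toMonoidHom)) ∨
      (Nat.card P = 3 ∧ ∀ T : Sylow 2 (normalizer ((P : Subgroup G) : Set G)), Nat.card T ≤ 4) ∨
      (Nat.card P = 9 ∧ ∀ x ∈ (P : Subgroup G), x ^ 3 = 1) := by
  classical
  haveI : Fact (Nat.Prime 3) := ⟨Nat.prime_three⟩
  haveI : Fintype G := Fintype.ofFinite G
  obtain ⟨⟨u, hu⟩, hu3⟩ := exists_prime_orderOf_dvd_card' 3 h3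
  rw [← Subgroup.orderOf_coe] at hu3
  obtain ⟨z₀, hz₀, hmax⟩ := Finset.exists_max_image (Finset.univ.filter fun g : G => orderOf g = 3)
    (fun g => (fixedBy Ω g).ncard) ⟨u, Finset.mem_filter.mpr ⟨Finset.mem_univ _, hu3⟩⟩
  obtain ⟨-, hz₀3⟩ := Finset.mem_filter.mp hz₀
  set k := (fixedBy Ω z₀).ncard with hk
  have hk1 : 1 ≤ k := by
    refine le_trans ?_ (hmax u (Finset.mem_filter.mpr ⟨Finset.mem_univ _, hu3⟩))
    exact (Set.ncard_pos (Set.toFinite _)).mpr ⟨a, hu⟩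
  have X := fix_of_bound hna htrans hfix Nat.prime_three hk1
    (fun g hg => hmax g (Finset.mem_filter.mpr ⟨Finset.mem_univ _, hg⟩))
  have htop : IsTopFix Ω 3 k z₀ := ⟨hz₀3, rfl⟩
  by_cases hP3 : Nat.card P = 3
  · refine Or.inr (Or.inl ⟨hP3, fun T => ?_⟩)
    have hp : IsPGroup 3 (zpowers z₀) := IsPGroup.of_card (n := 1) (by rw [Nat.card_zpowers, hz₀3, pow_one])
    obtain ⟨Q, hQ⟩ := hp.exists_le_sylow
    obtain ⟨g, hg⟩ := MulAction.exists_smul_eq G Q P
    set z := g * z₀ * g⁻¹ with hz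
    have hztop : IsTopFix Ω 3 k z := htop.conj g
    have hzP : z ∈ (P : Subgroup G) := by
      rw [← hg, Sylow.coe_subgroup_smul]
      exact ⟨z₀, hQ (mem_zpowers z₀), rfl⟩
    have hPz : zpowers z = (P : Subgroup G) := eq_of_le_of_card_ge (zpowers_le.mpr hzP) (by
      rw [Nat.card_zpowers, hztop.1]; exact hP3.le)
    have hN : ∀ n ∈ normalizer ((P : Subgroup G) : Set G), n ∈ MS Ω z := fun n hn => by
      refine mem_stabilizer_iff.mpr ?_
      rw [← fixedBy_conj]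
      exact (X.top_eq hztop (hztop.conj n).1
        (zpowers_le.mpr (self_mem_KS z) (hPz.ge ((mem_normalizer_iff.mp hn z).mp hzP)))).1
    set T' := (T : Subgroup (normalizer ((P : Subgroup G) : Set G))).map (normalizer ((P : Subgroup G) : Set G)).subtype
    have hd : Nat.card T' ∣ (fixedBy Ω z).ncard := card_dvd_of_free _
      (fun r hr y hy => mem_fixed_of_mem (hN r (map_subtype_le _ hr)) hy) fun r hr y hy e => by
        obtain ⟨i, hi⟩ := (T.2.map _ : IsPGroup 2 T') ⟨r, hr⟩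
        exact no_two_element hodd (congrArg Subtype.val hi :) e
    have hTT : Nat.card T = Nat.card T' := Nat.card_congr (Subgroup.equivMapOfInjective
      (T : Subgroup (normalizer ((P : Subgroup G) : Set G))) _ (subtype_injective _)).toEquiv
    rw [hTT]
    exact (Nat.le_of_dvd (by rw [hztop.2]; omega) hd).trans (hztop.2.le.trans (X.k_le hztop))
  by_cases hM : Moves G Ω k
  · exact (moves_false X hM hodd hna htop).elim
  unfold Moves at hM
  push Not at hM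
  obtain ⟨z', hz', T, hT⟩ := hM
  obtain ⟨z, hst⟩ := exists_stay X hT hz' P
  by_cases hcl : ∀ w ∈ P, IsTopFix Ω 3 k w → w ∈ KS Ω z
  · exact Or.inl (strongly_three X hodd hna hst hcl)
  push Not at hcl
  obtain ⟨w, hwP, hw, hwK⟩ := hcl
  exact Or.inr (Or.inr (outside_nine X hodd hna hst hwP hw hwK))

end CfsgLib.FixityFour
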