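import Mathlib

/-!
Elements of a prime order fixing as many points as possible: stabilisers of their fixed sets.
-/

set_option autoImplicit false
set_option linter.unusedSectionVars false
set_option linter.style.haveILetI false

namespace CfsgLib.FixityFour

open MulAction
open scoped Pointwise

universe u v

variable {G : Type u} [Group G] [Finite G] {Ω : Type v} [MulAction G Ω] [Finite Ω]

/-- A faithful action of fixity at most four in which elements of order `p` fix at most `k` points. -/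
structure Fix (G : Type u) (Ω : Type v) [Group G] [MulAction G Ω] (p k : ℕ) : Prop where
  bound : ∀ g : G, g ≠ 1 → (fixedBy Ω g).ncard ≤ 4
  prime : p.Prime
  pos : 1 ≤ k
  top : ∀ g : G, orderOf g = p → (fixedBy Ω g).ncard ≤ k
  proper : ∀ s : Set Ω, s.Nonempty → s.ncard ≤ 4 → stabilizer G s ≠ ⊤

/-- Elements of order `p` fixing `k` points. -/
def IsTopFix (Ω : Type v) [MulAction G Ω] (p k : ℕ) (g : G) : Prop :=
  orderOf g = p ∧ (fixedBy Ω g).ncard = k

/-- The stabiliser of the fixed set. -/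
abbrev MS (Ω : Type v) [MulAction G Ω] (z : G) : Subgroup G := stabilizer G (fixedBy Ω z)

/-- The pointwise stabiliser of the fixed set. -/
abbrev KS (Ω : Type v) [MulAction G Ω] (z : G) : Subgroup G := fixingSubgroup G (fixedBy Ω z)

theorem mem_KS {z g : G} : g ∈ KS Ω z ↔ ∀ y ∈ fixedBy Ω z, g • y = y := mem_fixingSubgroup_iff G

theorem KS_le_MS (z : G) : KS Ω z ≤ MS Ω z := by
  intro g hg
  refine mem_stabilizer_iff.mpr ?_
  ext y
  constructor
  · rintro ⟨w, hw, rfl⟩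
    show g • w ∈ fixedBy Ω z
    rwa [mem_KS.mp hg w hw]
  · exact fun hy => ⟨y, hy, mem_KS.mp hg y hy⟩

theorem self_mem_KS (z : G) : z ∈ KS Ω z := mem_KS.mpr fun _ hy => hy

theorem mem_fixed_of_mem {z g : G} (hg : g ∈ MS Ω z) {y : Ω} (hy : y ∈ fixedBy Ω z) : g • y ∈ fixedBy Ω z :=
  (mem_stabilizer_iff.mp hg).le ⟨y, hy, rfl⟩

/-- The pointwise stabiliser is normal in the stabiliser. -/
theorem KS_conj {z g k : G} (hg : g ∈ MS Ω z) (hk : k ∈ KS Ω z) : g * k * g⁻¹ ∈ KS Ω z :=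
  mem_KS.mpr fun y hy => by
    rw [mul_smul, mul_smul, mem_KS.mp hk _ (mem_fixed_of_mem (inv_mem hg) hy), smul_inv_smul]

theorem MS_conj (g z : G) {x : G} (hx : x ∈ MS Ω z) : g * x * g⁻¹ ∈ MS Ω (g * z * g⁻¹) := by
  show (g * x * g⁻¹) • fixedBy Ω (g * z * g⁻¹) = fixedBy Ω (g * z * g⁻¹)
  rw [← smul_fixedBy, smul_smul, show g * x * g⁻¹ * g = g * x by group, mul_smul, mem_stabilizer_iff.mp hx]

theorem IsTopFix.conj {p k : ℕ} {z : G} (hz : IsTopFix Ω p k z) (g : G) : IsTopFix Ω p k (g * z * g⁻¹) := by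
  refine ⟨by rw [show g * z * g⁻¹ = MulAut.conj g z from rfl, MulEquiv.orderOf_eq, hz.1], ?_⟩
  rw [← smul_fixedBy, ← Nat.card_coe_set_eq, Set.natCard_smul_set, Nat.card_coe_set_eq, hz.2]

theorem fixedBy_subset_pow (g : G) (i : ℕ) : fixedBy Ω g ⊆ fixedBy Ω (g ^ i) := fun y hy => by
  induction i with
  | zero => simp
  | succ i ih => show g ^ (i + 1) • y = y; rw [pow_succ, mul_smul, hy, ih]

theorem fixedBy_inv' (g : G) : fixedBy Ω g⁻¹ = fixedBy Ω g := by
  ext y
  show g⁻¹ • y = y ↔ g • y = y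
  rw [inv_smul_eq_iff, eq_comm]

theorem centralizer_le_MS (z : G) : Subgroup.centralizer ({z} : Set G) ≤ MS Ω z := fun g hg => by
  refine mem_stabilizer_iff.mpr ?_
  rw [smul_fixedBy, Subgroup.mem_centralizer_singleton_iff.mp hg, mul_inv_cancel_right]

namespace Fix

variable {p k : ℕ} (X : Fix G Ω p k)
include X

theorem k_le {z : G} (hz : IsTopFix Ω p k z) : k ≤ 4 := by
  rw [← hz.2]
  exact X.bound z fun e => by
    have := hz.1; rw [e, orderOf_one] at this; exact X.prime.ne_one this.symm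

theorem ne_one {z : G} (hz : IsTopFix Ω p k z) : z ≠ 1 := fun e =>
  X.prime.ne_one (by rw [← hz.1, e, orderOf_one])

theorem MS_ne_top {z : G} (hz : IsTopFix Ω p k z) : MS Ω z ≠ ⊤ :=
  X.proper _ (Set.ncard_pos (Set.toFinite _) |>.mp (by rw [hz.2]; exact X.pos)) (by rw [hz.2]; exact X.k_le hz)

/-- A `p`-element fixing the set pointwise fixes nothing else. -/
theorem fixed_eq {z g : G} (hz : IsTopFix Ω p k z) (hg : g ∈ KS Ω z) {i : ℕ} (hgp : g ^ p ^ i = 1) (hg1 : g ≠ 1) :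
    fixedBy Ω g = fixedBy Ω z := by
  haveI := Fact.mk X.prime
  obtain ⟨j, -, hj⟩ := (Nat.dvd_prime_pow X.prime).mp (orderOf_dvd_of_pow_eq_one hgp)
  have hsub : fixedBy Ω z ⊆ fixedBy Ω g := fun y hy => mem_KS.mp hg y hy
  refine (Set.eq_of_subset_of_ncard_le hsub ?_ (Set.toFinite _)).symm
  have hj0 : j ≠ 0 := fun e => hg1 (orderOf_eq_one_iff.mp (by rw [hj, e, pow_zero]))
  have ho : orderOf (g ^ p ^ (j - 1)) = p := by
    rw [orderOf_pow_of_dvd (pow_ne_zero _ X.prime.ne_zero) (hj ▸ pow_dvd_pow p (by omega)), hj,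
      Nat.pow_div (by omega) X.prime.pos, show j - (j - 1) = 1 by omega, pow_one]
  calc (fixedBy Ω g).ncard ≤ (fixedBy Ω (g ^ p ^ (j - 1))).ncard :=
        Set.ncard_le_ncard (fixedBy_subset_pow g _) (Set.toFinite _)
    _ ≤ k := X.top _ ho
    _ = _ := hz.2.symm

/-- A `p`-element fixing two such sets identifies them. -/
theorem fixed_inj {z z' g : G} (hz : IsTopFix Ω p k z) (hz' : IsTopFix Ω p k z') (hg : g ∈ KS Ω z)
    (hg' : g ∈ KS Ω z') {i : ℕ} (hgp : g ^ p ^ i = 1) (hg1 : g ≠ 1) : fixedBy Ω z = fixedBy Ω z' :=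
  (X.fixed_eq hz hg hgp hg1).symm.trans (X.fixed_eq hz' hg' hgp hg1)

theorem centralizer_le {z g : G} (hz : IsTopFix Ω p k z) (hg : g ∈ KS Ω z) {i : ℕ} (hgp : g ^ p ^ i = 1)
    (hg1 : g ≠ 1) : Subgroup.centralizer ({g} : Set G) ≤ MS Ω z := by
  have h := centralizer_le_MS (Ω := Ω) g
  rwa [MS, X.fixed_eq hz hg hgp hg1] at h

end Fix

/-- The action on the fixed set. -/
def onSet (z : G) : MS Ω z →* Equiv.Perm (fixedBy Ω z) where
  toFun g :=
    { toFun := fun y => ⟨(g : G) • (y : Ω), mem_fixed_of_mem g.2 y.2⟩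
      invFun := fun y => ⟨(g : G)⁻¹ • (y : Ω), mem_fixed_of_mem (inv_mem g.2) y.2⟩
      left_inv := fun y => Subtype.ext (inv_smul_smul _ _)
      right_inv := fun y => Subtype.ext (smul_inv_smul _ _) }
  map_one' := Equiv.ext fun y => Subtype.ext (one_smul G (y : Ω))
  map_mul' g h := Equiv.ext fun y => Subtype.ext (mul_smul (g : G) h (y : Ω))

theorem onSet_eq_one {z : G} {g : MS Ω z} : onSet z g = 1 ↔ (g : G) ∈ KS Ω z := by
  rw [mem_KS]
  exact ⟨fun e y hy => congrArg Subtype.val (Equiv.congr_fun e ⟨y, hy⟩),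
    fun e => Equiv.ext fun y => Subtype.ext (e y y.2)⟩

/-- The order of a subgroup of the stabiliser. -/
theorem card_dvd_mul_factorial {z : G} {W : Subgroup G} (hW : W ≤ MS Ω z) :
    Nat.card W ∣ Nat.card ↥(W ⊓ KS Ω z) * ((fixedBy Ω z).ncard).factorial := by
  classical
  haveI := Fintype.ofFinite (fixedBy Ω z)
  let f : W →* Equiv.Perm (fixedBy Ω z) := (onSet z).comp (Subgroup.inclusion hW)
  rw [Subgroup.card_eq_card_quotient_mul_card_subgroup f.ker, mul_comm]
  refine mul_dvd_mul (dvd_of_eq ?_) ?_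
  · refine Nat.card_congr
      { toFun := fun g => ⟨((g : W) : G), (g : W).2, onSet_eq_one.mp g.2⟩
        invFun := fun g => ⟨⟨(g : G), g.2.1⟩, onSet_eq_one.mpr g.2.2⟩
        left_inv := fun _ => rfl
        right_inv := fun _ => rfl }
  · rw [Nat.card_congr (QuotientGroup.quotientKerEquivRange f).toEquiv]
    refine (Subgroup.card_subgroup_dvd_card _).trans (dvd_of_eq ?_)
    rw [Nat.card_eq_fintype_card, Fintype.card_perm, ← Nat.card_eq_fintype_card, Nat.card_coe_set_eq]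

/-- A group moving a set without fixed points has order dividing its size. -/
theorem card_dvd_of_free {R : Subgroup G} (D : Set Ω) (hD : ∀ r ∈ R, ∀ y ∈ D, r • y ∈ D)
    (hfree : ∀ r ∈ R, ∀ y ∈ D, r • y = y → r = 1) : Nat.card R ∣ D.ncard := by
  classical
  let A : SubMulAction R Ω :=
    { carrier := D
      smul_mem' := fun r y hy => hD r r.2 y hy }
  have horb : ∀ y : A, Nat.card (MulAction.orbit R y) = Nat.card R := fun y => by
    rw [Nat.card_coe_set_eq, ← MulAction.index_stabilizer]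
    have hb : MulAction.stabilizer R y = ⊥ := (Subgroup.eq_bot_iff_forall _).mpr fun r hr =>
      Subtype.ext (hfree r r.2 y y.2 (congrArg Subtype.val hr))
    rw [hb, Subgroup.index_bot]
  haveI : Finite A := inferInstanceAs (Finite D)
  haveI := Fintype.ofFinite (MulAction.orbitRel.Quotient R A)
  rw [← Nat.card_coe_set_eq, show Nat.card D = Nat.card A from rfl,
    Nat.card_congr (MulAction.selfEquivSigmaOrbits R A), Nat.card_sigma]
  exact Finset.dvd_sum fun w _ => dvd_of_eq (horb _).symm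

/-- Centralising elements of the pointwise stabiliser move the other fixed points freely. -/
theorem Fix.card_cent_dvd {p k : ℕ} (X : Fix G Ω p k) {z t : G} (hz : IsTopFix Ω p k z) {R : Subgroup G}
    (hR : R ≤ KS Ω z) (hRp : IsPGroup p R) (hRt : ∀ r ∈ R, Commute r t) :
    Nat.card R ∣ (fixedBy Ω t \ fixedBy Ω z).ncard := by
  refine card_dvd_of_free _ (fun r hr y hy => ⟨?_, fun h => hy.2 ?_⟩) fun r hr y hy e => ?_
  · show t • r • y = r • y
    rw [← mul_smul, ← (hRt r hr).eq, mul_smul]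
    exact congrArg (r • ·) hy.1
  · rw [show y = r⁻¹ • r • y from (inv_smul_smul r y).symm]
    rwa [mem_KS.mp (inv_mem (hR hr)) _ h]
  · by_contra h1
    obtain ⟨i, hi⟩ := hRp ⟨r, hr⟩
    exact hy.2 ((X.fixed_eq hz (hR hr) (congrArg Subtype.val hi) h1).le e)

/-- A Sylow subgroup of a subgroup absorbs its `p`-subgroups up to conjugacy. -/
theorem exists_conj_le {p : ℕ} [Fact p.Prime] {M : Subgroup G} {W : Subgroup G} (hWM : W ≤ M) (hWp : IsPGroup p W)
    (hmax : ∀ Y : Subgroup G, IsPGroup p Y → W ≤ Y → Y ≤ M → Y = W) {P : Subgroup G} (hP : IsPGroup p P)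
    (hPM : P ≤ M) : ∃ m ∈ M, ∀ x ∈ P, m * x * m⁻¹ ∈ W := by
  obtain ⟨Q, hQ⟩ := (hWp.comap_subtype (K := M) : IsPGroup p ↥(W.subgroupOf M)).exists_le_sylow
  have hQW : (Q : Subgroup M).map M.subtype = W := by
    refine hmax _ (Q.2.map _) (fun w hw => ⟨⟨w, hWM hw⟩, hQ hw, rfl⟩) (Subgroup.map_subtype_le _)
  obtain ⟨R, hR⟩ := (hP.comap_subtype (K := M) : IsPGroup p ↥(P.subgroupOf M)).exists_le_sylow
  obtain ⟨m, hm⟩ := MulAction.exists_smul_eq M R Q
  refine ⟨m, m.2, fun x hx => ?_⟩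
  rw [← hQW]
  refine ⟨m * ⟨x, hPM hx⟩ * m⁻¹, ?_, rfl⟩
  rw [← hm]
  exact ⟨⟨x, hPM hx⟩, hR hx, rfl⟩

/-- Maximal `p`-subgroups above a given one. -/
theorem exists_max {p : ℕ} [Fact p.Prime] {M : Subgroup G} {P : Subgroup G} (hP : IsPGroup p P) (hPM : P ≤ M) :
    ∃ (W : Subgroup G) (S : Sylow p G), P ≤ W ∧ W = (S : Subgroup G) ⊓ M ∧
      ∀ Y : Subgroup G, IsPGroup p Y → W ≤ Y → Y ≤ M → Y = W := by
  obtain ⟨R, hR⟩ := (hP.comap_subtype (K := M) : IsPGroup p ↥(P.subgroupOf M)).exists_le_sylow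
  obtain ⟨S, hS⟩ := (R.2.map M.subtype).exists_le_sylow
  have hmax : ∀ Y : Subgroup G, IsPGroup p Y → (R : Subgroup M).map M.subtype ≤ Y → Y ≤ M →
      Y = (R : Subgroup M).map M.subtype := by
    intro Y hY hle hYM
    refine le_antisymm (fun y hy => ?_) hle
    have e := R.3 (hY.comap_subtype (K := M)) fun r hr => hle ⟨r, hr, rfl⟩
    exact ⟨⟨y, hYM hy⟩, e.le hy, rfl⟩
  refine ⟨(R : Subgroup M).map M.subtype, S, fun x hx => ⟨⟨x, hPM hx⟩, hR hx, rfl⟩, ?_, hmax⟩
  exact (hmax _ (S.2.to_le inf_le_left) (le_inf hS (Subgroup.map_subtype_le _)) inf_le_right).symm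

end CfsgLib.FixityFour
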