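import Cfsg.Agent.Lib.FixityFour.Setup
import Cfsg.Agent.Lib.Comp.PTerminal

/-!
Sylow subgroups inside stabilisers of fixed sets.
-/

set_option autoImplicit false
set_option linter.unusedSectionVars false
set_option linter.style.haveILetI false

namespace CfsgLib.FixityFour

open MulAction Subgroup
open scoped Pointwise

universe u v

variable {G : Type u} [Group G] [Finite G] {Ω : Type v} [MulAction G Ω] [Finite Ω] {k : ℕ}

theorem IsTopFix.sq {p : ℕ} {z : G} (hz : IsTopFix Ω p k z) : z ^ p = 1 := by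
  rw [← hz.1]; exact pow_orderOf_eq_one z

/-- An element of prime order inside the pointwise stabiliser has the same fixed points. -/
theorem Fix.top_eq {p : ℕ} (X : Fix G Ω p k) {z t : G} (hz : IsTopFix Ω p k z) (ht : orderOf t = p)
    (htK : t ∈ KS Ω z) : fixedBy Ω t = fixedBy Ω z ∧ IsTopFix Ω p k t := by
  have h := X.fixed_eq hz htK (i := 1) (by rw [pow_one, ← ht]; exact pow_orderOf_eq_one t) fun e => by
    rw [e, orderOf_one] at ht; exact X.prime.ne_one ht.symm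
  exact ⟨h, ht, by rw [h, hz.2]⟩

theorem fixedBy_conj (g z : G) : fixedBy Ω (g * z * g⁻¹) = g • fixedBy Ω z := by rw [← smul_fixedBy]

/-- The position of a Sylow subgroup. -/
structure Stay {p : ℕ} (Ω : Type v) [MulAction G Ω] (k : ℕ) (S : Sylow p G) (z : G) : Prop where
  top : IsTopFix Ω p k z
  mem : z ∈ S
  le : (S : Subgroup G) ≤ MS Ω z
  central : ∀ s ∈ S, Commute s z

theorem exists_stay_eq {p : ℕ} (X : Fix G Ω p k) {S : Sylow p G} {z₀ : G} (hz : IsTopFix Ω p k z₀)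
    (hle : (S : Subgroup G) ≤ MS Ω z₀) : ∃ z, Stay Ω k S z ∧ fixedBy Ω z = fixedBy Ω z₀ := by
  haveI := Fact.mk X.prime
  have hp : IsPGroup p (zpowers z₀) :=
    IsPGroup.of_card (n := 1) (by rw [Nat.card_zpowers, hz.1, pow_one])
  obtain ⟨m, hm, hmS⟩ := exists_conj_le hle S.2
    (fun Y hY hSY _ => S.3 hY hSY) hp (zpowers_le.mpr (centralizer_le_MS z₀ (mem_centralizer_singleton_iff.mpr rfl)))
  have hz2 := hmS z₀ (mem_zpowers z₀)
  have hfix : fixedBy Ω (m * z₀ * m⁻¹) = fixedBy Ω z₀ := (fixedBy_conj m z₀).trans (mem_stabilizer_iff.mp hm)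
  have hK : (S : Subgroup G) ⊓ KS Ω z₀ ≠ ⊥ := fun e => X.ne_one (hz.conj m) (mem_bot.mp (e.le
    ⟨hz2, mem_KS.mpr fun y hy => (hfix.ge hy : _)⟩))
  obtain ⟨z, hzK, hz2', hzc⟩ := CfsgLib.Comp.exists_central_in_normal (p := p) S.2
    (inf_le_left : (S : Subgroup G) ⊓ KS Ω z₀ ≤ S)
    (fun s hs => mem_normalizer_fintype fun x hx =>
      ⟨(S : Subgroup G).mul_mem ((S : Subgroup G).mul_mem hs hx.1) ((S : Subgroup G).inv_mem hs),
        KS_conj (hle hs) hx.2⟩) hK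
  obtain ⟨hfz, htop⟩ := X.top_eq hz hz2' hzK.2
  exact ⟨z, ⟨htop, hzK.1, by rwa [MS, hfz], hzc⟩, hfz⟩

theorem exists_stay {p : ℕ} (X : Fix G Ω p k) {T : Sylow p G} {z₀ : G} (hT : (T : Subgroup G) ≤ MS Ω z₀)
    (hz : IsTopFix Ω p k z₀) (S : Sylow p G) : ∃ z, Stay Ω k S z := by
  haveI := Fact.mk X.prime
  obtain ⟨g, hg⟩ := MulAction.exists_smul_eq G T S
  obtain ⟨z, hz', -⟩ := exists_stay_eq X (hz.conj g) (S := S) (fun s hs => by
    rw [← hg, Sylow.coe_subgroup_smul] at hs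
    obtain ⟨t, ht, rfl⟩ := hs
    exact MS_conj g z₀ (hT ht))
  exact ⟨z, hz'⟩

end CfsgLib.FixityFour
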