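import Cfsg.Agent.Lib.TransferOrbit
import Cfsg.Agent.Lib.FixityFour.Setup

/-!
The transfer at one of two commuting elements of order three.
-/

set_option autoImplicit false
set_option linter.unusedSectionVars false
set_option linter.style.haveILetI false

namespace CfsgLib.FixityFour

open MulAction Subgroup CfsgLib.TransferOrbit

universe u w

/-- A product over a set cut into triangles. -/
theorem prod_triangles {X : Type*} {A : Type w} [CommMonoid A] (f : X → A) (σ : X → X) :
    ∀ s : Finset X, (∀ x ∈ s, σ x ∈ s) → (∀ x ∈ s, σ (σ (σ x)) = x) → (∀ x ∈ s, σ x ≠ x) →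
      (∀ x ∈ s, f x * f (σ x) * f (σ (σ x)) = 1) → ∏ x ∈ s, f x = 1 := by
  classical
  intro s
  induction s using Finset.strongInduction with
  | _ s ih =>
    intro hin h3 hfree hf
    rcases s.eq_empty_or_nonempty with rfl | ⟨x, hx⟩
    · rfl
    have h12 : σ x ≠ σ (σ x) := fun e => hfree (σ x) (hin x hx) e.symm
    have h02 : x ≠ σ (σ x) := fun e => hfree x hx (by
      have h := h3 x hx
      rwa [← e] at h)
    let t : Finset X := {x, σ x, σ (σ x)}
    have hts : t ⊆ s := by
      intro y hy
      simp only [t, Finset.mem_insert, Finset.mem_singleton] at hy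
      rcases hy with rfl | rfl | rfl
      exacts [hx, hin _ hx, hin _ (hin _ hx)]
    have hback : ∀ y ∈ s, σ y ∈ t → y ∈ t := fun y hy h => by
      have e := h3 y hy
      simp only [t, Finset.mem_insert, Finset.mem_singleton] at h ⊢
      rcases h with h | h | h <;> rw [h] at e
      · exact Or.inr (Or.inr e.symm)
      · exact Or.inl (e.symm.trans (h3 x hx))
      · exact Or.inr (Or.inl (e.symm.trans (h3 (σ x) (hin x hx))))
    rw [← Finset.prod_sdiff hts, ih (s \ t) (Finset.sdiff_ssubset hts ⟨x, by simp [t]⟩)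
      (fun y hy => Finset.mem_sdiff.mpr ⟨hin y (Finset.mem_sdiff.mp hy).1,
        fun h => (Finset.mem_sdiff.mp hy).2 (hback y (Finset.mem_sdiff.mp hy).1 h)⟩)
      (fun y hy => h3 y (Finset.mem_sdiff.mp hy).1) (fun y hy => hfree y (Finset.mem_sdiff.mp hy).1)
      (fun y hy => hf y (Finset.mem_sdiff.mp hy).1), one_mul]
    rw [Finset.prod_insert (by simp [(hfree x hx).symm, h02]), Finset.prod_pair h12, ← mul_assoc]
    exact hf x hx

variable {G : Type u} [Group G] {H : Subgroup G} {A : Type w} [CommGroup A] (χ : H →* A)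

omit [CommGroup A] in
theorem cube_zmod : ∀ a : Multiplicative (ZMod 3), a ^ 3 = 1 := by decide

theorem cval_one (q : G ⧸ H) : cval χ 1 q = 1 := by
  have := cval_mul χ (1 : G) 1 q
  rwa [one_smul, mul_one, left_eq_mul] at this

theorem fixed_mk {x g : G} : x • (g : G ⧸ H) = g ↔ g⁻¹ * x * g ∈ H := by
  constructor
  · intro e
    have e' : ((g : G) : G ⧸ H) = ((x * g : G) : G ⧸ H) := e.symm
    have := QuotientGroup.eq.mp e'
    rwa [← mul_assoc] at this
  · intro hh
    exact (QuotientGroup.eq.mpr (show g⁻¹ * (x * g) ∈ H by rwa [← mul_assoc])).symm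

/-- Only the common fixed points contribute. -/
theorem transfer_two_elements [H.FiniteIndex] [Fintype (G ⧸ H)] [DecidableEq (G ⧸ H)] (hA : ∀ a : A, a ^ 3 = 1) {u z : G}
    (hu : u ^ 3 = 1) (hz : z ^ 3 = 1) (hc : Commute u z) :
    MonoidHom.transfer χ u =
      ∏ q ∈ Finset.univ.filter (fun q : G ⧸ H => u • q = q ∧ z • q = q), cval χ u q := by
  classical
  rw [transfer_eq_prod]
  rw [← Finset.prod_filter_mul_prod_filter_not Finset.univ (fun q : G ⧸ H => u • q = q)]
  have h1 : ∏ q ∈ Finset.univ.filter (fun q : G ⧸ H => ¬u • q = q), cval χ u q = 1 := by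
    refine prod_triangles _ (fun q => u • q) _ (fun q hq => ?_) (fun q _ => ?_)
      (fun q hq => (Finset.mem_filter.mp hq).2) fun q _ => ?_
    · refine Finset.mem_filter.mpr ⟨Finset.mem_univ _, fun e => (Finset.mem_filter.mp hq).2 ?_⟩
      exact smul_left_cancel u e
    · show u • u • u • q = q
      rw [← mul_smul, ← mul_smul, show u * u * u = u ^ 3 by rw [pow_succ, pow_two], hu, one_smul]
    · show cval χ u q * cval χ u (u • q) * cval χ u (u • u • q) = 1
      rw [← cval_one χ q, ← hu, show u ^ 3 = u * (u * u) by rw [pow_succ', pow_two], cval_mul, cval_mul,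
        mul_smul u u q]
      ac_rfl
  rw [h1, mul_one, ← Finset.prod_filter_mul_prod_filter_not
    (Finset.univ.filter fun q : G ⧸ H => u • q = q) (fun q : G ⧸ H => z • q = q), Finset.filter_filter,
    Finset.filter_filter]
  refine (mul_eq_left.mpr ?_)
  have hinv : ∀ q : G ⧸ H, u • q = q → cval χ u (z • q) = cval χ u q ∧ u • z • q = z • q := by
    intro q hq
    induction q using QuotientGroup.induction_on with
    | _ g =>
      have hq' : u • z • (g : G ⧸ H) = z • (g : G ⧸ H) := by rw [← mul_smul, hc.eq, mul_smul, hq]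
      refine ⟨?_, hq'⟩
      have hm := fixed_mk.mp hq
      have e : (z * g)⁻¹ * u * (z * g) = g⁻¹ * u * g := by
        calc (z * g)⁻¹ * u * (z * g) = g⁻¹ * z⁻¹ * (u * z) * g := by group
          _ = g⁻¹ * z⁻¹ * (z * u) * g := by rw [hc.eq]
          _ = _ := by group
      rw [cval_eq χ hq hm]
      show cval χ u ((z * g : G) : G ⧸ H) = _
      rw [cval_eq χ (g := u) (x := z * g) hq' (e ▸ hm)]
      exact congrArg χ (Subtype.ext e)
  refine prod_triangles _ (fun q => z • q) _ (fun q hq => ?_) (fun q _ => ?_)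
    (fun q hq => (Finset.mem_filter.mp hq).2.2) fun q hq => ?_
  · obtain ⟨-, hq1, hq2⟩ := Finset.mem_filter.mp hq
    exact Finset.mem_filter.mpr ⟨Finset.mem_univ _, (hinv q hq1).2, fun e => hq2 (smul_left_cancel z e)⟩
  · show z • z • z • q = q
    rw [← mul_smul, ← mul_smul, show z * z * z = z ^ 3 by rw [pow_succ, pow_two], hz, one_smul]
  · obtain ⟨-, hq1, -⟩ := Finset.mem_filter.mp hq
    show cval χ u q * cval χ u (z • q) * cval χ u (z • z • q) = 1
    rw [(hinv _ (hinv q hq1).2).1, (hinv q hq1).1, ← hA (cval χ u q), pow_succ, pow_two]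

/-- A simple group that is not commutative has no nontrivial map to a commutative group. -/
theorem hom_eq_one [IsSimpleGroup G] (hna : ¬ IsMulCommutative G) (f : G →* A) (g : G) : f g = 1 := by
  rcases (MonoidHom.normal_ker f).eq_bot_or_eq_top with h | h
  · have hinj := (MonoidHom.ker_eq_bot_iff f).mp h
    exact absurd ⟨⟨fun a b => hinj (by rw [map_mul, map_mul, mul_comm])⟩⟩ hna
  · exact MonoidHom.mem_ker.mp (h.ge (mem_top g))

end CfsgLib.FixityFour
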