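import Cfsg.Agent.Lib.FixityFour.Stay
import Cfsg.Agent.Lib.FixityFour.ThreeTransfer

/-!
Elements of order three on fixed sets of at most four points, when point stabilisers have odd order.
-/

set_option autoImplicit false
set_option linter.unusedSectionVars false
set_option linter.style.haveILetI false

namespace CfsgLib.FixityFour

open MulAction Subgroup
open scoped Pointwise

universe u v

set_option maxRecDepth 10000 in
set_option synthInstance.maxSize 512 in
theorem pair_kills {k : ℕ} (hk : k ≤ 4) : ∀ σ τ : Equiv.Perm (Fin k), σ ^ 3 = 1 → τ ^ 3 = 1 → σ * τ = τ * σ →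
    σ = 1 ∨ ∃ i : Fin 3, τ * σ ^ (i : ℕ) = 1 := by
  interval_cases k <;> decide +kernel

set_option maxRecDepth 10000 in
theorem odd_fix {k : ℕ} (hk : k ≤ 4) : ∀ σ τ : Equiv.Perm (Fin k), Equiv.Perm.sign σ = -1 → τ ^ 3 = 1 → τ ≠ 1 →
    ∃ j : Fin 3, ∃ x, (σ * τ ^ (j : ℕ)) x = x := by
  interval_cases k <;> decide +kernel

set_option maxRecDepth 10000 in
theorem conj_three {k : ℕ} (hk : k ≤ 4) : ∀ v τ : Equiv.Perm (Fin k), Equiv.Perm.sign v = 1 → v ^ 8 = 1 →
    τ ^ 3 = 1 → τ ≠ 1 → v * (τ * v * τ⁻¹) = τ * τ * v * (τ * τ)⁻¹ := by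
  interval_cases k <;> decide +kernel

set_option maxRecDepth 10000 in
theorem chi_four : ∀ σ τ : Equiv.Perm (Fin 4), Equiv.Perm.sign σ = 1 → Equiv.Perm.sign τ = 1 →
    ((((σ * τ) 0).val ^^^ ((σ * τ) 1).val : ℕ) : ZMod 3) - 1 =
      ((((σ 0).val ^^^ (σ 1).val : ℕ) : ZMod 3) - 1) + ((((τ 0).val ^^^ (τ 1).val : ℕ) : ZMod 3) - 1) := by
  decide +kernel

set_option maxRecDepth 10000 in
theorem chi_four_ne : ∀ τ : Equiv.Perm (Fin 4), τ ^ 3 = 1 → τ ≠ 1 →
    (((τ 0).val ^^^ (τ 1).val : ℕ) : ZMod 3) - 1 ≠ 0 := by decide +kernel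

theorem exists_chi_perm {k : ℕ} (hk : k ≤ 4) : ∃ c : Equiv.Perm (Fin k) → ZMod 3,
    (∀ σ τ, Equiv.Perm.sign σ = 1 → Equiv.Perm.sign τ = 1 → c (σ * τ) = c σ + c τ) ∧
      ∀ τ, τ ^ 3 = 1 → τ ≠ 1 → c τ ≠ 0 := by
  interval_cases k
  · exact ⟨fun _ => 0, fun _ _ _ _ => (add_zero 0).symm, by decide +kernel⟩
  · exact ⟨fun _ => 0, fun _ _ _ _ => (add_zero 0).symm, by decide +kernel⟩
  · exact ⟨fun _ => 0, fun _ _ _ _ => (add_zero 0).symm, by decide +kernel⟩
  · exact ⟨fun σ => ((σ 0).val : ZMod 3), by decide +kernel, by decide +kernel⟩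
  · exact ⟨fun σ => (((σ 0).val ^^^ (σ 1).val : ℕ) : ZMod 3) - 1, chi_four, chi_four_ne⟩

variable {G : Type u} [Group G] [Finite G] {Ω : Type v} [MulAction G Ω] [Finite Ω] {k : ℕ}

/-- The action on a fixed set by permutations of `Fin k`. -/
noncomputable def onFin {z : G} (h : (fixedBy Ω z).ncard = k) : MS Ω z →* Equiv.Perm (Fin k) :=
  (Equiv.permCongrHom (Finite.equivFinOfCardEq ((Nat.card_coe_set_eq _).trans h))).toMonoidHom.comp (onSet z)

theorem onFin_eq_one {z : G} (h : (fixedBy Ω z).ncard = k) {g : MS Ω z} : onFin h g = 1 ↔ (g : G) ∈ KS Ω z := by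
  rw [← onSet_eq_one, onFin, MonoidHom.comp_apply]
  exact map_eq_one_iff _ (MulEquiv.injective _)

theorem onFin_fix {z : G} (h : (fixedBy Ω z).ncard = k) (g : MS Ω z) (y : fixedBy Ω z) :
    onFin h g (Finite.equivFinOfCardEq ((Nat.card_coe_set_eq _).trans h) y) =
        Finite.equivFinOfCardEq ((Nat.card_coe_set_eq _).trans h) y ↔ (g : G) • (y : Ω) = y := by
  simp [onFin, onSet, Equiv.permCongrHom, Subtype.ext_iff]

/-- Three-subgroups act on at most four points by commuting permutations. -/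
theorem image_comm {z : G} (h : (fixedBy Ω z).ncard = k) (hk : k ≤ 4) {W : Subgroup G} (hW : W ≤ MS Ω z)
    (hp : IsPGroup 3 W) {a b : G} (ha : a ∈ W) (hb : b ∈ W) :
    onFin h ⟨a, hW ha⟩ * onFin h ⟨b, hW hb⟩ = onFin h ⟨b, hW hb⟩ * onFin h ⟨a, hW ha⟩ := by
  haveI : Fact (Nat.Prime 3) := ⟨Nat.prime_three⟩
  let f : W →* Equiv.Perm (Fin k) := (onFin h).comp (inclusion hW)
  obtain ⟨j, hj⟩ := IsPGroup.iff_card.1 (hp.of_surjective f.rangeRestrict f.rangeRestrict_surjective)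
  have hd : 3 ^ j ∣ 3 * 8 := hj ▸ (Subgroup.card_subgroup_dvd_card f.range).trans (by
    rw [Nat.card_eq_fintype_card, Fintype.card_perm, Fintype.card_fin]
    exact Nat.factorial_dvd_factorial hk)
  have hj1 : 3 ^ j ∣ 3 := (Nat.Coprime.pow_left _ (by decide)).dvd_of_dvd_mul_right hd
  have hcomm : ∀ x y : f.range, x * y = y * x := by
    rcases (Nat.dvd_prime Nat.prime_three).mp hj1 with e | e
    · haveI : Subsingleton f.range := (Nat.card_eq_one_iff_unique.mp (hj.trans e)).1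
      exact fun x y => Subsingleton.elim _ _
    · haveI : IsCyclic f.range := isCyclic_of_prime_card (p := 3) (hj.trans e)
      intro x y
      obtain ⟨g, hg⟩ := IsCyclic.exists_generator (α := f.range)
      obtain ⟨i, rfl⟩ := mem_zpowers_iff.mp (hg x)
      obtain ⟨l, rfl⟩ := mem_zpowers_iff.mp (hg y)
      exact (Commute.zpow_zpow_self g i l).eq
  exact congrArg Subtype.val (hcomm ⟨_, ⟨a, ha⟩, rfl⟩ ⟨_, ⟨b, hb⟩, rfl⟩)

/-- Point stabilisers have odd order. -/
def OddStab (G : Type u) [Group G] (Ω : Type v) [MulAction G Ω] : Prop :=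
  ∀ g : G, orderOf g = 2 → ∀ y : Ω, g • y ≠ y

theorem no_two_element (hodd : OddStab G Ω) {g : G} {i : ℕ} (hg : g ^ 2 ^ i = 1) {y : Ω} (hy : g • y = y) : g = 1 := by
  haveI : Fact (Nat.Prime 2) := ⟨Nat.prime_two⟩
  by_contra h1
  obtain ⟨j, -, hj⟩ := (Nat.dvd_prime_pow Nat.prime_two).mp (orderOf_dvd_of_pow_eq_one hg)
  have hj0 : j ≠ 0 := fun e => h1 (orderOf_eq_one_iff.mp (by rw [hj, e, pow_zero]))
  refine hodd (g ^ 2 ^ (j - 1)) ?_ y (fixedBy_subset_pow g _ hy)
  rw [orderOf_pow_of_dvd (pow_ne_zero _ two_ne_zero) (hj ▸ pow_dvd_pow 2 (by omega)), hj,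
    Nat.pow_div (by omega) two_pos, show j - (j - 1) = 1 by omega, pow_one]

/-- The two-part of an element. -/
theorem exists_two_part (g : G) : ∃ q i : ℕ, Odd q ∧ (g ^ q) ^ 2 ^ i = 1 := by
  obtain ⟨i, m, hm, h⟩ := Nat.exists_eq_two_pow_mul_odd (orderOf_pos g).ne'
  exact ⟨m, i, hm, by rw [← pow_mul, mul_comm, ← h, pow_orderOf_eq_one]⟩

variable (hodd : OddStab G Ω) {z : G} (hz : (fixedBy Ω z).ncard = k) (hk : k ≤ 4)
include hodd hk

theorem sign_eq_one {u : MS Ω z} (hu3 : (u : G) ^ 3 = 1) (huK : (u : G) ∉ KS Ω z) (g : MS Ω z) :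
    Equiv.Perm.sign (onFin hz g) = 1 := by
  rcases Int.units_eq_one_or (Equiv.Perm.sign (onFin hz g)) with h | h
  · exact h
  have hτ3 : onFin hz u ^ 3 = 1 := by rw [← map_pow, show u ^ 3 = 1 from Subtype.ext hu3, map_one]
  have hτ1 : onFin hz u ≠ 1 := fun e => huK ((onFin_eq_one hz).mp e)
  obtain ⟨j, x, hx⟩ := odd_fix hk _ _ h hτ3 hτ1
  rw [← map_pow, ← map_mul] at hx
  set m := g * u ^ (j : ℕ) with hm
  have hsign : Equiv.Perm.sign (onFin hz m) = -1 := by
    have hs3 : Equiv.Perm.sign (onFin hz u) = 1 := by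
      have e := congrArg Equiv.Perm.sign hτ3
      rw [map_pow, map_one] at e
      rcases Int.units_eq_one_or (Equiv.Perm.sign (onFin hz u)) with h' | h'
      · exact h'
      · rw [h'] at e; exact absurd e (by decide)
    rw [hm, map_mul, map_mul, map_pow, map_pow, hs3, h, one_pow, mul_one]
  obtain ⟨q, i, hq, hqi⟩ := exists_two_part (m : G)
  set e := Finite.equivFinOfCardEq ((Nat.card_coe_set_eq _).trans hz) with he
  have hfix : (m : G) • ((e.symm x : fixedBy Ω z) : Ω) = e.symm x :=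
    (onFin_fix hz m (e.symm x)).mp (by rw [← he, e.apply_symm_apply]; exact hx)
  have h1 := no_two_element hodd hqi (fixedBy_subset_pow (m : G) q hfix)
  have h2 : Equiv.Perm.sign (onFin hz (m ^ q)) = -1 := by rw [map_pow, map_pow, hsign, hq.neg_one_pow]
  rw [show m ^ q = 1 from Subtype.ext h1, map_one, map_one] at h2
  exact absurd h2 (by decide)

/-- A character of the stabiliser not trivial at a given element of order three. -/
theorem exists_chi {u : MS Ω z} (hu3 : (u : G) ^ 3 = 1) (huK : (u : G) ∉ KS Ω z) (hzk : (fixedBy Ω z).ncard = k) :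
    ∃ χ : MS Ω z →* Multiplicative (ZMod 3), χ u ≠ 1 := by
  obtain ⟨c, hc, hc0⟩ := exists_chi_perm hk
  have hs := fun g => sign_eq_one hodd hzk hk hu3 huK g
  have h1 : c 1 = 0 := by
    have := hc 1 1 (map_one _) (map_one _)
    rwa [mul_one, left_eq_add] at this
  refine ⟨{ toFun := fun g => Multiplicative.ofAdd (c (onFin hzk g))
            map_one' := by rw [map_one, h1]; rfl
            map_mul' := fun a b => by rw [map_mul, hc _ _ (hs a) (hs b)]; rfl }, fun e => ?_⟩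
  refine hc0 (onFin hzk u) (by rw [← map_pow, show u ^ 3 = 1 from Subtype.ext hu3, map_one])
    (fun e1 => huK ((onFin_eq_one hzk).mp e1)) ?_
  exact Multiplicative.ofAdd.injective e

end CfsgLib.FixityFour
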