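import Cfsg.Agent.Lib.FixityFour.ThreeMove

/-!
Fusion and transfer of maximal elements of order three: no such configuration.
-/

set_option autoImplicit false
set_option linter.unusedSectionVars false
set_option linter.style.haveILetI false

namespace CfsgLib.FixityFour

open MulAction Subgroup CfsgLib.TransferOrbit
open scoped Pointwise commutatorElement

universe u v

variable {G : Type u} [Group G] [Finite G] {Ω : Type v} [MulAction G Ω] [Finite Ω] {k : ℕ}
  (X : Fix G Ω 3 k) (hB : Moves G Ω k)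
include X hB

/-- A three-subgroup normalising a subgroup with a maximal element is at most three times as large. -/
theorem card_le_three_mul {x : G} (hx : IsTopFix Ω 3 k x) {Y R : Subgroup G} (hxY : x ∈ Y) (hYR : Y ≤ R)
    (hR : IsPGroup 3 R) (hn : ∀ r ∈ R, ∀ y ∈ Y, r * y * r⁻¹ ∈ Y) : Nat.card R ≤ 3 * Nat.card Y := by
  haveI : Fact (Nat.Prime 3) := ⟨Nat.prime_three⟩
  obtain ⟨T, hT⟩ := hR.exists_le_sylow
  have hxT : x ∈ T := hT (hYR hxY)
  obtain ⟨h9, h27, -⟩ := card_cent_three X hB hxT hx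
  set D := ⁅(T : Subgroup G), (T : Subgroup G)⁆ with hD
  have hxD : x ∉ D := fun hc => by
    rw [hD, ← map_subtype_commutator] at hc
    obtain ⟨x', hx', e⟩ := hc
    have e' : x' = ⟨x, hxT⟩ := Subtype.ext e
    subst e'
    exact not_mem_commutator T.2 h27 (card_cent_type X hB hxT hx) (fun e1 => X.ne_one hx (congrArg Subtype.val e1))
      (of_eq_one.mpr hx')
  let C := R ⊓ centralizer ({x} : Set G)
  let f : R ⧸ C.subgroupOf R → ↥(Y ⊓ D) := fun q => ⟨x⁻¹ * ((q.out : R) * x * ((q.out : R) : G)⁻¹),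
    Y.mul_mem (Y.inv_mem hxY) (hn _ q.out.2 x hxY), by
      have := commutator_mem_commutator ((T : Subgroup G).inv_mem hxT) (hT q.out.2)
      rw [commutatorElement_def, inv_inv] at this
      rwa [← mul_assoc, ← mul_assoc]⟩
  have hf : Function.Injective f := fun a b e => by
    have e' : ((a.out : R) : G) * x * ((a.out : R) : G)⁻¹ = (b.out : R) * x * ((b.out : R) : G)⁻¹ :=
      mul_left_cancel (congrArg Subtype.val e :)
    rw [← Quotient.out_eq a, ← Quotient.out_eq b]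
    refine QuotientGroup.eq.mpr (mem_subgroupOf.mpr ⟨(a.out⁻¹ * b.out).2, mem_centralizer_singleton_iff.mpr ?_⟩)
    show ((a.out : R) : G)⁻¹ * (b.out : R) * x = x * (((a.out : R) : G)⁻¹ * (b.out : R))
    calc ((a.out : R) : G)⁻¹ * (b.out : R) * x
        = ((a.out : R) : G)⁻¹ * ((b.out : R) * x * ((b.out : R) : G)⁻¹) * (b.out : R) := by group
      _ = ((a.out : R) : G)⁻¹ * ((a.out : R) * x * ((a.out : R) : G)⁻¹) * (b.out : R) := by rw [e']
      _ = _ := by group
  have h1 : (C.subgroupOf R).index ≤ Nat.card ↥(Y ⊓ D) := Nat.card_le_card_of_injective f hf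
  have h2 := (C.subgroupOf R).card_mul_index
  rw [Nat.card_congr (subgroupOfEquivOfLe (inf_le_left : C ≤ R)).toEquiv] at h2
  have hC : Nat.card C ≤ 9 := three_bound X hB hx (hR.to_le inf_le_left) (inf_le_right.trans (centralizer_le_MS x))
  have hY : 3 * Nat.card ↥(Y ⊓ D) ≤ Nat.card Y := by
    obtain ⟨a, ha⟩ := IsPGroup.iff_card.1 (hR.to_le hYR)
    obtain ⟨b, hb⟩ := IsPGroup.iff_card.1 (hR.to_le (inf_le_left.trans hYR) : IsPGroup 3 ↥(Y ⊓ D))
    have hlt : Nat.card ↥(Y ⊓ D) < Nat.card Y := lt_of_le_of_ne (card_le_of_le inf_le_left) fun e =>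
      hxD ((eq_of_le_of_card_ge inf_le_left e.ge).ge hxY).2
    rw [ha, hb] at hlt ⊢
    rw [← pow_succ']
    exact Nat.pow_le_pow_right (show 0 < 3 by norm_num) ((Nat.pow_lt_pow_iff_right (by norm_num)).mp hlt)
  calc Nat.card R = Nat.card C * (C.subgroupOf R).index := h2.symm
    _ ≤ 9 * Nat.card ↥(Y ⊓ D) := Nat.mul_le_mul hC h1
    _ ≤ 3 * Nat.card Y := by omega

/-- The normaliser in a Sylow subgroup of a proper subgroup. -/
theorem lt_inf_normalizer {P : Sylow 3 G} {Y : Subgroup G} (hY : Y < (P : Subgroup G)) :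
    Y < (P : Subgroup G) ⊓ normalizer (Y : Set G) := by
  haveI : Fact (Nat.Prime 3) := ⟨Nat.prime_three⟩
  obtain ⟨s, hs, hsY, -, hn⟩ := exists_normalizing P.2 hY
  exact lt_of_le_of_ne (le_inf hY.le le_normalizer) fun e => hsY (e.ge ⟨hs, mem_normalizer_fintype hn⟩)

variable (hodd : OddStab G Ω) {P : Sylow 3 G}
include hodd

/-- Fusion of maximal elements happens in the normaliser of the Sylow subgroup, modulo its derived subgroup. -/
theorem fusion_normalizer {y : G} (hy : IsTopFix Ω 3 k y) (hyP : y ∈ P) :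
    ∀ (X₁ : Subgroup G), y ∈ X₁ → X₁ ≤ (P : Subgroup G) → 9 ≤ Nat.card X₁ → ∀ g : G,
      (∀ x ∈ X₁, g * x * g⁻¹ ∈ (P : Subgroup G)) → ∀ hg : g * y * g⁻¹ ∈ (P : Subgroup G),
      ∃ n : G, (∀ x ∈ (P : Subgroup G), n * x * n⁻¹ ∈ (P : Subgroup G)) ∧ ∃ hn : n * y * n⁻¹ ∈ (P : Subgroup G),
        Abelianization.of (⟨_, hn⟩ : (P : Subgroup G)) = Abelianization.of ⟨_, hg⟩ := by
  haveI : Fact (Nat.Prime 3) := ⟨Nat.prime_three⟩
  suffices H : ∀ d : ℕ, ∀ (X₁ : Subgroup G), Nat.card (P : Subgroup G) - Nat.card X₁ = d → y ∈ X₁ →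
      X₁ ≤ (P : Subgroup G) → ∀ g : G, (∀ x ∈ X₁, g * x * g⁻¹ ∈ (P : Subgroup G)) →
      ∀ hg : g * y * g⁻¹ ∈ (P : Subgroup G), ∃ n : G, (∀ x ∈ (P : Subgroup G), n * x * n⁻¹ ∈ (P : Subgroup G)) ∧
        ∃ hn : n * y * n⁻¹ ∈ (P : Subgroup G),
          Abelianization.of (⟨_, hn⟩ : (P : Subgroup G)) = Abelianization.of ⟨_, hg⟩ from
    fun X₁ h1 h2 _ g h3 hg => H _ X₁ rfl h1 h2 g h3 hg
  intro d
  induction d using Nat.strong_induction_on with
  | _ d ih =>
    intro X₁ hd hyX hXP g hgX hg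
    by_cases htop : X₁ = (P : Subgroup G)
    · exact ⟨g, fun x hx => hgX x (htop.ge hx), hg, rfl⟩
    have hlt : X₁ < (P : Subgroup G) := lt_of_le_of_ne hXP htop
    set Y := X₁.map (MulAut.conj g).toMonoidHom with hY
    have hYP : Y ≤ (P : Subgroup G) := by
      rintro _ ⟨x, hx, rfl⟩
      exact hgX x hx
    have hcard : Nat.card Y = Nat.card X₁ :=
      (Nat.card_congr (X₁.equivMapOfInjective _ (MulAut.conj g).injective).toEquiv).symm
    have hYlt : Y < (P : Subgroup G) := lt_of_le_of_ne hYP fun e => htop (eq_of_le_of_card_ge hXP (by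
      rw [← hcard, e]))
    have hxY : g * y * g⁻¹ ∈ Y := ⟨y, hyX, rfl⟩
    set X₂ := (P : Subgroup G) ⊓ normalizer (X₁ : Set G) with hX₂
    set Y₂ := (P : Subgroup G) ⊓ normalizer (Y : Set G) with hY₂
    have hXX : X₁ < X₂ := lt_inf_normalizer X hB hlt
    have hYY : Y < Y₂ := lt_inf_normalizer X hB hYlt
    -- sizes
    have three : ∀ {A B : Subgroup G}, IsPGroup 3 B → A < B → 3 * Nat.card A ≤ Nat.card B := by
      intro A B hBp hAB
      obtain ⟨a, ha⟩ := IsPGroup.iff_card.1 (hBp.to_le hAB.le)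
      obtain ⟨b, hb⟩ := IsPGroup.iff_card.1 hBp
      have hlt' : Nat.card A < Nat.card B := lt_of_le_of_ne (card_le_of_le hAB.le) fun e =>
        hAB.ne (eq_of_le_of_card_ge hAB.le e.ge)
      rw [ha, hb] at hlt' ⊢
      rw [← pow_succ']
      exact Nat.pow_le_pow_right (show 0 < 3 by norm_num) ((Nat.pow_lt_pow_iff_right (by norm_num)).mp hlt')
    have hY₂3 := three (P.2.to_le inf_le_left) hYY
    have hX₂3 := three (P.2.to_le inf_le_left) hXX
    have hmax : ∀ Z : Subgroup G, IsPGroup 3 Z → Y₂ ≤ Z → Z ≤ normalizer (Y : Set G) → Z = Y₂ := by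
      intro Z hZ hle hZN
      refine (eq_of_le_of_card_ge hle ?_).symm
      exact (card_le_three_mul X hB (hy.conj g) hxY (hYY.le.trans hle) hZ fun r hr w hw =>
        (mem_normalizer_iff.mp (hZN hr) w).mp hw).trans hY₂3
    set Z := X₂.map (MulAut.conj g).toMonoidHom with hZ
    have hZN : Z ≤ normalizer (Y : Set G) := by
      rintro _ ⟨x, hx, rfl⟩
      refine mem_normalizer_fintype fun w hw => ?_
      obtain ⟨w₀, hw₀, rfl⟩ := hw
      exact ⟨x * w₀ * x⁻¹, (mem_normalizer_iff.mp hx.2 w₀).mp hw₀, by simp [mul_assoc]⟩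
    obtain ⟨m, hm, hmY⟩ := exists_conj_le (inf_le_right : Y₂ ≤ normalizer (Y : Set G)) (P.2.to_le inf_le_left) hmax
      ((P.2.to_le inf_le_left : IsPGroup 3 X₂).map _) hZN
    have hmg : m * g * y * (m * g)⁻¹ ∈ Y := by
      have := (mem_normalizer_iff.mp hm _).mp hxY
      rwa [show m * (g * y * g⁻¹) * m⁻¹ = m * g * y * (m * g)⁻¹ by group] at this
    have hmem2 : ∀ x ∈ X₂, m * g * x * (m * g)⁻¹ ∈ (P : Subgroup G) := fun x hx => by
      have := hmY (g * x * g⁻¹) ⟨x, hx, rfl⟩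
      rw [show m * (g * x * g⁻¹) * m⁻¹ = m * g * x * (m * g)⁻¹ by group] at this
      exact this.1
    have hdlt : Nat.card (P : Subgroup G) - Nat.card X₂ < d := by
      have h1 := card_le_of_le (inf_le_left : X₂ ≤ (P : Subgroup G))
      have h2 : 0 < Nat.card X₁ := Nat.card_pos
      have h3 : 3 * Nat.card X₁ ≤ Nat.card X₂ := hX₂3
      omega
    obtain ⟨n, hn, hny, e⟩ := ih _ hdlt X₂ rfl (hXX.le hyX) inf_le_left (m * g) hmem2 (hYP hmg)
    refine ⟨n, hn, hny, e.trans ?_⟩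
    -- the class does not move
    set π : (P : Subgroup G) →* Abelianization (P : Subgroup G) := Abelianization.of
    obtain ⟨-, h27, -⟩ := card_cent_three X hB (hYP hxY) (hy.conj g)
    have hcx := card_cent_type X hB (hYP hxY) (hy.conj g)
    obtain ⟨hA9, hA3⟩ := max_facts P.2 h27 hcx
    have hYtop : Y.subgroupOf (P : Subgroup G) ≠ ⊤ := fun e1 => hYlt.ne (le_antisymm hYP (subgroupOf_eq_top.mp e1))
    set I := (Y.subgroupOf (P : Subgroup G)).map π with hI
    have hI1 : π ⟨_, hYP hxY⟩ ∈ I := ⟨⟨_, hYP hxY⟩, hxY, rfl⟩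
    have hI2 : π ⟨_, hYP hmg⟩ ∈ I := ⟨⟨_, hYP hmg⟩, hmg, rfl⟩
    have hx1 : π ⟨_, hYP hxY⟩ ≠ 1 := not_mem_commutator P.2 h27 hcx
      fun e1 => X.ne_one (hy.conj g) (congrArg Subtype.val e1 :)
    have hcI : Nat.card I ≤ 3 := by
      have hd : Nat.card I ∣ 3 ^ 2 := (card_subgroup_dvd_card I).trans (dvd_of_eq hA9)
      obtain ⟨j, hj, hj'⟩ := (Nat.dvd_prime_pow Nat.prime_three).mp hd
      have hne : Nat.card I ≠ 9 := fun e1 => map_of_ne_top P.2 hYtop (eq_top_of_card_eq I (e1.trans hA9.symm))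
      rw [hj'] at hne ⊢
      interval_cases j <;> simp_all
    have hz : zpowers (π ⟨_, hYP hxY⟩) = I := eq_of_le_of_card_ge (zpowers_le.mpr hI1) (by
      rw [Nat.card_zpowers, orderOf_eq_prime (hA3 _) hx1]; exact hcI)
    obtain ⟨j, hj, hj'⟩ : ∃ j : ℕ, j < 3 ∧ π ⟨_, hYP hxY⟩ ^ j = π ⟨_, hYP hmg⟩ := by
      obtain ⟨j, hj⟩ := mem_zpowers_iff.mp (hz.ge hI2)
      refine ⟨(j % 3).toNat, by omega, ?_⟩
      rw [← hj, ← zpow_natCast, Int.toNat_of_nonneg (Int.emod_nonneg _ (by norm_num))]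
      exact (zpow_eq_zpow_emod j (by simpa using hA3 _)).symm
    interval_cases j
    · rw [pow_zero] at hj'
      exact absurd hj'.symm (not_mem_commutator P.2 h27 (card_cent_type X hB (hYP hmg) (hy.conj (m * g)))
        fun e1 => X.ne_one (hy.conj (m * g)) (congrArg Subtype.val e1 :))
    · rw [pow_one] at hj'
      exact hj'.symm
    · -- the element would be real
      exfalso
      have hinv : π (⟨_, hYP hxY⟩⁻¹) = π ⟨_, hYP hmg⟩ := by
        rw [map_inv, ← hj']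
        exact inv_eq_of_mul_eq_one_right (by rw [← pow_succ']; exact hA3 _)
      have hinvtop : IsTopFix Ω 3 k (g * y * g⁻¹)⁻¹ :=
        ⟨by rw [orderOf_inv, (hy.conj g).1], by rw [fixedBy_inv', (hy.conj g).2]⟩
      obtain ⟨a, ha⟩ := exists_conj_of_eq P.2 h27
        (card_cent_type X hB ((P : Subgroup G).inv_mem (hYP hxY)) hinvtop) hinv
      have ha' : (a : G) * (g * y * g⁻¹)⁻¹ * (a : G)⁻¹ = m * g * y * (m * g)⁻¹ := congrArg Subtype.val ha
      refine not_real X hB hodd (hy.conj g) ((a : G)⁻¹ * m) ?_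
      calc (a : G)⁻¹ * m * (g * y * g⁻¹) * ((a : G)⁻¹ * m)⁻¹
          = (a : G)⁻¹ * (m * g * y * (m * g)⁻¹) * a := by group
        _ = (a : G)⁻¹ * ((a : G) * (g * y * g⁻¹)⁻¹ * (a : G)⁻¹) * a := by rw [ha']
        _ = _ := by group

end CfsgLib.FixityFour
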