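import Cfsg.Agent.Lib.FixityFour.ThreeBase
import Cfsg.Agent.Lib.FixityFour.Move
import Cfsg.Agent.Lib.MaximalClass

/-!
Three-groups of maximal class carrying elements with centraliser of order nine.
-/

set_option autoImplicit false
set_option linter.unusedSectionVars false
set_option linter.style.haveILetI false

namespace CfsgLib.FixityFour

open Subgroup
open scoped commutatorElement

universe u

variable {P : Type u} [Group P] [Finite P]

theorem of_eq_iff {a b : P} : Abelianization.of a = Abelianization.of b ↔ a⁻¹ * b ∈ commutator P := QuotientGroup.eq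

theorem of_eq_one {a : P} : Abelianization.of a = 1 ↔ a ∈ commutator P := QuotientGroup.eq_one_iff a

/-- The data of a three-group with a centraliser of order nine. -/
theorem max_facts (hP : IsPGroup 3 P) (h27 : 27 ≤ Nat.card P) {x : P} (hx : Nat.card (centralizer ({x} : Set P)) = 9) :
    Nat.card (Abelianization P) = 9 ∧ (∀ a : Abelianization P, a ^ 3 = 1) := by
  haveI : Fact (Nat.Prime 3) := ⟨Nat.prime_three⟩
  obtain ⟨n, hn⟩ := IsPGroup.iff_card.1 hP
  have hn3 : 3 ≤ n := by
    by_contra hc
    have := Nat.pow_le_pow_right (show 0 < 3 by norm_num) (show n ≤ 2 by omega)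
    omega
  have hc := MaximalClass.class_of_centralizer hn (x := x) (by rw [hx]; norm_num)
  refine ⟨(MaximalClass.index_commutator hn3 hn hc).trans (by norm_num), fun a => ?_⟩
  induction a using QuotientGroup.induction_on with
  | _ g =>
    show Abelianization.of g ^ 3 = 1
    rw [← map_pow, of_eq_one]
    exact MaximalClass.pow_mem_commutator hn3 hn hc g

/-- The class of an element with centraliser of order nine is its coset of the derived subgroup. -/
theorem exists_conj_of_eq (hP : IsPGroup 3 P) (h27 : 27 ≤ Nat.card P) {x w : P}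
    (hx : Nat.card (centralizer ({x} : Set P)) = 9) (hw : Abelianization.of x = Abelianization.of w) :
    ∃ g : P, g * x * g⁻¹ = w := by
  have h9 : Nat.card (Abelianization P) = 9 := (max_facts hP h27 hx).1
  let f : P ⧸ centralizer ({x} : Set P) → commutator P := fun q => ⟨x⁻¹ * (q.out * x * q.out⁻¹), of_eq_iff.mp (by
    rw [map_mul, map_mul, map_inv, mul_right_comm, mul_inv_cancel, one_mul])⟩
  have hf : Function.Injective f := fun a b e => by
    have e' : a.out * x * a.out⁻¹ = b.out * x * b.out⁻¹ := mul_left_cancel (congrArg Subtype.val e :)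
    rw [← Quotient.out_eq a, ← Quotient.out_eq b]
    refine QuotientGroup.eq.mpr (mem_centralizer_singleton_iff.mpr ?_)
    calc a.out⁻¹ * b.out * x = a.out⁻¹ * (b.out * x * b.out⁻¹) * b.out := by group
      _ = a.out⁻¹ * (a.out * x * a.out⁻¹) * b.out := by rw [e']
      _ = x * (a.out⁻¹ * b.out) := by group
  have hcard : Nat.card (P ⧸ centralizer ({x} : Set P)) = Nat.card (commutator P) := by
    have h1 := (centralizer ({x} : Set P)).card_mul_index
    have h2 := (commutator P).card_mul_index
    rw [hx, index] at h1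
    rw [index, show Nat.card (P ⧸ commutator P) = 9 from h9] at h2
    omega
  obtain ⟨q, hq⟩ := ((Nat.bijective_iff_injective_and_card f).mpr ⟨hf, hcard⟩).2 ⟨x⁻¹ * w, of_eq_iff.mp hw⟩
  exact ⟨q.out, mul_left_cancel (congrArg Subtype.val hq :)⟩

theorem not_mem_commutator (hP : IsPGroup 3 P) (h27 : 27 ≤ Nat.card P) {x : P}
    (hx : Nat.card (centralizer ({x} : Set P)) = 9) (hx1 : x ≠ 1) : Abelianization.of x ≠ 1 := fun e => by
  obtain ⟨g, hg⟩ := exists_conj_of_eq hP h27 hx (w := 1) (by rw [e, map_one])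
  exact hx1 (conj_eq_one_iff.mp hg)

/-- A proper subgroup has proper image in the abelianisation. -/
theorem map_of_ne_top {p : ℕ} [Fact p.Prime] (hP : IsPGroup p P) {Y : Subgroup P} (hY : Y ≠ ⊤) :
    Y.map (Abelianization.of : P →* Abelianization P) ≠ ⊤ := by
  obtain ⟨M, hM, hYM⟩ := (eq_top_or_exists_le_coatom Y).resolve_left hY
  haveI := hP.isNilpotent
  haveI hn : M.Normal := Subgroup.NormalizerCondition.normal_of_coatom M Group.normalizerCondition_of_isNilpotent hM
  haveI : Nontrivial (P ⧸ M) := QuotientGroup.nontrivial_iff.mpr hM.1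
  haveI := (hP.to_quotient M).center_nontrivial
  have hlt : M < (center (P ⧸ M)).comap (QuotientGroup.mk' M) := by
    refine lt_of_le_of_ne (fun m hm => ?_) fun e => ?_
    · show QuotientGroup.mk' M m ∈ center (P ⧸ M)
      rw [show QuotientGroup.mk' M m = 1 from (QuotientGroup.eq_one_iff m).mpr hm]
      exact one_mem _
    · obtain ⟨⟨c, hc⟩, hc1⟩ := exists_ne (1 : center (P ⧸ M))
      obtain ⟨g, rfl⟩ := QuotientGroup.mk'_surjective M c
      exact hc1 (Subtype.ext ((QuotientGroup.eq_one_iff g).mpr (e.ge hc)))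
  have htop := hM.2 _ hlt
  have hle : commutator P ≤ M := by
    rw [_root_.commutator_def, Subgroup.commutator_le]
    intro a _ b _
    have hc : QuotientGroup.mk' M a * QuotientGroup.mk' M b = QuotientGroup.mk' M b * QuotientGroup.mk' M a :=
      (mem_center_iff.mp (htop.ge (mem_top a)) _).symm
    rw [← QuotientGroup.eq_one_iff]
    show QuotientGroup.mk' M ⁅a, b⁆ = 1
    rw [map_commutatorElement, commutatorElement_eq_one_iff_mul_comm]
    exact hc
  intro e
  refine hM.1 (top_le_iff.mp fun g _ => ?_)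
  obtain ⟨y, hy, hyg⟩ := e.ge (mem_top (Abelianization.of g))
  have := mul_mem (hYM hy) (hle (of_eq_iff.mp hyg))
  rwa [mul_inv_cancel_left] at this

set_option maxRecDepth 10000 in
set_option synthInstance.maxSize 1024 in
theorem no_orbit : ∀ C : Finset (ZMod 3 × ZMod 3), ¬ 3 ∣ C.card → (∀ c ∈ C, c ≠ 0 ∧ -c ∉ C) → C.sum id ≠ 0 := by
  decide +kernel

theorem zmod_three_cases : ∀ j : ZMod 3, j ≠ 0 → j = 1 ∨ j = 2 := by decide

/-- In an elementary abelian group of order nine: no such set of elements. -/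
theorem no_orbit_set {V : Type u} [CommGroup V] [Finite V] (h9 : Nat.card V = 9) (h3 : ∀ a : V, a ^ 3 = 1) (C : Finset V)
    (hC : ¬ 3 ∣ C.card) (hne : ∀ c ∈ C, c ≠ 1 ∧ c⁻¹ ∉ C) : ∏ c ∈ C, c ≠ 1 := by
  classical
  haveI : Fact (Nat.Prime 3) := ⟨Nat.prime_three⟩
  haveI : Nontrivial V := Finite.one_lt_card_iff_nontrivial.mp (by omega)
  obtain ⟨a, ha⟩ := exists_ne (1 : V)
  have hoa : orderOf a = 3 := orderOf_eq_prime (h3 a) ha
  obtain ⟨b, hb⟩ : ∃ b, b ∉ zpowers a := by
    by_contra hc
    push Not at hc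
    have : zpowers a = ⊤ := top_le_iff.mp fun x _ => hc x
    have e := Nat.card_zpowers a
    rw [this, card_top, hoa] at e
    omega
  have hmod : ∀ x : V, ∀ i j : ZMod 3, x ^ (i + j).val = x ^ i.val * x ^ j.val := fun x i j => by
    rw [← pow_add, ZMod.val_add]
    exact (pow_eq_pow_mod _ (h3 x)).symm
  let f : ZMod 3 × ZMod 3 → V := fun q => a ^ q.1.val * b ^ q.2.val
  have hf : ∀ q r, f (q + r) = f q * f r := fun q r => by
    show a ^ (q.1 + r.1).val * b ^ (q.2 + r.2).val = _
    rw [hmod, hmod, mul_mul_mul_comm]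
  have hf0 : f 0 = 1 := by simp [f]
  have hker : ∀ q, f q = 1 → q = 0 := by
    rintro ⟨i, j⟩ e
    have hbj : b ^ j.val ∈ zpowers a := by
      rw [eq_inv_of_mul_eq_one_right (show a ^ i.val * b ^ j.val = 1 from e)]
      exact inv_mem (pow_mem (mem_zpowers a) _)
    obtain rfl : j = 0 := by
      by_contra hj
      have hj2 : j = 1 ∨ j = 2 := zmod_three_cases j hj
      refine hb ?_
      rcases hj2 with rfl | rfl
      · simpa [ZMod.val_one] using hbj
      · have hb2 : b ^ 2 ∈ zpowers a := hbj
        have := mul_mem hb2 hb2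
        rwa [← pow_add, pow_succ, h3, one_mul] at this
    have hai : a ^ i.val = 1 := by simpa [f] using e
    have hd := orderOf_dvd_of_pow_eq_one hai
    rw [hoa] at hd
    obtain rfl : i = 0 := (ZMod.val_eq_zero i).mp (Nat.eq_zero_of_dvd_of_lt hd (ZMod.val_lt i))
    rfl
  have hneg : ∀ q, f (-q) = (f q)⁻¹ := fun q => eq_inv_of_mul_eq_one_left (by rw [← hf, neg_add_cancel, hf0])
  have hinj : Function.Injective f := fun q r e => sub_eq_zero.mp (hker _ (by rw [sub_eq_add_neg, hf, hneg, e, mul_inv_cancel]))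
  have hsurj := ((Nat.bijective_iff_injective_and_card f).mpr ⟨hinj, by rw [h9]; simp⟩).2
  let D := C.preimage f hinj.injOn
  have hDC : D.image f = C := by
    ext c
    simp only [D, Finset.mem_image, Finset.mem_preimage]
    exact ⟨fun ⟨q, hq, e⟩ => e ▸ hq, fun hc => by obtain ⟨q, rfl⟩ := hsurj c; exact ⟨q, hc, rfl⟩⟩
  have hsum : ∀ s : Finset (ZMod 3 × ZMod 3), f (s.sum id) = ∏ q ∈ s, f q := fun s => by
    induction s using Finset.induction_on with
    | empty => simpa using hf0
    | insert q s hq ih => rw [Finset.sum_insert hq, Finset.prod_insert hq, hf, ih]; rfl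
  intro e
  refine no_orbit D ?_ ?_ (hker _ ?_)
  · rwa [← Finset.card_image_of_injective _ hinj, hDC]
  · intro q hq
    have hq' : f q ∈ C := Finset.mem_preimage.mp hq
    refine ⟨fun e0 => (hne _ hq').1 (by rw [e0, hf0]), fun hn => (hne _ hq').2 ?_⟩
    rw [← hneg]
    exact Finset.mem_preimage.mp hn
  · have h2 := Finset.prod_image (s := D) (g := f) (f := fun c : V => c) (fun x _ y _ h => hinj h)
    rw [hDC] at h2
    rw [hsum, ← h2]
    exact e

end CfsgLib.FixityFour
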