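import Cfsg.Agent.Lib.FixityFour.ThreeMax

/-!
Elements of order three, when no stabiliser of a maximal fixed set contains a Sylow three-subgroup.
-/

set_option autoImplicit false
set_option linter.unusedSectionVars false
set_option linter.style.haveILetI false

namespace CfsgLib.FixityFour

open MulAction Subgroup CfsgLib.TransferOrbit
open scoped Pointwise commutatorElement

universe u v

variable {G : Type u} [Group G] [Finite G] {Ω : Type v} [MulAction G Ω] [Finite Ω] {k : ℕ}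

/-- No stabiliser of a maximal fixed set contains a Sylow subgroup. -/
def Moves (G : Type u) [Group G] (Ω : Type v) [MulAction G Ω] (k : ℕ) : Prop :=
  ∀ z : G, IsTopFix Ω 3 k z → ∀ T : Sylow 3 G, ¬ (T : Subgroup G) ≤ MS Ω z

section
variable (X : Fix G Ω 3 k) (hB : Moves G Ω k)
include X hB

/-- Three-subgroups stabilising a maximal fixed set have order at most nine. -/
theorem three_bound {z : G} (hz : IsTopFix Ω 3 k z) {Y : Subgroup G} (hY : IsPGroup 3 Y) (hYM : Y ≤ MS Ω z) :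
    Nat.card Y ≤ 9 := by
  haveI : Fact (Nat.Prime 3) := ⟨Nat.prime_three⟩
  obtain ⟨W, S, hYW, hW, hmax⟩ := exists_max hY hYM
  have hWM : W ≤ MS Ω z := hW ▸ inf_le_right
  obtain ⟨m, hm, hmW⟩ := exists_conj_le hWM (hW ▸ S.2.to_le inf_le_left) hmax
    (IsPGroup.of_card (n := 1) (by rw [Nat.card_zpowers, hz.1, pow_one]) : IsPGroup 3 (zpowers z))
    (zpowers_le.mpr (centralizer_le_MS (Ω := Ω) z (mem_centralizer_singleton_iff.mpr rfl)))
  have hfix : fixedBy Ω (m * z * m⁻¹) = fixedBy Ω z := (fixedBy_conj m z).trans (mem_stabilizer_iff.mp hm)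
  have hlt : W < (S : Subgroup G) := lt_of_le_of_ne (hW ▸ inf_le_left) fun e =>
    hB z hz S (e.symm.le.trans hWM)
  obtain ⟨s, hs, hsW, -, hn⟩ := exists_normalizing S.2 hlt
  have h : Move Ω 3 k S W (m * z * m⁻¹) s :=
    ⟨hz.conj m, hmW z (mem_zpowers z), by rw [MS, hfix]; exact hW, hs, hn, hsW⟩
  obtain ⟨j, hj⟩ := IsPGroup.iff_card.1 (h.pGroup.to_le (inf_le_left : W ⊓ KS Ω (m * z * m⁻¹) ≤ W))
  have hd0 : (fixedBy Ω (s * (m * z * m⁻¹) * s⁻¹) \ fixedBy Ω (m * z * m⁻¹)).ncard ≠ 0 := fun e =>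
    h.fixed_ne (Set.eq_of_subset_of_ncard_le (Set.sdiff_eq_empty.mp ((Set.ncard_eq_zero (Set.toFinite _)).mp e))
      (by rw [h.top.2, h.top'.2]) (Set.toFinite _))
  have hd4 : (fixedBy Ω (s * (m * z * m⁻¹) * s⁻¹) \ fixedBy Ω (m * z * m⁻¹)).ncard ≤ 4 :=
    (h.top'.2 ▸ Set.ncard_le_ncard Set.sdiff_subset (Set.toFinite _)).trans (X.k_le hz)
  have hR := (Nat.le_of_dvd (Nat.pos_of_ne_zero hd0) (h.card_dvd X)).trans hd4
  rw [hj] at hR
  have hj1 : j ≤ 1 := by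
    by_contra hc
    have := Nat.pow_le_pow_right (show 0 < 3 by norm_num) (show 2 ≤ j by omega)
    omega
  have hdvd := card_dvd_mul_factorial (Ω := Ω) h.le_MS
  rw [h.top.2, hj] at hdvd
  have hd' : Nat.card W ∣ 9 * 8 := hdvd.trans ((mul_dvd_mul (pow_dvd_pow 3 hj1)
    (Nat.factorial_dvd_factorial (X.k_le hz))).trans (dvd_of_eq rfl))
  obtain ⟨i, hi⟩ := IsPGroup.iff_card.1 h.pGroup
  refine (card_le_of_le hYW).trans (Nat.le_of_dvd (by norm_num) ?_)
  rw [hi] at hd' ⊢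
  exact (Nat.Coprime.pow_left _ (by decide)).dvd_of_dvd_mul_right hd'

/-- The centraliser in a Sylow subgroup of a maximal element has order nine. -/
theorem card_cent_three {P : Sylow 3 G} {y : G} (hyP : y ∈ P) (hy : IsTopFix Ω 3 k y) :
    Nat.card ↥((P : Subgroup G) ⊓ centralizer ({y} : Set G)) = 9 ∧ 27 ≤ Nat.card P ∧
      ∃ w ∈ (P : Subgroup G), orderOf w = 3 ∧ w ∉ KS Ω y ∧ Commute w y ∧ w ∈ MS Ω y := by
  haveI : Fact (Nat.Prime 3) := ⟨Nat.prime_three⟩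
  set C := (P : Subgroup G) ⊓ centralizer ({y} : Set G) with hC
  have hle := three_bound X hB hy (P.2.to_le inf_le_left : IsPGroup 3 C) (inf_le_right.trans (centralizer_le_MS y))
  obtain ⟨w, hwP, hw3, hwc⟩ := CfsgLib.Comp.exists_central_in_normal (p := 3) P.2 (le_refl (P : Subgroup G))
    le_normalizer (fun e => X.ne_one hy (mem_bot.mp (e.le hyP)))
  have hwK : w ∉ KS Ω y := fun hK => hB y hy P (fun g hg => X.centralizer_le hy hK (i := 1)
    (by rw [pow_one, ← hw3]; exact pow_orderOf_eq_one w) (fun e => by rw [e, orderOf_one] at hw3; omega)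
    (mem_centralizer_singleton_iff.mpr (hwc g hg)))
  have hwy : Commute w y := (hwc y hyP).symm
  have hyC : y ∈ C := ⟨hyP, mem_centralizer_singleton_iff.mpr rfl⟩
  have hwC : w ∈ C := ⟨hwP, mem_centralizer_singleton_iff.mpr hwy.eq⟩
  have hlt : Nat.card (zpowers y) < Nat.card C := by
    refine lt_of_le_of_ne (card_le_of_le (zpowers_le.mpr hyC)) fun e => hwK ?_
    exact zpowers_le.mpr (self_mem_KS y) ((eq_of_le_of_card_ge (zpowers_le.mpr hyC) e.ge).ge hwC)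
  rw [Nat.card_zpowers, hy.1] at hlt
  obtain ⟨i, hi⟩ := IsPGroup.iff_card.1 (P.2.to_le (inf_le_left : C ≤ (P : Subgroup G)))
  have h9 : Nat.card C = 9 := by
    rw [hi] at hle hlt ⊢
    have h1 : 1 < i := (Nat.pow_lt_pow_iff_right (by norm_num : 1 < 3)).mp (by simpa using hlt)
    have h2 : i ≤ 2 := (Nat.pow_le_pow_iff_right (by norm_num : 1 < 3)).mp (by simpa using hle)
    rw [show i = 2 by omega]; rfl
  refine ⟨h9, ?_, w, hwP, hw3, hwK, hwy, centralizer_le_MS y hwC.2⟩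
  obtain ⟨n, hn⟩ := IsPGroup.iff_card.1 P.2
  have h3 : 3 ≤ n := by
    by_contra hc
    have hP9 : Nat.card P ≤ 9 := hn ▸ Nat.pow_le_pow_right (show 0 < 3 by norm_num) (show n ≤ 2 by omega)
    have e : C = (P : Subgroup G) := eq_of_le_of_card_ge inf_le_left (by rw [h9]; exact hP9)
    exact hB y hy P (e.symm.le.trans (inf_le_right.trans (centralizer_le_MS y)))
  exact hn ▸ Nat.pow_le_pow_right (show 0 < 3 by norm_num) h3

theorem card_cent_type {P : Sylow 3 G} {y : G} (hyP : y ∈ P) (hy : IsTopFix Ω 3 k y) :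
    Nat.card (centralizer ({⟨y, hyP⟩} : Set (P : Subgroup G))) = 9 := by
  rw [← (card_cent_three X hB hyP hy).1]
  exact Nat.card_congr
    { toFun := fun g => ⟨((g : (P : Subgroup G)) : G), (g : (P : Subgroup G)).2,
        mem_centralizer_singleton_iff.mpr (congrArg Subtype.val (mem_centralizer_singleton_iff.mp g.2) :)⟩
      invFun := fun g => ⟨⟨g, g.2.1⟩, mem_centralizer_singleton_iff.mpr
        (Subtype.ext (mem_centralizer_singleton_iff.mp g.2.2))⟩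
      left_inv := fun _ => rfl
      right_inv := fun _ => rfl }

/-- A maximal element is not conjugate to its inverse. -/
theorem not_real (hodd : OddStab G Ω) {y : G} (hy : IsTopFix Ω 3 k y) (n : G) : n * y * n⁻¹ ≠ y⁻¹ := by
  haveI : Fact (Nat.Prime 3) := ⟨Nat.prime_three⟩
  intro hn
  obtain ⟨P, hP⟩ := (IsPGroup.of_card (n := 1) (by rw [Nat.card_zpowers, hy.1, pow_one]) :
    IsPGroup 3 (zpowers y)).exists_le_sylow
  obtain ⟨-, -, w, -, hw3, hwK, hwy, hwM⟩ := card_cent_three X hB (hP (mem_zpowers y)) hy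
  have hw3' : w ^ 3 = 1 := by rw [← hw3]; exact pow_orderOf_eq_one w
  have hinv : ∀ q : ℕ, Odd q → ∀ a : G, a * y * a⁻¹ = y⁻¹ → a ^ q * y * (a ^ q)⁻¹ = y⁻¹ := by
    intro q hq a ha
    obtain ⟨m, rfl⟩ := hq
    induction m with
    | zero =>
      rw [Nat.mul_zero, Nat.zero_add, pow_one]
      exact ha
    | succ m ih =>
      rw [show 2 * (m + 1) + 1 = (2 * m + 1) + 1 + 1 by omega, pow_succ', pow_succ']
      calc a * (a * a ^ (2 * m + 1)) * y * (a * (a * a ^ (2 * m + 1)))⁻¹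
          = a * (a * (a ^ (2 * m + 1) * y * (a ^ (2 * m + 1))⁻¹) * a⁻¹) * a⁻¹ := by group
        _ = a * (a * y⁻¹ * a⁻¹) * a⁻¹ := by rw [ih]
        _ = a * y * a⁻¹ := by rw [show a * y⁻¹ * a⁻¹ = y by rw [← conj_inv, ha, inv_inv]]
        _ = y⁻¹ := ha
  have hyy : y⁻¹ ≠ y := fun e => by
    have h2 : y ^ 2 = 1 := by rw [pow_two]; nth_rw 1 [← e]; exact inv_mul_cancel y
    have := orderOf_dvd_of_pow_eq_one h2
    rw [hy.1] at this
    norm_num at this
  have hnM : n ∈ MS Ω y := by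
    refine mem_stabilizer_iff.mpr ?_
    rw [smul_fixedBy, hn, fixedBy_inv']
  obtain ⟨q, i, hq, hqi⟩ := exists_two_part n
  set n₂ := n ^ q with hn₂
  have hn₂i := hinv q hq n hn
  have hn₂M : n₂ ∈ MS Ω y := pow_mem hnM q
  have hk4 := X.k_le hy
  set f := onFin (k := k) (Ω := Ω) hy.2 with hf
  set N : MS Ω y := ⟨n₂, hn₂M⟩
  set T : MS Ω y := ⟨w, hwM⟩
  have hτ3 : f T ^ 3 = 1 := by rw [← map_pow, show T ^ 3 = 1 from Subtype.ext hw3', map_one]
  have hτ1 : f T ≠ 1 := fun e => hwK ((onFin_eq_one hy.2).mp e)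
  have hv8 : f N ^ 8 = 1 := by
    have h24 : f N ^ 24 = 1 := by
      refine orderOf_dvd_iff_pow_eq_one.mp ((_root_.orderOf_dvd_natCard _).trans ?_)
      rw [Nat.card_eq_fintype_card, Fintype.card_perm, Fintype.card_fin]
      exact Nat.factorial_dvd_factorial hk4
    have h2i : f N ^ 2 ^ i = 1 := by rw [← map_pow, show N ^ 2 ^ i = 1 from Subtype.ext hqi, map_one]
    refine orderOf_dvd_iff_pow_eq_one.mp ?_
    have hd := orderOf_dvd_of_pow_eq_one h24
    obtain ⟨j, -, hj⟩ := (Nat.dvd_prime_pow Nat.prime_two).mp (orderOf_dvd_of_pow_eq_one h2i)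
    rw [hj] at hd ⊢
    exact (Nat.Coprime.pow_left _ (by decide : Nat.Coprime 2 3)).dvd_of_dvd_mul_right (show 2 ^ j ∣ 8 * 3 from hd)
  have e := conj_three hk4 (f N) (f T) (sign_eq_one hodd hy.2 hk4 (u := T) hw3' hwK N) hv8 hτ3 hτ1
  set Q : MS Ω y := N * (T * N * T⁻¹) * (T * T * N * (T * T)⁻¹)⁻¹ with hQ
  have hQK : (Q : G) ∈ KS Ω y := (onFin_eq_one hy.2).mp (by
    rw [hQ]
    simp only [map_mul, map_inv]
    rw [← hf, e]
    exact mul_inv_cancel _)
  have hwconj : ∀ a : G, Commute a y → ∀ b : G, b * y * b⁻¹ = y⁻¹ → (a * b * a⁻¹) * y * (a * b * a⁻¹)⁻¹ = y⁻¹ :=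
    fun a ha b hb => by
      calc a * b * a⁻¹ * y * (a * b * a⁻¹)⁻¹ = a * (b * (a⁻¹ * y * a) * b⁻¹) * a⁻¹ := by group
        _ = a * y⁻¹ * a⁻¹ := by rw [show a⁻¹ * y * a = y by rw [mul_assoc, ← ha.eq, inv_mul_cancel_left], hb]
        _ = y⁻¹ := by rw [ha.inv_right.eq, mul_inv_cancel_right]
  have hQy : (Q : G) * y * (Q : G)⁻¹ = y⁻¹ := by
    have h1 := hwconj w hwy n₂ hn₂i
    have h2 := hwconj (w * w) (hwy.mul_left hwy) n₂ hn₂i
    show n₂ * (w * n₂ * w⁻¹) * (w * w * n₂ * (w * w)⁻¹)⁻¹ * y * (n₂ * (w * n₂ * w⁻¹) * (w * w * n₂ * (w * w)⁻¹)⁻¹)⁻¹ = y⁻¹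
    set b := w * n₂ * w⁻¹
    set c := w * w * n₂ * (w * w)⁻¹
    have h2' : c⁻¹ * y * c = y⁻¹ := by
      have h3 : c * y⁻¹ * c⁻¹ = y := by rw [← conj_inv, h2, inv_inv]
      calc c⁻¹ * y * c = c⁻¹ * (c * y⁻¹ * c⁻¹) * c := by rw [h3]
        _ = y⁻¹ := by group
    calc n₂ * b * c⁻¹ * y * (n₂ * b * c⁻¹)⁻¹ = n₂ * (b * (c⁻¹ * y * c) * b⁻¹) * n₂⁻¹ := by group
      _ = y⁻¹ := by rw [h2', ← conj_inv, h1, inv_inv, hn₂i]
  obtain ⟨q', i', hq', hqi'⟩ := exists_two_part (Q : G)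
  obtain ⟨p0, hp0⟩ := (Set.ncard_pos (Set.toFinite (fixedBy Ω y))).mp (hy.2 ▸ X.pos)
  have h1 := no_two_element hodd hqi' (fixedBy_subset_pow (Q : G) q' (mem_KS.mp hQK p0 hp0))
  have h2 := hinv q' hq' _ hQy
  rw [h1, one_mul, inv_one, mul_one] at h2
  exact hyy h2.symm

end

end CfsgLib.FixityFour
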