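import Cfsg.Agent.Lib.SelfEight.Main
import Cfsg.Agent.Lib.SixteenRank.Reduce
import Cfsg.Agent.Lib.ZNStructure.ZN
import Cfsg.Agent.S1234

/-!
Small centralisers of involutions and the sectional two-rank.
-/

set_option autoImplicit false
set_option linter.unusedSectionVars false

namespace CfsgLib.FixityFour

open Subgroup

universe u

section Group
variable {S : Type u} [Group S] [Finite S]

/-- An element whose conjugates lie in a set has centraliser of index at most the size of the set. -/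
theorem index_centralizer_le {x : S} {A : Set S} (h : ∀ g : S, g * x * g⁻¹ ∈ A) :
    (centralizer ({x} : Set S)).index ≤ A.ncard := by
  rw [index, ← Nat.card_coe_set_eq]
  refine Nat.card_le_card_of_injective
    (fun q : S ⧸ centralizer ({x} : Set S) => (⟨q.out * x * q.out⁻¹, h q.out⟩ : A)) fun a b e => ?_
  have e' : a.out * x * a.out⁻¹ = b.out * x * b.out⁻¹ := congrArg Subtype.val e
  rw [← Quotient.out_eq a, ← Quotient.out_eq b]
  refine QuotientGroup.eq.mpr (mem_centralizer_singleton_iff.mpr ?_)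
  calc a.out⁻¹ * b.out * x = a.out⁻¹ * (b.out * x * b.out⁻¹) * b.out := by group
    _ = a.out⁻¹ * (a.out * x * a.out⁻¹) * b.out := by rw [e']
    _ = x * (a.out⁻¹ * b.out) := by group

/-- An involution fixes much of an elementary abelian normal subgroup. -/
theorem card_le_fix_sq {A : Subgroup S} [A.Normal] (hc : IsMulCommutative A) (h2 : ∀ a ∈ A, a ^ 2 = 1) {t : S}
    (ht : t * t = 1) : Nat.card A ≤ Nat.card ↥(A ⊓ centralizer ({t} : Set S)) ^ 2 := by
  have hti : t⁻¹ = t := inv_eq_of_mul_eq_one_right ht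
  have hcomm : ∀ a ∈ A, ∀ b ∈ A, a * b = b * a := fun a ha b hb =>
    congrArg (Subtype.val : A → S) (hc.is_comm.comm ⟨a, ha⟩ ⟨b, hb⟩)
  have hta : ∀ a ∈ A, t * a * t ∈ A := fun a ha => by simpa [hti] using ‹A.Normal›.conj_mem a ha t
  let φ : A →* A :=
    { toFun := fun a => ⟨(a : S) * (t * a * t), mul_mem a.2 (hta a a.2)⟩
      map_one' := Subtype.ext (by simp [ht])
      map_mul' := fun a b => Subtype.ext (by
        show (a : S) * b * (t * (a * b) * t) = a * (t * a * t) * (b * (t * b * t))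
        have e : t * ((a : S) * b) * t = t * a * t * (t * b * t) := by
          rw [show t * (a : S) * t * (t * b * t) = t * a * (t * t) * b * t by group, ht, mul_one,
            mul_assoc t (a : S)]
        rw [e, mul_assoc (a : S), mul_assoc (a : S) (t * a * t), ← mul_assoc (b : S), ← mul_assoc (t * a * t),
          hcomm b b.2 _ (hta a a.2)]) }
  have hinv : ∀ a ∈ A, a⁻¹ = a := fun a ha => inv_eq_of_mul_eq_one_right (by rw [← pow_two]; exact h2 a ha)
  have hker : Nat.card φ.ker = Nat.card ↥(A ⊓ centralizer ({t} : Set S)) := Nat.card_congr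
    { toFun := fun a => ⟨((a : A) : S), (a : A).2, mem_centralizer_singleton_iff.mpr (by
        have e : ((a : A) : S) * (t * (a : A) * t) = 1 := congrArg Subtype.val (MonoidHom.mem_ker.mp a.2)
        have e2 := (inv_eq_of_mul_eq_one_right e).symm.trans (hinv _ (a : A).2)
        calc ((a : A) : S) * t = t * (a : A) * t * t := by rw [e2]
          _ = t * (a : A) := by rw [mul_assoc _ t t, ht, mul_one])⟩
      invFun := fun b => ⟨⟨b, b.2.1⟩, MonoidHom.mem_ker.mpr (Subtype.ext (by
        show (b : S) * (t * b * t) = 1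
        rw [← mem_centralizer_singleton_iff.mp b.2.2, mul_assoc (b : S) t t, ht, mul_one, ← pow_two, h2 _ b.2.1]))⟩
      left_inv := fun _ => rfl
      right_inv := fun _ => rfl }
  rw [card_eq_card_quotient_mul_card_subgroup φ.ker, Nat.card_congr (QuotientGroup.quotientKerEquivRange φ).toEquiv,
    pow_two, hker]
  refine Nat.mul_le_mul_right _ (Nat.card_le_card_of_injective
    (fun r => (⟨((r : A) : S), (r : A).2, ?_⟩ : ↥(A ⊓ centralizer ({t} : Set S))))
    fun a b e => Subtype.ext (Subtype.ext (congrArg Subtype.val e :)))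
  obtain ⟨a, ha⟩ := r.2
  refine mem_centralizer_singleton_iff.mpr ?_
  rw [← ha]
  show (a : S) * (t * a * t) * t = t * (a * (t * a * t))
  calc (a : S) * (t * a * t) * t = t * a * t * a * t := by rw [hcomm a a.2 _ (hta a a.2)]
    _ = t * (a * (t * a * t)) := by simp only [mul_assoc]

/-- A normal elementary abelian subgroup gives one of size eight in the centraliser of an involution. -/
theorem exists_eight (hS : IsPGroup 2 S) (hG : ¬ MacWilliams.NoEight S) {t : S} (ht : t ^ 2 = 1) (ht1 : t ≠ 1) :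
    ∃ A : Subgroup S, A.Normal ∧ IsMulCommutative A ∧ (∀ a ∈ A, a ^ 2 = 1) ∧ Nat.card A = 8 ∧
      ∃ B : Subgroup S, IsMulCommutative B ∧ (∀ a ∈ B, a ^ 2 = 1) ∧ 8 ≤ Nat.card B ∧ t ∈ B ∧
        A ⊓ centralizer ({t} : Set S) ≤ B ∧ B ≤ centralizer ({t} : Set S) := by
  haveI : Fact (Nat.Prime 2) := ⟨Nat.prime_two⟩
  unfold MacWilliams.NoEight at hG
  push Not at hG
  obtain ⟨A', hn', hc', h2', h4'⟩ := hG
  haveI := hn'
  obtain ⟨A, hAn, hAA', h8⟩ := CfsgLib.PGroupRankTwo.exists_normal_card hS A' 3 (by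
    obtain ⟨k, hk⟩ := IsPGroup.iff_card.1 (hS.to_subgroup A')
    rw [hk] at h4' ⊢
    exact Nat.pow_le_pow_right two_pos (by
      by_contra hc
      have := Nat.pow_le_pow_right (show 0 < 2 by norm_num) (show k ≤ 2 by omega)
      omega))
  haveI := hAn
  have hAc : IsMulCommutative A := ⟨⟨fun a b => Subtype.ext
    (congrArg (Subtype.val : A' → S) (hc'.is_comm.comm ⟨a, hAA' a.2⟩ ⟨b, hAA' b.2⟩))⟩⟩
  have hA2 : ∀ a ∈ A, a ^ 2 = 1 := fun a ha => h2' a (hAA' ha)
  set U := A ⊓ centralizer ({t} : Set S) with hU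
  have hU3 : 3 ≤ Nat.card U := by
    have := card_le_fix_sq hAc hA2 (t := t) (by rw [← pow_two]; exact ht)
    rw [← hU] at this
    nlinarith
  refine ⟨A, hAn, hAc, hA2, by simpa using h8, ?_⟩
  by_cases htA : t ∈ A
  · refine ⟨A, hAc, hA2, by simp [h8], htA, inf_le_left, fun a ha => mem_centralizer_singleton_iff.mpr ?_⟩
    exact congrArg (Subtype.val : A → S) (hAc.is_comm.comm ⟨a, ha⟩ ⟨t, htA⟩)
  have ht2 : t * t = 1 := by rw [← pow_two]; exact ht
  have hUc : ∀ u ∈ U, Commute u t := fun u hu => mem_centralizer_singleton_iff.mp hu.2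
  have hUU : ∀ u ∈ U, ∀ v ∈ U, Commute u v := fun u hu v hv =>
    congrArg (Subtype.val : A → S) (hAc.is_comm.comm ⟨u, hu.1⟩ ⟨v, hv.1⟩)
  let B : Subgroup S :=
    { carrier := {g | ∃ u ∈ U, g = u ∨ g = t * u}
      one_mem' := ⟨1, one_mem _, Or.inl rfl⟩
      mul_mem' := by
        rintro a b ⟨u, hu, ha⟩ ⟨v, hv, hb⟩
        refine ⟨u * v, mul_mem hu hv, ?_⟩
        rcases ha with ha | ha <;> rcases hb with hb | hb <;> rw [ha, hb]
        · exact Or.inl rfl
        · exact Or.inr (by rw [← mul_assoc, (hUc u hu).eq, mul_assoc])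
        · exact Or.inr (mul_assoc _ _ _)
        · refine Or.inl ?_
          rw [mul_assoc, ← mul_assoc u t v, (hUc u hu).eq, mul_assoc t u v, ← mul_assoc, ht2, one_mul]
      inv_mem' := by
        rintro a ⟨u, hu, ha⟩
        refine ⟨u⁻¹, inv_mem hu, ?_⟩
        rcases ha with ha | ha <;> rw [ha]
        · exact Or.inl rfl
        · exact Or.inr (by rw [mul_inv_rev, inv_eq_of_mul_eq_one_right ht2, (hUc u hu).inv_left.eq]) }
  have hBsplit : ∀ g ∈ B, ∃ u ∈ U, g = u ∨ g = t * u := fun g hg => hg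
  have hBC : B ≤ centralizer ({t} : Set S) := fun g hg => by
    obtain ⟨u, hu, rfl | rfl⟩ := hBsplit g hg
    · exact hu.2
    · exact mul_mem (mem_centralizer_singleton_iff.mpr rfl) hu.2
  have hB2 : ∀ g ∈ B, g ^ 2 = 1 := fun g hg => by
    obtain ⟨u, hu, rfl | rfl⟩ := hBsplit g hg
    · exact hA2 _ hu.1
    · rw [(hUc u hu).symm.mul_pow, ht, hA2 _ hu.1, one_mul]
  refine ⟨B, ⟨⟨fun a b => MacWilliams.exp_two_comm (fun v : B => Subtype.ext (by simpa using hB2 v v.2)) a b⟩⟩, hB2,
    ?_, ⟨1, one_mem _, Or.inr (mul_one t).symm⟩, fun g hg => ⟨g, hg, Or.inl rfl⟩, hBC⟩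
  obtain ⟨k, hk⟩ := IsPGroup.iff_card.1 (hS.to_subgroup B)
  have hlt : Nat.card U * 2 ≤ Nat.card B := by
    have : Nat.card (U × Bool) ≤ Nat.card B := by
      refine Nat.card_le_card_of_injective (fun p : U × Bool => if p.2 then (⟨t * p.1, p.1, p.1.2,
        Or.inr rfl⟩ : B) else ⟨p.1, p.1, p.1.2, Or.inl rfl⟩) ?_
      rintro ⟨u, a⟩ ⟨v, b⟩ e
      cases a <;> cases b <;> simp only [Bool.false_eq_true, if_false, if_true] at e <;>
        have e' := congrArg Subtype.val e <;> simp only at e'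
      · exact Prod.ext (Subtype.ext e') rfl
      · exact absurd (mul_inv_eq_iff_eq_mul.mpr e' ▸ mul_mem u.2.1 (inv_mem v.2.1)) htA
      · exact absurd (mul_inv_eq_iff_eq_mul.mpr e'.symm ▸ mul_mem v.2.1 (inv_mem u.2.1)) htA
      · exact Prod.ext (Subtype.ext (mul_left_cancel e')) rfl
    simpa [Nat.card_prod] using this
  rw [hk] at hlt ⊢
  calc 8 = 2 ^ 3 := rfl
    _ ≤ _ := Nat.pow_le_pow_right two_pos (by
      by_contra hc
      have := Nat.pow_le_pow_right (show 0 < 2 by norm_num) (show k ≤ 2 by omega)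
      omega)

/-- A small centraliser of an involution. -/
theorem rank_of_small (hS : IsPGroup 2 S) {t : S} (ht : t ^ 2 = 1) (ht1 : t ≠ 1)
    (h16 : Nat.card (centralizer ({t} : Set S)) ≤ 16)
    (hna : Nat.card (centralizer ({t} : Set S)) = 16 → ¬ IsMulCommutative (centralizer ({t} : Set S))) :
    Cfsg.SectionalPRankLE 2 4 S := by
  haveI : Fact (Nat.Prime 2) := ⟨Nat.prime_two⟩
  by_cases hG : MacWilliams.NoEight S
  · exact MacWilliams.sectional_rank_le_four hS hG
  obtain ⟨-, -, -, -, -, B, hBc, hB2, hB8, htB, -, hBC⟩ := exists_eight hS hG ht ht1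
  set C := centralizer ({t} : Set S) with hC
  have hDC : centralizer (B : Set S) ≤ C := fun g hg =>
    mem_centralizer_singleton_iff.mpr (mem_centralizer_iff.mp hg t htB).symm
  have hBD : B ≤ centralizer (B : Set S) := fun g hg => mem_centralizer_iff.mpr fun b hb =>
    congrArg (Subtype.val : B → S) (hBc.is_comm.comm ⟨b, hb⟩ ⟨g, hg⟩)
  have hlt : Nat.card B < 16 := by
    by_contra hc
    have e : B = C := eq_of_le_of_card_ge hBC (by omega)
    exact hna (by have := card_le_of_le hBC; omega) (e ▸ hBc)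
  have h8 : Nat.card B = 8 := by
    obtain ⟨k, hk⟩ := IsPGroup.iff_card.1 (hS.to_subgroup B)
    rw [hk] at hB8 hlt ⊢
    have h1 : k < 4 := (Nat.pow_lt_pow_iff_right one_lt_two).mp (by simpa using hlt)
    have h2 : 3 ≤ k := (Nat.pow_le_pow_iff_right one_lt_two).mp (by simpa using hB8)
    rw [show k = 3 by omega]; rfl
  by_cases hD : centralizer (B : Set S) = B
  · exact CfsgLib.SelfEight.sectional_rank hS B hBc hB2 h8 hD
  exfalso
  have hdvd := card_dvd_of_le hBD
  have hne : Nat.card (centralizer (B : Set S)) ≠ Nat.card B := fun e => hD (eq_of_le_of_card_ge hBD e.le).symm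
  have hpos : 0 < Nat.card (centralizer (B : Set S)) := Nat.card_pos
  have hle := card_le_of_le hDC
  have hD16 : Nat.card (centralizer (B : Set S)) = 16 := by
    rw [h8] at hdvd hne
    obtain ⟨q, hq⟩ := hdvd
    omega
  have hDC' : centralizer (B : Set S) = C := eq_of_le_of_card_ge hDC (by omega)
  have hC16 : Nat.card C = 16 := by omega
  refine hna hC16 ⟨⟨fun g h => Subtype.ext ?_⟩⟩
  have hidx : (B.subgroupOf C).index = 2 := by
    have := (B.subgroupOf C).card_mul_index
    rw [Nat.card_congr (subgroupOfEquivOfLe hBC).toEquiv, h8, hC16] at this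
    omega
  have hcb : ∀ x ∈ C, ∀ b ∈ B, Commute x b := fun x hx b hb =>
    (mem_centralizer_iff.mp (hDC'.ge hx) b hb).symm
  show Commute (g : S) h
  by_cases hg : (g : S) ∈ B
  · exact (hcb h h.2 g hg).symm
  by_cases hh : (h : S) ∈ B
  · exact hcb g g.2 h hh
  have hgi : g⁻¹ ∉ B.subgroupOf C := fun e => hg (inv_mem_iff.mp (mem_subgroupOf.mp e))
  have hhi : h ∉ B.subgroupOf C := fun e => hh (mem_subgroupOf.mp e)
  have hm := (mul_mem_iff_of_index_two hidx (a := g⁻¹) (b := h)).mpr (iff_of_false hgi hhi)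
  have := (Commute.refl (g : S)).mul_right (hcb g g.2 _ (mem_subgroupOf.mp hm))
  simpa using this

/-- An involution whose centraliser contains no elementary abelian subgroup of order eight. -/
theorem rank_of_no_eight (hS : IsPGroup 2 S) {t : S} (ht : t ^ 2 = 1) (ht1 : t ≠ 1)
    (hno : ∀ B : Subgroup S, IsMulCommutative B → (∀ a ∈ B, a ^ 2 = 1) → B ≤ centralizer ({t} : Set S) →
      Nat.card B < 8) : Cfsg.SectionalPRankLE 2 4 S := by
  by_cases hG : MacWilliams.NoEight S
  · exact MacWilliams.sectional_rank_le_four hS hG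
  obtain ⟨-, -, -, -, -, B, hBc, hB2, hB8, -, -, hBC⟩ := exists_eight hS hG ht ht1
  exact absurd (hno B hBc hB2 hBC) (by omega)

/-- A group of order at most 64 with an involution whose centraliser has order at most sixteen. -/
theorem rank_of_card_le (hS : IsPGroup 2 S) (h64 : Nat.card S ≤ 64) {t : S} (ht : t ^ 2 = 1)
    (h16 : Nat.card (centralizer ({t} : Set S)) ≤ 16)
    (hel : Nat.card (centralizer ({t} : Set S)) = 16 → ∃ c ∈ centralizer ({t} : Set S), c ^ 2 ≠ 1) :
    Cfsg.SectionalPRankLE 2 4 S := by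
  haveI : Fact (Nat.Prime 2) := ⟨Nat.prime_two⟩
  intro H N _ E hE hexp
  show Nat.card E ≤ 16
  by_contra hbig
  let π := QuotientGroup.mk' N
  let f : E.comap π →* E := π.subgroupComap E
  have hf : Function.Surjective f :=
    MonoidHom.subgroupComap_surjective_of_surjective π E (QuotientGroup.mk'_surjective N)
  let X : Subgroup S := (E.comap π).map H.subtype
  let e := (E.comap π).equivMapOfInjective H.subtype H.subtype_injective
  let F : X →* E := f.comp e.symm.toMonoidHom
  have hF : Function.Surjective F := hf.comp e.symm.surjective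
  have hV : ∀ v : E, v ^ 2 = 1 := fun v => Subtype.ext (by simpa using hexp v.1 v.2)
  obtain ⟨a, ha⟩ := IsPGroup.iff_card.1 ((hS.to_subgroup X).of_surjective F hF)
  have h32 : 32 ≤ Nat.card E := by
    rw [ha] at hbig ⊢
    calc 32 = 2 ^ 5 := rfl
      _ ≤ _ := Nat.pow_le_pow_right two_pos (by
        by_contra hc
        have := Nat.pow_le_pow_right (show 0 < 2 by norm_num) (show a ≤ 4 by omega)
        omega)
  have hX := card_eq_card_quotient_mul_card_subgroup F.ker
  rw [Nat.card_congr (QuotientGroup.quotientKerEquivOfSurjective F hF).toEquiv] at hX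
  have hXS := X.card_le_card_group
  have hk0 : 0 < Nat.card F.ker := Nat.card_pos
  have hk : Nat.card F.ker = 1 ∨ Nat.card F.ker = 2 := by
    rcases Nat.lt_or_ge 2 (Nat.card F.ker) with h | h
    · exfalso; nlinarith
    · omega
  rcases hk with hk | hk
  · -- an elementary abelian subgroup of order at least 32
    have hinj : Function.Injective F := (MonoidHom.ker_eq_bot_iff F).mp (card_eq_one.mp hk)
    have hX2 : ∀ x ∈ X, x ^ 2 = 1 := fun x hx =>
      congrArg Subtype.val (hinj (show F (⟨x, hx⟩ ^ 2) = F 1 by rw [map_pow, hV, map_one]) :)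
    have hXc : IsMulCommutative X :=
      ⟨⟨fun a b => MacWilliams.exp_two_comm (fun v : X => Subtype.ext (by simpa using hX2 v v.2)) a b⟩⟩
    obtain ⟨n, hn⟩ := IsPGroup.iff_card.1 hS
    haveI : X.Normal := by
      rcases eq_or_ne X ⊤ with e | e
      · rw [e]; infer_instance
      refine normal_of_index_eq_two ?_
      have hi := X.card_mul_index
      have hi1 : X.index ≠ 1 := fun h => e (index_eq_one.mp h)
      have hi0 : 0 < X.index := Nat.pos_of_ne_zero (fun h0 => by rw [h0, mul_zero] at hi; exact absurd hi.symm Nat.card_pos.ne')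
      rcases Nat.lt_or_ge X.index 3 with h | h
      · omega
      · nlinarith
    have hfix := card_le_fix_sq hXc hX2 (t := t) (by rw [← pow_two]; exact ht)
    set U := X ⊓ centralizer ({t} : Set S) with hU
    obtain ⟨j, hj⟩ := IsPGroup.iff_card.1 (hS.to_subgroup U)
    have h3 : 3 ≤ j := by
      by_contra hc
      have : Nat.card U ≤ 4 := hj ▸ Nat.pow_le_pow_right two_pos (show j ≤ 2 by omega)
      nlinarith
    have hU8 : 8 ≤ Nat.card U := hj ▸ Nat.pow_le_pow_right two_pos h3
    have htX : t ∉ X := fun htX => by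
      have hle : X ≤ centralizer ({t} : Set S) := fun x hx => mem_centralizer_singleton_iff.mpr
        (congrArg (Subtype.val : X → S) (hXc.is_comm.comm ⟨x, hx⟩ ⟨t, htX⟩))
      have := card_le_of_le hle
      rw [hk, mul_one] at hX
      omega
    -- `U` and `t` fill the centraliser
    have hinj2 : Function.Injective (fun p : U × Bool => if p.2 then t * (p.1 : S) else (p.1 : S)) := by
      rintro ⟨u, a⟩ ⟨v, b⟩ e
      cases a <;> cases b <;> simp only [Bool.false_eq_true, if_false, if_true] at e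
      · exact Prod.ext (Subtype.ext e) rfl
      · exact absurd (mul_inv_eq_iff_eq_mul.mpr e ▸ mul_mem u.2.1 (inv_mem v.2.1)) htX
      · exact absurd (mul_inv_eq_iff_eq_mul.mpr e.symm ▸ mul_mem v.2.1 (inv_mem u.2.1)) htX
      · exact Prod.ext (Subtype.ext (mul_left_cancel e)) rfl
    have hmem : ∀ p : U × Bool, (if p.2 then t * (p.1 : S) else (p.1 : S)) ∈ centralizer ({t} : Set S) := fun p => by
      have htC : t ∈ centralizer ({t} : Set S) := mem_centralizer_singleton_iff.mpr rfl
      rcases p with ⟨u, _ | _⟩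
      exacts [u.2.2, mul_mem htC u.2.2]
    let g : U × Bool → centralizer ({t} : Set S) := fun p => ⟨_, hmem p⟩
    have hg : Function.Injective g := fun a b e => hinj2 (congrArg Subtype.val e :)
    have hcard := Nat.card_le_card_of_injective g hg
    rw [Nat.card_prod, show Nat.card Bool = 2 by simp] at hcard
    obtain ⟨c, hc, hc2⟩ := hel (by omega)
    obtain ⟨⟨u, b⟩, hub⟩ := ((Nat.bijective_iff_injective_and_card g).mpr ⟨hg, by
      rw [Nat.card_prod, show Nat.card Bool = 2 by simp]; omega⟩).2 ⟨c, hc⟩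
    refine hc2 ?_
    have e3 : (if b then t * (u : S) else (u : S)) = c := congrArg Subtype.val hub
    rw [← e3]
    have hut : Commute t u := (mem_centralizer_singleton_iff.mp u.2.2).symm
    cases b
    · exact hX2 u u.2.1
    · show (t * (u : S)) ^ 2 = 1
      rw [hut.mul_pow, ht, hX2 u u.2.1, one_mul]
  · -- a central series step of order two
    have hXtop : X = ⊤ := eq_top_of_card_eq X (by
      rw [hk] at hX
      omega)
    let K : Subgroup S := F.ker.map X.subtype
    have hK : Nat.card K = 2 := by rw [card_map_of_injective X.subtype_injective, hk]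
    have hcls : ∀ g : S, g * t * g⁻¹ ∈ (fun k => k * t) '' (K : Set S) := fun g => by
      refine ⟨g * t * g⁻¹ * t⁻¹, ⟨⟨g, hXtop ▸ mem_top g⟩ * ⟨t, hXtop ▸ mem_top t⟩ * ⟨g, hXtop ▸ mem_top g⟩⁻¹ *
        ⟨t, hXtop ▸ mem_top t⟩⁻¹, ?_, rfl⟩, by group⟩
      rw [SetLike.mem_coe, MonoidHom.mem_ker, map_mul, map_mul, map_mul, map_inv, map_inv,
        MacWilliams.exp_two_comm hV (F _) (F _), mul_inv_cancel_right, mul_inv_cancel]
    have h := (index_centralizer_le hcls).trans (Set.ncard_image_le (Set.toFinite _))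
    rw [← Nat.card_coe_set_eq, show Nat.card ((K : Set S)) = 2 from hK] at h
    have hi := (centralizer ({t} : Set S)).card_mul_index
    have hXc : Nat.card X = Nat.card S := by rw [hXtop, card_top]
    rw [hk] at hX
    nlinarith

end Group

section Sylow
variable {G : Type u} [Group G]

/-- The centraliser inside a subgroup. -/
abbrev centIn (S : Subgroup G) (t : G) : Subgroup G := S ⊓ centralizer ({t} : Set G)

theorem mem_centIn {S : Subgroup G} {t g : G} : g ∈ centIn S t ↔ g ∈ S ∧ g * t = t * g :=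
  mem_inf.trans (and_congr_right fun _ => mem_centralizer_singleton_iff)

theorem centralizer_eq_centIn (S : Subgroup G) (t : S) :
    centralizer ({t} : Set S) = (centIn S (t : G)).subgroupOf S := by
  ext g
  rw [mem_centralizer_singleton_iff, mem_subgroupOf, mem_centIn]
  exact ⟨fun h => ⟨g.2, congrArg Subtype.val h⟩, fun h => Subtype.ext h.2⟩

theorem card_centralizer_eq (S : Subgroup G) (t : S) :
    Nat.card (centralizer ({t} : Set S)) = Nat.card (centIn S (t : G)) := by
  rw [centralizer_eq_centIn, Nat.card_congr (subgroupOfEquivOfLe inf_le_left).toEquiv]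

variable [Finite G] (S : Sylow 2 G) {t : G} (htS : t ∈ S) (ht : orderOf t = 2)
include htS ht

/-- An involution of a Sylow subgroup, in the subgroup. -/
theorem involution_in : (⟨t, htS⟩ : (S : Subgroup G)) ^ 2 = 1 ∧ (⟨t, htS⟩ : (S : Subgroup G)) ≠ 1 := by
  refine ⟨Subtype.ext (show t ^ 2 = 1 by rw [← ht]; exact pow_orderOf_eq_one t), fun e => ?_⟩
  rw [show t = 1 from congrArg Subtype.val e, orderOf_one] at ht
  omega

theorem rank_small (h16 : Nat.card (centIn S t) ≤ 16)
    (hna : Nat.card (centIn S t) = 16 → ∃ a ∈ centIn (S : Subgroup G) t, ∃ b ∈ centIn (S : Subgroup G) t, a * b ≠ b * a) :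
    Cfsg.SectionalPRankLE 2 4 G := by
  obtain ⟨h2, h1⟩ := involution_in S htS ht
  refine SixteenRank.sectional_of_sylow S (rank_of_small S.2 h2 h1 (by rwa [card_centralizer_eq]) fun h hc => ?_)
  obtain ⟨a, ha, b, hb, hab⟩ := hna (by rwa [card_centralizer_eq] at h)
  exact hab (congrArg (Subtype.val ∘ Subtype.val) (hc.is_comm.comm
    ⟨⟨a, (mem_centIn.mp ha).1⟩, by rw [centralizer_eq_centIn]; exact ha⟩
    ⟨⟨b, (mem_centIn.mp hb).1⟩, by rw [centralizer_eq_centIn]; exact hb⟩) :)

theorem rank_no_eight (hno : ∀ B : Subgroup G, B ≤ centIn S t → (∀ a ∈ B, a * a = 1) → Nat.card B < 8) :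
    Cfsg.SectionalPRankLE 2 4 G := by
  obtain ⟨h2, h1⟩ := involution_in S htS ht
  refine SixteenRank.sectional_of_sylow S (rank_of_no_eight S.2 h2 h1 fun B _ hB2 hBC => ?_)
  rw [Nat.card_congr (B.equivMapOfInjective _ (S : Subgroup G).subtype_injective).toEquiv]
  refine hno _ ?_ ?_
  · rintro _ ⟨b, hb, rfl⟩
    have := hBC hb
    rwa [centralizer_eq_centIn] at this
  · rintro _ ⟨b, hb, rfl⟩
    rw [← map_mul, ← pow_two, hB2 b hb, map_one]

theorem rank_card (h64 : Nat.card S ≤ 64) (h16 : Nat.card (centIn S t) ≤ 16)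
    (hel : ∃ c ∈ centIn (S : Subgroup G) t, c * c ≠ 1) : Cfsg.SectionalPRankLE 2 4 G := by
  obtain ⟨c, hc, hc2⟩ := hel
  obtain ⟨h2, -⟩ := involution_in S htS ht
  refine SixteenRank.sectional_of_sylow S (rank_of_card_le S.2 h64 h2 (by rwa [card_centralizer_eq]) fun _ =>
    ⟨⟨c, (mem_centIn.mp hc).1⟩, by rw [centralizer_eq_centIn]; exact hc, fun e => hc2 ?_⟩)
  rw [← pow_two]
  exact congrArg Subtype.val e

/-- An involution whose centraliser is a four-group. -/
theorem dihedral_semi (h4 : Nat.card (centIn S t) = 4) (hsq : ∀ w ∈ centIn (S : Subgroup G) t, w * w = 1) :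
    (∃ n : ℕ, Nonempty ((S : Subgroup G) ≃* DihedralGroup n)) ∨ Cfsg.IsQuasiDihedral (S : Subgroup G) := by
  have hR := ZNStructure.dihedral_or_semi S.2 (centralizer ({⟨t, htS⟩} : Set (S : Subgroup G)))
    (by rwa [card_centralizer_eq]) (fun w hw => Subtype.ext (hsq w (by rw [centralizer_eq_centIn] at hw; exact hw)))
    (fun g hg => mem_centralizer_singleton_iff.mpr
      (mem_centralizer_iff.mp hg ⟨t, htS⟩ (mem_centralizer_singleton_iff.mpr rfl)).symm)
  exact hR.imp (fun ⟨n, _, h⟩ => ⟨n, h⟩) id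

omit htS ht

/-- A self-centralising elementary abelian subgroup of order eight. -/
theorem rank_self_eight {A : Subgroup G} (hAS : A ≤ (S : Subgroup G)) (hc : ∀ a ∈ A, ∀ b ∈ A, a * b = b * a)
    (h2 : ∀ a ∈ A, a * a = 1) (h8 : Nat.card A = 8)
    (hC : ∀ g ∈ (S : Subgroup G), (∀ a ∈ A, g * a = a * g) → g ∈ A) : Cfsg.SectionalPRankLE 2 4 G := by
  refine SixteenRank.sectional_of_sylow S (CfsgLib.SelfEight.sectional_rank S.2 (A.subgroupOf S)
    ⟨⟨fun a b => Subtype.ext (Subtype.ext (hc _ a.2 _ b.2))⟩⟩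
    (fun a ha => Subtype.ext (by show ((a : G)) ^ 2 = 1; rw [pow_two]; exact h2 _ ha))
    (by rw [Nat.card_congr (subgroupOfEquivOfLe hAS).toEquiv, h8]) (le_antisymm (fun g hg => ?_) fun g hg => ?_))
  · exact hC g g.2 fun a ha => (congrArg Subtype.val (mem_centralizer_iff.mp hg ⟨a, hAS ha⟩ ha)).symm
  · exact mem_centralizer_iff.mpr fun a ha => Subtype.ext (hc _ ha _ hg)

/-- Centralisers equal to one elementary abelian group of order sixteen. -/
theorem rank_setup {T B : Subgroup G} (hTS : T ≤ (S : Subgroup G)) (hTc : ∀ a ∈ T, ∀ b ∈ T, a * b = b * a)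
    (hT2 : ∀ a ∈ T, a * a = 1) (hT : Nat.card T = 16) (hBT : B ≤ T) (hB : Nat.card B = 4)
    (hC : ∀ b ∈ B, b ≠ 1 → centIn (S : Subgroup G) b = T) : Cfsg.SectionalPRankLE 2 4 G := by
  refine SixteenRank.sectional_of_sylow S (SixteenRank.Setup.sectional_rank (T := T.subgroupOf S) (B := B.subgroupOf S)
    ⟨S.2, fun a ha b hb => Subtype.ext (hTc _ ha _ hb), fun a ha => Subtype.ext (hT2 _ ha), ?_,
      fun a ha => hBT ha, ?_, fun b hb hb1 => ?_⟩)
  · rw [Nat.card_congr (subgroupOfEquivOfLe hTS).toEquiv, hT]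
  · rw [Nat.card_congr (subgroupOfEquivOfLe (hBT.trans hTS)).toEquiv, hB]
  · rw [centralizer_eq_centIn, hC b hb fun e => hb1 (Subtype.ext e)]

/-- The wreathed configuration of order 32. -/
theorem rank_wreath {Q E : Subgroup G} (hQS : Q ≤ (S : Subgroup G)) (hEQ : E ≤ Q)
    (hEc : ∀ a ∈ E, ∀ b ∈ E, a * b = b * a) (hE2 : ∀ a ∈ E, a * a = 1) (hE : Nat.card E = 16) (hQ : Nat.card Q = 32)
    {s : G} (hs : s ∈ Q) (hsE : s ∉ E) (hss : s * s = 1) (hfix : Nat.card (centIn E s) = 4)
    (hC : ∀ g ∈ (S : Subgroup G), (∀ e ∈ centIn E s, g * e = e * g) → g ∈ Q) :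
    Cfsg.SectionalPRankLE 2 4 G := by
  refine SixteenRank.sectional_of_sylow S ?_
  have hEl : Cfsg.IsElementaryAbelian 2 (E.subgroupOf S) :=
    ⟨⟨⟨fun a b => Subtype.ext (Subtype.ext (hEc _ a.2 _ b.2))⟩⟩,
      fun a ha => Subtype.ext (by show (a : G) ^ 2 = 1; rw [pow_two]; exact hE2 _ ha)⟩
  let σ : (S : Subgroup G) := ⟨s, hQS hs⟩
  have hσ : orderOf σ = 2 := orderOf_eq_prime (Subtype.ext (by show s ^ 2 = 1; rw [pow_two, hss]))
    fun e => hsE (by rw [show s = 1 from congrArg Subtype.val e]; exact one_mem _)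
  refine Cfsg.Agent.S1234.result S.2 (Q.subgroupOf S) (E.subgroupOf S) (fun a ha => hEQ ha) hEl ?_ ?_ σ hs hsE hσ ?_ ?_
  · rw [Nat.card_congr (subgroupOfEquivOfLe (hEQ.trans hQS)).toEquiv, hE]
  · rw [Nat.card_congr (subgroupOfEquivOfLe hQS).toEquiv, hQ]
  · rw [← hfix]
    exact Nat.card_congr
      { toFun := fun a => ⟨((a : (S : Subgroup G)) : G),
          mem_centIn.mpr ⟨a.2.1, congrArg Subtype.val (mem_centralizer_singleton_iff.mp a.2.2)⟩⟩
        invFun := fun b => ⟨⟨b, hQS (hEQ (mem_centIn.mp b.2).1)⟩, (mem_centIn.mp b.2).1,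
          mem_centralizer_singleton_iff.mpr (Subtype.ext (mem_centIn.mp b.2).2)⟩
        left_inv := fun _ => rfl
        right_inv := fun _ => rfl }
  · refine le_antisymm (fun g hg => ?_) fun g hg => mem_centralizer_iff.mpr ?_
    · refine hC g g.2 fun e he => ?_
      obtain ⟨heE, hes⟩ := mem_centIn.mp he
      let ε : (S : Subgroup G) := ⟨e, hQS (hEQ heE)⟩
      have hεQ : ε ∈ Q.subgroupOf S := hEQ heE
      have hεZ : ε ∈ (center ↥(Q.subgroupOf S)).map (Q.subgroupOf S).subtype := by
        refine ⟨⟨ε, hεQ⟩, mem_center_iff.mpr fun q => Subtype.ext (Subtype.ext ?_), rfl⟩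
        show ((q : (S : Subgroup G)) : G) * e = e * (q : (S : Subgroup G))
        by_cases hq : ((q : (S : Subgroup G)) : G) ∈ E
        · exact hEc _ hq _ heE
        · have hi : (E.subgroupOf Q).index = 2 := by
            have := (E.subgroupOf Q).card_mul_index
            rw [Nat.card_congr (subgroupOfEquivOfLe hEQ).toEquiv, hE, hQ] at this
            omega
          have hm : ((q : (S : Subgroup G)) : G) * s ∈ E :=
            (mul_mem_iff_of_index_two hi (a := ⟨_, q.2⟩) (b := ⟨s, hs⟩)).2 (iff_of_false hq hsE)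
          have h1 : Commute (((q : (S : Subgroup G)) : G) * s) e := hEc _ hm _ heE
          have h2 := h1.mul_left (Commute.inv_left (hes.symm : Commute s e))
          simpa using h2.eq
      exact (congrArg Subtype.val (mem_centralizer_iff.mp hg ε hεZ)).symm
    · rintro _ ⟨⟨x, hx⟩, hxZ, rfl⟩
      exact (congrArg Subtype.val (mem_center_iff.mp hxZ ⟨g, hg⟩)).symm

end Sylow

end CfsgLib.FixityFour
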