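import Cfsg.Agent.Lib.FixityFour.Setup
import Cfsg.Agent.Lib.FixityFour.TwoTools

/-!
Two-groups acting on sets of at most four points.
-/

set_option autoImplicit false
set_option linter.unusedSectionVars false
set_option linter.style.haveILetI false

namespace CfsgLib.FixityFour

open MulAction Subgroup
open scoped Pointwise

universe u v

set_option maxRecDepth 10000 in
theorem card_wide : (Finset.univ.filter fun σ : Equiv.Perm (Fin 4) =>
    8 ≤ (Finset.univ.filter fun τ : Equiv.Perm (Fin 4) => σ * τ = τ * σ).card).card ≤ 4 := by decide +kernel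

set_option maxRecDepth 10000 in
theorem perm_fix_point : ∀ σ : Equiv.Perm (Fin 4), σ ^ 8 = 1 → (∃ x, σ x = x) →
    σ * σ = 1 ∧ (σ ≠ 1 → (Finset.univ.filter fun x => σ x = x).card = 2) := by decide +kernel

theorem perm_order : ∀ σ : Equiv.Perm (Fin 4), σ ^ 24 = 1 := fun σ => by
  have := pow_card_eq_one (x := σ)
  rwa [Fintype.card_perm, Fintype.card_fin] at this

theorem pow_eight {H : Type*} [Monoid H] {x : H} {i : ℕ} (h : x ^ 2 ^ i = 1) (h24 : x ^ 24 = 1) : x ^ 8 = 1 := by
  have hd := Nat.dvd_gcd (orderOf_dvd_of_pow_eq_one h) (orderOf_dvd_of_pow_eq_one h24)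
  refine orderOf_dvd_iff_pow_eq_one.mp (hd.trans ?_)
  rcases Nat.lt_or_ge i 3 with hi | hi
  · interval_cases i <;> decide
  · rw [show 24 = 8 * 3 from rfl, show 2 ^ i = 8 * 2 ^ (i - 3) by
      rw [show (8 : ℕ) = 2 ^ 3 from rfl, ← pow_add]; congr 1; omega, Nat.gcd_mul_left]
    rw [Nat.Coprime.gcd_eq_one (Nat.Coprime.pow_left _ (by decide))]

/-- A commutative group of permutations of four points does not have order eight. -/
theorem not_comm_eight (H : Subgroup (Equiv.Perm (Fin 4))) (h8 : Nat.card H = 8) :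
    ¬ ∀ a ∈ H, ∀ b ∈ H, a * b = b * a := by
  classical
  intro hc
  have hsub : (Finset.univ.filter fun σ => σ ∈ H) ⊆
      Finset.univ.filter fun σ : Equiv.Perm (Fin 4) =>
        8 ≤ (Finset.univ.filter fun τ : Equiv.Perm (Fin 4) => σ * τ = τ * σ).card := by
    intro a ha
    rw [Finset.mem_filter] at ha ⊢
    refine ⟨Finset.mem_univ _, ?_⟩
    rw [← h8, Nat.card_eq_fintype_card, Fintype.card_subtype]
    exact Finset.card_le_card fun b hb => Finset.mem_filter.mpr
      ⟨Finset.mem_univ _, hc a ha.2 b (Finset.mem_filter.mp hb).2⟩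
  have := (Finset.card_le_card hsub).trans card_wide
  rw [← Fintype.card_subtype, ← Nat.card_eq_fintype_card] at this
  have h' : Nat.card H ≤ 4 := this
  omega

variable {G : Type u} [Group G] [Finite G] {Ω : Type v} [MulAction G Ω] [Finite Ω]

/-- The action on a fixed set of four points, by permutations of `Fin 4`. -/
noncomputable def onFour {z : G} (h : (fixedBy Ω z).ncard = 4) : MS Ω z →* Equiv.Perm (Fin 4) :=
  (Equiv.permCongrHom (Finite.equivFinOfCardEq ((Nat.card_coe_set_eq _).trans h))).toMonoidHom.comp (onSet z)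

theorem onFour_eq_one {z : G} (h : (fixedBy Ω z).ncard = 4) {g : MS Ω z} :
    onFour h g = 1 ↔ (g : G) ∈ KS Ω z := by
  rw [← onSet_eq_one, onFour, MonoidHom.comp_apply]
  exact map_eq_one_iff _ (MulEquiv.injective _)

theorem onFour_fix {z : G} (h : (fixedBy Ω z).ncard = 4) (g : MS Ω z) (y : fixedBy Ω z) :
    onFour h g (Finite.equivFinOfCardEq ((Nat.card_coe_set_eq _).trans h) y) =
        Finite.equivFinOfCardEq ((Nat.card_coe_set_eq _).trans h) y ↔ (g : G) • (y : Ω) = y := by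
  simp [onFour, onSet, Equiv.permCongrHom, Subtype.ext_iff]

/-- A two-element of the stabiliser fixing one of four points. -/
theorem sq_mem_of_fix {z : G} (h : (fixedBy Ω z).ncard = 4) {g : G} (hg : g ∈ MS Ω z) {i : ℕ}
    (hgp : g ^ 2 ^ i = 1) {y : Ω} (hy : y ∈ fixedBy Ω z) (hgy : g • y = y) :
    g * g ∈ KS Ω z ∧ (g ∉ KS Ω z → (fixedBy Ω g ∩ fixedBy Ω z).ncard = 2) := by
  classical
  set e := Finite.equivFinOfCardEq ((Nat.card_coe_set_eq _).trans h) with he
  set σ := onFour h ⟨g, hg⟩ with hσ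
  have h8 : σ ^ 8 = 1 := pow_eight (i := i) (by
    rw [hσ, ← map_pow, show (⟨g, hg⟩ : MS Ω z) ^ 2 ^ i = 1 from Subtype.ext hgp, map_one]) (perm_order σ)
  obtain ⟨hsq, htwo⟩ := perm_fix_point σ h8 ⟨e ⟨y, hy⟩, (onFour_fix h _ _).mpr hgy⟩
  refine ⟨(onFour_eq_one h (g := ⟨g, hg⟩ * ⟨g, hg⟩)).mp (by rw [map_mul]; exact hsq), fun hn => ?_⟩
  rw [← htwo fun e1 => hn ((onFour_eq_one h).mp e1), ← Fintype.card_subtype, ← Nat.card_eq_fintype_card,
    ← Nat.card_coe_set_eq]
  exact Nat.card_congr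
    { toFun := fun w => ⟨e ⟨w, w.2.2⟩, (onFour_fix h _ _).mpr w.2.1⟩
      invFun := fun x => ⟨e.symm x.1,
        (onFour_fix h ⟨g, hg⟩ (e.symm x.1)).mp (by rw [← he, e.apply_symm_apply]; exact x.2), (e.symm x.1).2⟩
      left_inv := fun w => Subtype.ext (by simp)
      right_inv := fun x => Subtype.ext (by simp) }


/-- Two-groups with an image of order eight on four points are not commutative. -/
theorem exists_noncomm {z : G} (h : (fixedBy Ω z).ncard = 4) {W : Subgroup G} (hW : W ≤ MS Ω z)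
    (h8 : Nat.card W = 8 * Nat.card ↥(W ⊓ KS Ω z)) : ∃ a ∈ W, ∃ b ∈ W, a * b ≠ b * a := by
  by_contra hc
  push Not at hc
  let f : W →* Equiv.Perm (Fin 4) := (onFour h).comp (Subgroup.inclusion hW)
  have hk : Nat.card f.ker = Nat.card ↥(W ⊓ KS Ω z) := Nat.card_congr
    { toFun := fun g => ⟨((g : W) : G), (g : W).2, (onFour_eq_one h).mp g.2⟩
      invFun := fun g => ⟨⟨(g : G), g.2.1⟩, (onFour_eq_one h).mpr g.2.2⟩
      left_inv := fun _ => rfl
      right_inv := fun _ => rfl }
  have hr : Nat.card f.range = 8 := by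
    have := card_eq_card_quotient_mul_card_subgroup f.ker
    rw [Nat.card_congr (QuotientGroup.quotientKerEquivRange f).toEquiv, h8, hk] at this
    exact (Nat.eq_of_mul_eq_mul_right Nat.card_pos this).symm
  refine not_comm_eight f.range hr ?_
  rintro _ ⟨a, rfl⟩ _ ⟨b, rfl⟩
  rw [← map_mul, ← map_mul, show a * b = b * a from Subtype.ext (hc a a.2 b b.2)]

/-- A free group of as many elements as points is transitive. -/
theorem exists_move {R : Subgroup G} (D : Set Ω) (hD : ∀ r ∈ R, ∀ y ∈ D, r • y ∈ D)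
    (hfree : ∀ r ∈ R, ∀ y ∈ D, r • y = y → r = 1) (hc : Nat.card R = D.ncard) {x y : Ω} (hx : x ∈ D) (hy : y ∈ D) :
    ∃ r ∈ R, r • x = y := by
  let g : R → D := fun r => ⟨(r : G) • x, hD r r.2 x hx⟩
  have hg : Function.Injective g := fun a b e => by
    have e' : (a : G) • x = (b : G) • x := congrArg Subtype.val e
    exact Subtype.ext (inv_mul_eq_one.mp (hfree _ (mul_mem (inv_mem a.2) b.2) x hx
      (by rw [mul_smul, ← e', inv_smul_smul])))
  obtain ⟨r, hr⟩ := ((Nat.bijective_iff_injective_and_card g).mpr ⟨hg, by rw [hc, Nat.card_coe_set_eq]⟩).2 ⟨y, hy⟩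
  exact ⟨r, r.2, congrArg Subtype.val hr⟩

/-- A subgroup of order at most four with two commuting involutions. -/
theorem four_eq {C : Subgroup G} {a b : G} (ha : a ∈ C) (hb : b ∈ C) (h4 : Nat.card C ≤ 4) (hab : Commute a b)
    (ha2 : orderOf a = 2) (hb2 : orderOf b = 2) (hne : a ≠ b) : Nat.card C = 4 ∧ ∀ w ∈ C, w * w = 1 := by
  classical
  have haa : a * a = 1 := by rw [← pow_two, ← ha2]; exact pow_orderOf_eq_one a
  have hbb : b * b = 1 := by rw [← pow_two, ← hb2]; exact pow_orderOf_eq_one b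
  have ha1 : a ≠ 1 := fun e => by rw [e, orderOf_one] at ha2; omega
  have hb1 : b ≠ 1 := fun e => by rw [e, orderOf_one] at hb2; omega
  have hab1 : a * b ≠ 1 := fun e => hne ((eq_inv_of_mul_eq_one_left e).trans (inv_eq_of_mul_eq_one_right hbb))
  have hsub : ({1, a, b, a * b} : Set G) ⊆ (C : Set G) := by
    rintro x (rfl | rfl | rfl | rfl)
    exacts [one_mem _, ha, hb, mul_mem ha hb]
  have h4' : ({1, a, b, a * b} : Set G).ncard = 4 := by
    rw [Set.ncard_insert_of_notMem (by simp [ha1.symm, hb1.symm, hab1.symm]) (Set.toFinite _),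
      Set.ncard_insert_of_notMem (by simp [hne, hb1]) (Set.toFinite _),
      Set.ncard_pair (fun e => ha1 (mul_eq_right.mp e.symm))]
  have e := Set.eq_of_subset_of_ncard_le hsub (by rw [h4', ← Nat.card_coe_set_eq]; exact h4) (Set.toFinite _)
  refine ⟨by rw [← h4', e, ← Nat.card_coe_set_eq]; rfl, fun w hw => ?_⟩
  have hw' : w ∈ ({1, a, b, a * b} : Set G) := by rw [e]; exact hw
  rcases hw' with rfl | rfl | rfl | rfl
  exacts [one_mul 1, haa, hbb, by rw [mul_assoc, ← mul_assoc b a b, ← hab.eq, mul_assoc a b b, hbb, mul_one, haa]]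

/-- A two-power dividing `2 ^ n` times an odd number. -/
theorem two_pow_dvd {W : Subgroup G} (hW : IsPGroup 2 W) {m q : ℕ} (hq : Odd q) (h : Nat.card W ∣ m * q) :
    Nat.card W ∣ m := by
  haveI : Fact (Nat.Prime 2) := ⟨Nat.prime_two⟩
  obtain ⟨k, hk⟩ := IsPGroup.iff_card.1 hW
  rw [hk] at h ⊢
  exact (Nat.Coprime.pow_left _ (Nat.coprime_two_left.mpr hq)).dvd_of_dvd_mul_right h

end CfsgLib.FixityFour
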