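import Cfsg.Agent.Lib.FixityFour.TwoStay

/-!
Involutions with four fixed points inside a Sylow subgroup: the sectional rank is at most four.
-/

set_option autoImplicit false
set_option linter.unusedSectionVars false
set_option linter.style.haveILetI false

namespace CfsgLib.FixityFour

open MulAction Subgroup
open scoped Pointwise

universe u v

variable {G : Type u} [Group G] [Finite G] {Ω : Type v} [MulAction G Ω] [Finite Ω]

section Quad
variable (X : Fix G Ω 2 4) (hno : ¬ Cfsg.SectionalPRankLE 2 4 G) {S : Sylow 2 G} {z t : G} (h : Stay Ω 4 S z)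
  (htS : t ∈ S) (ht : IsTopFix Ω 2 4 t) (hne : fixedBy Ω t ≠ fixedBy Ω z)

local notation "Rt" => centIn (S : Subgroup G) t ⊓ KS Ω z
local notation "Dt" => centIn (S : Subgroup G) t ⊓ KS Ω t

include X hno h htS ht hne

theorem quad : Nat.card ↥Rt = 4 ∧ Nat.card ↥Dt = 4 := (rank_or_quad X h htS ht hne).resolve_left hno

theorem fixed_disjoint {y : Ω} (hy : y ∈ fixedBy Ω t) : y ∉ fixedBy Ω z := by
  have hR := R_dvd X h htS ht hne
  rw [(quad X hno h htS ht hne).1] at hR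
  have h0 : (fixedBy Ω t \ fixedBy Ω z).ncard ≠ 0 := fun e => hne (Set.eq_of_subset_of_ncard_le
    (Set.sdiff_eq_empty.mp ((Set.ncard_eq_zero (Set.toFinite _)).mp e)) (by rw [ht.2, h.top.2]) (Set.toFinite _))
  have e := Set.eq_of_subset_of_ncard_le (Set.sdiff_subset (s := fixedBy Ω t) (t := fixedBy Ω z))
    (by rw [ht.2]; exact Nat.le_of_dvd (Nat.pos_of_ne_zero h0) hR) (Set.toFinite _)
  exact (e.ge hy).2

theorem commute_factors {r d : G} (hr : r ∈ Rt) (hd : d ∈ Dt) : Commute r d := by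
  obtain ⟨hle1, hle2⟩ := cent_le X h htS ht hne
  have h1 : r * d * r⁻¹ * d⁻¹ ∈ KS Ω z := by
    rw [show r * d * r⁻¹ * d⁻¹ = r * (d * r⁻¹ * d⁻¹) by group]
    exact mul_mem hr.2 (KS_conj (hle1 hd.1) (inv_mem hr.2))
  have h2 : r * d * r⁻¹ * d⁻¹ ∈ KS Ω t := mul_mem (KS_conj (hle2 hr.1) hd.2) (inv_mem hd.2)
  have hS : r * d * r⁻¹ * d⁻¹ ∈ (S : Subgroup G) :=
    mul_mem (mul_mem (mul_mem (mem_centIn.mp hr.1).1 (mem_centIn.mp hd.1).1) (inv_mem (mem_centIn.mp hr.1).1))
      (inv_mem (mem_centIn.mp hd.1).1)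
  have e := no_common X h htS ht hne hS h1 h2
  exact mul_inv_eq_iff_eq_mul.mp (mul_inv_eq_one.mp e)

theorem commute_four {W : Subgroup G} (h4 : Nat.card W = 4) {a b : G} (ha : a ∈ W) (hb : b ∈ W) : Commute a b := by
  haveI : Fact (Nat.Prime 2) := ⟨Nat.prime_two⟩
  exact congrArg Subtype.val
    ((IsPGroup.isMulCommutative_of_card_eq_prime_sq (p := 2) (G := W) (by rw [h4]; norm_num)).is_comm.comm ⟨a, ha⟩ ⟨b, hb⟩)

theorem decompose {c : G} (hc : c ∈ centIn (S : Subgroup G) t) : ∃ r ∈ Rt, ∃ d ∈ Dt, c = r * d := by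
  obtain ⟨hR4, hD4⟩ := quad X hno h htS ht hne
  obtain ⟨hle1, hle2⟩ := cent_le X h htS ht hne
  by_contra hn
  push Not at hn
  have hpow : ∀ g ∈ (S : Subgroup G), ∃ i : ℕ, g ^ 2 ^ i = 1 := fun g hg => by
    obtain ⟨i, hi⟩ := S.2 ⟨g, hg⟩
    exact ⟨i, congrArg Subtype.val hi⟩
  obtain ⟨x, hx⟩ := (Set.ncard_pos (Set.toFinite _)).mp (show 0 < (fixedBy Ω z).ncard by rw [h.top.2]; norm_num)
  obtain ⟨y, hy⟩ := (Set.ncard_pos (Set.toFinite _)).mp (show 0 < (fixedBy Ω t).ncard by rw [ht.2]; norm_num)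
  have hSpow : ∀ g ∈ centIn (S : Subgroup G) t, ∃ i : ℕ, g ^ 2 ^ i = 1 := fun g hg => hpow g (mem_centIn.mp hg).1
  -- `D` is regular on the points of `z`, `R` on those of `t`
  obtain ⟨d, hd, hdx⟩ := exists_move (R := Dt) (fixedBy Ω z) (fun r hr w hw => mem_fixed_of_mem (hle1 hr.1) hw)
    (fun r hr w hw e => by
      by_contra h1
      obtain ⟨i, hi⟩ := hSpow r hr.1
      exact fixed_disjoint X hno h htS ht hne ((X.fixed_eq ht hr.2 hi h1).le e) hw)
    (by rw [hD4, h.top.2]) hx (mem_fixed_of_mem (hle1 hc) hx)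
  have hc2C : d⁻¹ * c ∈ centIn (S : Subgroup G) t := mul_mem (inv_mem hd.1) hc
  obtain ⟨r, hr, hry⟩ := exists_move (R := Rt) (fixedBy Ω t) (fun r hr w hw => mem_fixed_of_mem (hle2 hr.1) hw)
    (fun r hr w hw e => by
      by_contra h1
      obtain ⟨i, hi⟩ := hSpow r hr.1
      exact fixed_disjoint X hno h htS ht hne hw ((X.fixed_eq h.top hr.2 hi h1).le e))
    (by rw [hR4, ht.2]) hy (mem_fixed_of_mem (hle2 hc2C) hy)
  set c' := r⁻¹ * (d⁻¹ * c) with hc'
  have hc'C : c' ∈ centIn (S : Subgroup G) t := mul_mem (inv_mem hr.1) hc2C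
  have hnot : ∀ r' ∈ Rt, ∀ d' ∈ Dt, c' ≠ r' * d' := fun r' hr' d' hd' e => by
    refine hn (r * r') (mul_mem hr hr') (d * d') (mul_mem hd hd') ?_
    have e2 : c = d * r * (r' * d') := by rw [← e, hc']; group
    rw [e2, (commute_factors X hno h htS ht hne hr hd).symm.eq, mul_assoc, mul_assoc, ← mul_assoc d r' d',
      (commute_factors X hno h htS ht hne hr' hd).symm.eq, mul_assoc]
  have hc'x : c' • x = x := by
    have e : (d⁻¹ * c) • x = x := by rw [mul_smul, ← hdx, inv_smul_smul]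
    rw [hc', mul_smul, e]
    exact mem_KS.mp (inv_mem hr.2) x hx
  have hc'y : c' • y = y := by rw [hc', mul_smul, ← hry, inv_smul_smul]
  obtain ⟨i, hi⟩ := hSpow c' hc'C
  obtain ⟨hsq1, htwo1⟩ := sq_mem_of_fix h.top.2 (hle1 hc'C) hi hx hc'x
  obtain ⟨hsq2, htwo2⟩ := sq_mem_of_fix ht.2 (hle2 hc'C) hi hy hc'y
  have h1 : (fixedBy Ω c' ∩ fixedBy Ω z).ncard = 2 :=
    htwo1 fun hk => hnot c' ⟨hc'C, hk⟩ 1 (one_mem _) (mul_one _).symm
  have h2 : (fixedBy Ω c' ∩ fixedBy Ω t).ncard = 2 :=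
    htwo2 fun hk => hnot 1 (one_mem _) c' ⟨hc'C, hk⟩ (one_mul _).symm
  have hc'1 : c' ≠ 1 := fun e => hnot 1 (one_mem _) 1 (one_mem _) (by rw [e, mul_one])
  have ho : orderOf c' = 2 := orderOf_eq_prime (by
    rw [pow_two]
    exact no_common X h htS ht hne (mul_mem (mem_centIn.mp hc'C).1 (mem_centIn.mp hc'C).1) hsq1 hsq2) hc'1
  have hge : 4 ≤ (fixedBy Ω c').ncard := by
    have hdis : Disjoint (fixedBy Ω c' ∩ fixedBy Ω z) (fixedBy Ω c' ∩ fixedBy Ω t) :=
      Set.disjoint_left.mpr fun w hw hw' => fixed_disjoint X hno h htS ht hne hw'.2 hw.2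
    have := Set.ncard_union_eq hdis (Set.toFinite _) (Set.toFinite _)
    rw [h1, h2] at this
    exact this.ge.trans (Set.ncard_le_ncard (Set.union_subset Set.inter_subset_left Set.inter_subset_left) (Set.toFinite _))
  have htop : IsTopFix Ω 2 4 c' := ⟨ho, le_antisymm (X.top _ ho) hge⟩
  have hne' : fixedBy Ω c' ≠ fixedBy Ω z := fun e => by
    rw [e, Set.inter_self, h.top.2] at h1
    omega
  have hd2 : (fixedBy Ω c' \ fixedBy Ω z).ncard = 2 := by
    have := Set.ncard_inter_add_ncard_sdiff_eq_ncard (fixedBy Ω c') (fixedBy Ω z) (Set.toFinite _)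
    rw [h1, htop.2] at this
    omega
  have hR' := R_dvd X h (mem_centIn.mp hc'C).1 htop hne'
  rw [(quad X hno h (mem_centIn.mp hc'C).1 htop hne').1, hd2] at hR'
  norm_num at hR'

theorem card_cent : Nat.card (centIn (S : Subgroup G) t) = 16 := by
  obtain ⟨hR4, hD4⟩ := quad X hno h htS ht hne
  let f : ↥Rt × ↥Dt → centIn (S : Subgroup G) t := fun p => ⟨p.1 * p.2, mul_mem p.1.2.1 p.2.2.1⟩
  rw [← Nat.card_eq_of_bijective f ⟨?_, ?_⟩, Nat.card_prod, hR4, hD4]
  · rintro ⟨r, d⟩ ⟨r', d'⟩ e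
    have e' : (r : G) * d = r' * d' := congrArg Subtype.val e
    have e2 : (r' : G)⁻¹ * r = d' * (d : G)⁻¹ := by
      rw [eq_mul_inv_iff_mul_eq, mul_assoc, e', inv_mul_cancel_left]
    have h1 := no_common X h htS ht hne (g := (r' : G)⁻¹ * r)
      (mul_mem (inv_mem (mem_centIn.mp r'.2.1).1) (mem_centIn.mp r.2.1).1) (mul_mem (inv_mem r'.2.2) r.2.2)
      (by rw [e2]; exact mul_mem d'.2.2 (inv_mem d.2.2))
    have hr : r' = r := Subtype.ext (inv_mul_eq_one.mp h1)
    subst hr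
    exact Prod.ext rfl (Subtype.ext (mul_left_cancel e'))
  · intro c
    obtain ⟨r, hr, d, hd, e⟩ := decompose X hno h htS ht hne c.2
    exact ⟨(⟨r, hr⟩, ⟨d, hd⟩), Subtype.ext e.symm⟩

theorem cent_comm {a b : G} (ha : a ∈ centIn (S : Subgroup G) t) (hb : b ∈ centIn (S : Subgroup G) t) :
    Commute a b := by
  obtain ⟨hR4, hD4⟩ := quad X hno h htS ht hne
  obtain ⟨r, hr, d, hd, rfl⟩ := decompose X hno h htS ht hne ha
  obtain ⟨r', hr', d', hd', rfl⟩ := decompose X hno h htS ht hne hb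
  exact Commute.mul_left
    ((commute_four X hno h htS ht hne hR4 hr hr').mul_right (commute_factors X hno h htS ht hne hr hd'))
    ((commute_factors X hno h htS ht hne hr' hd).symm.mul_right (commute_four X hno h htS ht hne hD4 hd hd'))

/-- In a non-elementary factor of order four only two elements have square one. -/
theorem sq_one_cases {W : Subgroup G} (h4 : Nat.card W = 4) (hW : ∃ w ∈ W, w * w ≠ 1) {a : G} (ha : a ∈ W)
    (ha2 : orderOf a = 2) {r : G} (hr : r ∈ W) (hr2 : r * r = 1) : r = 1 ∨ r = a := by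
  by_contra hc
  push Not at hc
  obtain ⟨w, hw, hw2⟩ := hW
  exact hw2 ((four_eq hr ha h4.le (commute_four X hno h htS ht hne h4 hr ha)
    (orderOf_eq_prime (by rw [pow_two]; exact hr2) hc.1) ha2 hc.2).2 w hw)

theorem sq_split {r d : G} (hr : r ∈ Rt) (hd : d ∈ Dt) (he : r * d * (r * d) = 1) : r * r = 1 ∧ d * d = 1 := by
  have hcd := commute_factors X hno h htS ht hne hr hd
  have e : r * r * (d * d) = 1 := by
    rw [← he]
    simp only [mul_assoc]
    rw [← mul_assoc d r d, ← hcd.eq, mul_assoc r d d]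
  have e' : r * r = (d * d)⁻¹ := eq_inv_of_mul_eq_one_left e
  have h1 : r * r = 1 := no_common X h htS ht hne (mul_mem (mem_centIn.mp hr.1).1 (mem_centIn.mp hr.1).1)
    (mul_mem hr.2 hr.2) (by rw [e']; exact inv_mem (mul_mem hd.2 hd.2))
  rw [h1, one_mul] at e
  exact ⟨h1, e⟩

/-- Both factors elementary. -/
theorem both_elementary (hR : ∀ r ∈ Rt, r * r = 1) (hD : ∀ d ∈ Dt, d * d = 1) : False := by
  obtain ⟨hR4, hD4⟩ := quad X hno h htS ht hne
  refine hno (rank_setup S (T := centIn (S : Subgroup G) t) (B := Dt) inf_le_left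
    (fun a ha b hb => cent_comm X hno h htS ht hne ha hb) (fun a ha => ?_) (card_cent X hno h htS ht hne) inf_le_left
    hD4 fun b hb hb1 => ?_)
  · obtain ⟨r, hr, d, hd, rfl⟩ := decompose X hno h htS ht hne ha
    rw [← mul_assoc, mul_assoc r d r, ← (commute_factors X hno h htS ht hne hr hd).eq, ← mul_assoc, hR r hr, one_mul,
      hD d hd]
  · obtain ⟨hfb, htb⟩ := X.top_eq ht (orderOf_eq_prime (by rw [pow_two]; exact hD b hb) hb1) hb.2
    have hbS := (mem_centIn.mp hb.1).1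
    refine (eq_of_le_of_card_ge (fun c hc => mem_centIn.mpr
      ⟨(mem_centIn.mp hc).1, (cent_comm X hno h htS ht hne hc hb.1).eq⟩) ?_).symm
    rw [card_cent X hno h hbS htb (by rwa [hfb]), card_cent X hno h htS ht hne]

/-- A cyclic factor on the points of `z`. -/
theorem first_cyclic (hR : ∃ r ∈ Rt, r * r ≠ 1) : False := by
  haveI : Fact (Nat.Prime 2) := ⟨Nat.prime_two⟩
  obtain ⟨hR4, hD4⟩ := quad X hno h htS ht hne
  obtain ⟨hzC, htC⟩ := z_mem X h htS ht hne
  obtain ⟨h2, h1⟩ := involution_in S htS ht.1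
  by_cases hG : MacWilliams.NoEight (S : Subgroup G)
  · exact hno (SixteenRank.sectional_of_sylow S (MacWilliams.sectional_rank_le_four S.2 hG))
  obtain ⟨A, hAn, hAc, hA2, hA8, -⟩ := exists_eight S.2 hG h2 h1
  haveI := hAn
  set U := A ⊓ centralizer ({⟨t, htS⟩} : Set (S : Subgroup G)) with hU
  have hU3 : 3 ≤ Nat.card U := by
    have := card_le_fix_sq hAc hA2 (t := ⟨t, htS⟩) (by rw [← pow_two]; exact h2)
    rw [← hU, hA8] at this
    nlinarith
  -- an involution of `A` outside the subgroup of `z`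
  obtain ⟨u, hu, hu1, huz⟩ : ∃ u ∈ U, u ≠ 1 ∧ u ≠ ⟨z, h.mem⟩ := by
    classical
    by_contra hc
    push Not at hc
    have hsub : (U : Set (S : Subgroup G)) ⊆ {1, ⟨z, h.mem⟩} := fun w hw => by
      by_cases hw1 : w = 1
      exacts [Or.inl hw1, Or.inr (hc w hw hw1)]
    have := Set.ncard_le_ncard hsub (Set.toFinite _)
    rw [← Nat.card_coe_set_eq] at this
    have h2' := this.trans ((Set.ncard_insert_le _ _).trans (by rw [Set.ncard_singleton]))
    exact absurd (le_trans hU3 h2') (by norm_num)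
  have huu : (u : G) * u = 1 := by
    rw [← pow_two]; exact congrArg Subtype.val (hA2 u hu.1)
  have huC : (u : G) ∈ centIn (S : Subgroup G) t :=
    mem_centIn.mpr ⟨u.2, congrArg Subtype.val (mem_centralizer_singleton_iff.mp hu.2)⟩
  obtain ⟨r, hr, d, hd, hrd⟩ := decompose X hno h htS ht hne huC
  obtain ⟨hr2, hd2⟩ := sq_split X hno h htS ht hne hr hd (hrd ▸ huu)
  have hrc : ∀ g ∈ S, Commute g r := by
    rcases sq_one_cases X hno h htS ht hne hR4 hR ⟨hzC, self_mem_KS z⟩ h.top.1 hr hr2 with rfl | rfl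
    exacts [fun g _ => Commute.one_right g, h.central]
  have hd1 : d ≠ 1 := fun e => by
    rw [e, mul_one] at hrd
    rcases sq_one_cases X hno h htS ht hne hR4 hR ⟨hzC, self_mem_KS z⟩ h.top.1 hr hr2 with rfl | rfl
    exacts [hu1 (Subtype.ext hrd), huz (Subtype.ext hrd)]
  obtain ⟨hfd, htd⟩ := X.top_eq ht (orderOf_eq_prime (by rw [pow_two]; exact hd2) hd1) hd.2
  have hdS := (mem_centIn.mp hd.1).1
  have hcd : centIn (S : Subgroup G) (u : G) = centIn (S : Subgroup G) d := by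
    ext g
    simp only [mem_centIn, hrd]
    refine and_congr_right fun hg => ⟨fun e => ?_, fun e => ((hrc g hg).mul_right e).eq⟩
    have := ((hrc g hg).inv_right.mul_right e)
    rwa [inv_mul_cancel_left] at this
  -- the class of `u` lies in `A`
  have hcls : ∀ g : (S : Subgroup G), g * u * g⁻¹ ∈ (A : Set (S : Subgroup G)) \ {1} := fun g =>
    ⟨hAn.conj_mem u hu.1 g, fun e => hu1 (conj_eq_one_iff.mp e)⟩
  have hidx := index_centralizer_le hcls
  have h7 : ((A : Set (S : Subgroup G)) \ {1}).ncard = 7 := by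
    rw [Set.ncard_sdiff_singleton_of_mem (one_mem A), ← Nat.card_coe_set_eq]
    show Nat.card A - 1 = 7
    rw [hA8]
  have hi := (centralizer ({u} : Set (S : Subgroup G))).card_mul_index
  rw [card_centralizer_eq, hcd, card_cent X hno h hdS htd (by rwa [hfd])] at hi
  obtain ⟨j, hj⟩ := IsPGroup.iff_card.1 S.2
  rw [h7] at hidx
  have hj6 : j ≤ 6 := by
    by_contra hc
    have := Nat.pow_le_pow_right (show 0 < 2 by norm_num) (show 7 ≤ j by omega)
    omega
  refine hno (rank_card S htS ht.1 (hj ▸ (Nat.pow_le_pow_right two_pos hj6)) (card_cent X hno h htS ht hne).le ?_)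
  obtain ⟨w, hw, hw2⟩ := hR
  exact ⟨w, hw.1, hw2⟩

end Quad

/-- Two different fixed sets in a Sylow subgroup bound the rank. -/
theorem stay_four (X : Fix G Ω 2 4) (hA : ∀ z : G, IsTopFix Ω 2 4 z → ∃ T : Sylow 2 G, (T : Subgroup G) ≤ MS Ω z)
    {S : Sylow 2 G} {z t : G} (h : Stay Ω 4 S z) (htS : t ∈ S) (ht : IsTopFix Ω 2 4 t)
    (hne : fixedBy Ω t ≠ fixedBy Ω z) : Cfsg.SectionalPRankLE 2 4 G := by
  haveI : Fact (Nat.Prime 2) := ⟨Nat.prime_two⟩
  by_contra hno
  by_cases hR : ∀ r ∈ centIn (S : Subgroup G) t ⊓ KS Ω z, r * r = 1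
  swap
  · push Not at hR
    exact first_cyclic X hno h htS ht hne hR
  by_cases hD : ∀ d ∈ centIn (S : Subgroup G) t ⊓ KS Ω t, d * d = 1
  · exact both_elementary X hno h htS ht hne hR hD
  · -- exchange the two fixed sets
    push Not at hD
    obtain ⟨T, hT⟩ := hA t ht
    set C := centIn (S : Subgroup G) t with hC
    have hCp : IsPGroup 2 C := S.2.to_le inf_le_left
    obtain ⟨m, hm, hmT⟩ := exists_conj_le hT T.2 (fun Y hY hTY _ => T.3 hY hTY) hCp (cent_le X h htS ht hne).2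
    obtain ⟨S', hS', hS'M⟩ : ∃ S' : Sylow 2 G, C ≤ (S' : Subgroup G) ∧ (S' : Subgroup G) ≤ MS Ω t := by
      refine ⟨m⁻¹ • T, fun c hc => ?_, fun s hs => ?_⟩
      · rw [Sylow.coe_subgroup_smul]
        exact ⟨m * c * m⁻¹, hmT c hc, by simp [mul_assoc]⟩
      · rw [Sylow.coe_subgroup_smul] at hs
        obtain ⟨w, hw, rfl⟩ := hs
        simpa using mul_mem (mul_mem (inv_mem hm) (hT hw)) hm
    obtain ⟨z', h', hz'⟩ := exists_stay_eq X ht hS'M
    have hz : z ∈ C := (z_mem X h htS ht hne).1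
    have hne' : fixedBy Ω z ≠ fixedBy Ω z' := by rw [hz']; exact hne.symm
    obtain ⟨hR4, hD4⟩ := quad X hno h htS ht hne
    obtain ⟨hR4', hD4'⟩ := quad X hno h' (hS' hz) h.top hne'
    have hCle : C ≤ centIn (S' : Subgroup G) z := fun c hc =>
      mem_centIn.mpr ⟨hS' hc, (h.central c (mem_centIn.mp hc).1).eq⟩
    have eR : C ⊓ KS Ω t = centIn (S' : Subgroup G) z ⊓ KS Ω z' := by
      refine eq_of_le_of_card_ge ?_ (by rw [hR4', hD4])
      rintro c ⟨hc, hc2⟩
      exact ⟨hCle hc, by rwa [KS, hz']⟩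
    exact first_cyclic X hno h' (hS' hz) h.top hne' (by rw [← eR]; exact hD)

end CfsgLib.FixityFour
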