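import Cfsg.Agent.Lib.FixityFour.TwoBase
import Cfsg.Agent.Lib.FixityFour.Stay
import Cfsg.Agent.Lib.Bender.Q.Criterion

/-!
Involutions fixing as many points as possible, when the stabilisers of their fixed sets contain Sylow subgroups.
-/

set_option autoImplicit false
set_option linter.unusedSectionVars false
set_option linter.style.haveILetI false

namespace CfsgLib.FixityFour

open MulAction Subgroup
open scoped Pointwise

universe u v

variable {G : Type u} [Group G] [Finite G] {Ω : Type v} [MulAction G Ω] [Finite Ω] {k : ℕ}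

/-- No top involution of the Sylow subgroup with another fixed set. -/
theorem stay_clean (hQ : CfsgLib.Bender.Q.TheoremQ.{u}) [IsSimpleGroup G] (X : Fix G Ω 2 k) {S : Sylow 2 G} {z : G}
    (h : Stay Ω k S z) (hcl : ∀ t ∈ S, IsTopFix Ω 2 k t → fixedBy Ω t = fixedBy Ω z) :
    ∃ H : Subgroup G, Cfsg.IsStronglyEmbedded H := by
  haveI : Fact (Nat.Prime 2) := ⟨Nat.prime_two⟩
  have h2 : ∀ g : G, g * z * g⁻¹ ∈ MS Ω z → g ∈ MS Ω z := fun g hg => by
    have hp : IsPGroup 2 (zpowers (g * z * g⁻¹)) :=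
      IsPGroup.of_card (n := 1) (by rw [Nat.card_zpowers, (h.top.conj g).1, pow_one])
    obtain ⟨m, hm, hmS⟩ := exists_conj_le h.le S.2 (fun Y hY hSY _ => S.3 hY hSY) hp (zpowers_le.mpr hg)
    have hmg := hcl _ (hmS _ (mem_zpowers _)) ((h.top.conj g).conj m)
    rw [fixedBy_conj, fixedBy_conj, smul_smul] at hmg
    simpa using mul_mem (inv_mem hm) (mem_stabilizer_iff.mpr hmg : m * g ∈ MS Ω z)
  refine CfsgLib.Bender.Q.aschbacher hQ (X.MS_ne_top h.top) h.top.1 (h.le h.mem) ⟨S, h.mem, h.central⟩ h2 ?_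
  intro g hc hne
  have hg := h2 g (centralizer_le_MS z (mem_centralizer_singleton_iff.mpr hc.eq.symm))
  have hyK : g * z * g⁻¹ ∈ KS Ω z := KS_conj hg (self_mem_KS z)
  refine X.centralizer_le h.top (mul_mem (self_mem_KS z) hyK) (i := 1) ?_ fun e => hne ?_
  · rw [pow_one, hc.mul_pow, h.top.sq, (h.top.conj g).sq, mul_one]
  · rw [← inv_eq_of_mul_eq_one_right e]
    exact inv_eq_of_mul_eq_one_right (by rw [← pow_two]; exact h.top.sq)

section Two
variable (X : Fix G Ω 2 k) {S : Sylow 2 G} {z t : G} (h : Stay Ω k S z) (htS : t ∈ S) (ht : IsTopFix Ω 2 k t)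
  (hne : fixedBy Ω t ≠ fixedBy Ω z)
include X h htS ht hne

theorem cent_le : centIn (S : Subgroup G) t ≤ MS Ω z ∧ centIn (S : Subgroup G) t ≤ MS Ω t :=
  ⟨inf_le_left.trans h.le, inf_le_right.trans (centralizer_le_MS t)⟩

theorem z_mem : z ∈ centIn (S : Subgroup G) t ∧ t ∈ centIn (S : Subgroup G) t :=
  ⟨mem_centIn.mpr ⟨h.mem, (h.central t htS).symm.eq⟩, mem_centIn.mpr ⟨htS, rfl⟩⟩

theorem R_dvd : Nat.card ↥(centIn (S : Subgroup G) t ⊓ KS Ω z) ∣ (fixedBy Ω t \ fixedBy Ω z).ncard :=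
  X.card_cent_dvd h.top inf_le_right (S.2.to_le (inf_le_left.trans inf_le_left)) fun _ hr => (mem_centIn.mp hr.1).2

theorem D_dvd : Nat.card ↥(centIn (S : Subgroup G) t ⊓ KS Ω t) ∣ (fixedBy Ω z \ fixedBy Ω t).ncard :=
  X.card_cent_dvd ht inf_le_right (S.2.to_le (inf_le_left.trans inf_le_left))
    fun r hr => h.central r (mem_centIn.mp hr.1).1

theorem no_common {g : G} (hgS : g ∈ S) (hgz : g ∈ KS Ω z) (hgt : g ∈ KS Ω t) : g = 1 := by
  by_contra hg1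
  obtain ⟨i, hi⟩ := S.2 ⟨g, hgS⟩
  exact hne (X.fixed_inj ht h.top hgt hgz (congrArg Subtype.val hi) hg1)

/-- At most three fixed points. -/
theorem stay_small (hk : k ≤ 3) :
    (∃ n : ℕ, Nonempty ((S : Subgroup G) ≃* DihedralGroup n)) ∨ Cfsg.IsQuasiDihedral (S : Subgroup G) := by
  haveI : Fact (Nat.Prime 2) := ⟨Nat.prime_two⟩
  set C := centIn (S : Subgroup G) t with hC
  have hCp : IsPGroup 2 C := S.2.to_le inf_le_left
  obtain ⟨hzC, htC⟩ := z_mem X h htS ht hne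
  have hd3 : (fixedBy Ω t \ fixedBy Ω z).ncard ≤ k := ht.2 ▸ Set.ncard_le_ncard Set.sdiff_subset (Set.toFinite _)
  have hd0 : (fixedBy Ω t \ fixedBy Ω z).ncard ≠ 0 := fun e => hne (Set.eq_of_subset_of_ncard_le
    (Set.sdiff_eq_empty.mp ((Set.ncard_eq_zero (Set.toFinite _)).mp e)) (by rw [ht.2, h.top.2]) (Set.toFinite _))
  obtain ⟨j, hj⟩ := IsPGroup.iff_card.1 (hCp.to_le (inf_le_left : C ⊓ KS Ω z ≤ C))
  have hR := Nat.le_of_dvd (Nat.pos_of_ne_zero hd0) (R_dvd X h htS ht hne)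
  rw [← hC, hj] at hR
  have hj1 : j ≤ 1 := by
    by_contra hc
    have := Nat.pow_le_pow_right (show 0 < 2 by norm_num) (show 2 ≤ j by omega)
    omega
  have hdvd := card_dvd_mul_factorial (Ω := Ω) (cent_le X h htS ht hne).1
  rw [h.top.2, ← hC, hj] at hdvd
  have hfac : k.factorial ∣ 2 * 3 := Nat.factorial_dvd_factorial hk
  have h4 : Nat.card C ≤ 4 := Nat.le_of_dvd (by norm_num) (two_pow_dvd hCp (q := 3) (by decide) (hdvd.trans (by
    calc 2 ^ j * k.factorial ∣ 2 ^ 1 * (2 * 3) := mul_dvd_mul (pow_dvd_pow 2 hj1) hfac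
      _ = 4 * 3 := by norm_num)))
  obtain ⟨hc4, hsq⟩ := four_eq hzC htC h4 (h.central t htS).symm h.top.1 ht.1 fun e => hne (e ▸ rfl)
  exact dihedral_semi S htS ht.1 hc4 hsq

end Two

/-- Centralisers in the case of four points. -/
theorem rank_or_quad (X : Fix G Ω 2 4) {S : Sylow 2 G} {z t : G} (h : Stay Ω 4 S z) (htS : t ∈ S)
    (ht : IsTopFix Ω 2 4 t) (hne : fixedBy Ω t ≠ fixedBy Ω z) :
    Cfsg.SectionalPRankLE 2 4 G ∨ (Nat.card ↥(centIn (S : Subgroup G) t ⊓ KS Ω z) = 4 ∧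
      Nat.card ↥(centIn (S : Subgroup G) t ⊓ KS Ω t) = 4) := by
  haveI : Fact (Nat.Prime 2) := ⟨Nat.prime_two⟩
  set C := centIn (S : Subgroup G) t with hC
  have hCp : IsPGroup 2 C := S.2.to_le inf_le_left
  -- either factor of order at most two
  have key : ∀ w : G, IsTopFix Ω 2 4 w → C ≤ MS Ω w → Nat.card ↥(C ⊓ KS Ω w) ∣ 4 →
      Cfsg.SectionalPRankLE 2 4 G ∨ Nat.card ↥(C ⊓ KS Ω w) = 4 := by
    intro w hw hle h4
    by_cases he : Nat.card ↥(C ⊓ KS Ω w) = 4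
    · exact Or.inr he
    refine Or.inl ?_
    have hle2 : Nat.card ↥(C ⊓ KS Ω w) ∣ 2 := by
      obtain ⟨j, hj2, hj⟩ := (Nat.dvd_prime_pow Nat.prime_two).mp (show _ ∣ 2 ^ 2 from h4)
      rw [hj] at he ⊢
      interval_cases j <;> first | (exfalso; exact he rfl) | decide
    have hdvd := card_dvd_mul_factorial (Ω := Ω) hle
    rw [hw.2] at hdvd
    have h16 : Nat.card C ∣ 16 := two_pow_dvd hCp (q := 3) (by decide) (hdvd.trans
      ((mul_dvd_mul hle2 dvd_rfl).trans (dvd_of_eq rfl)))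
    refine rank_small S htS ht.1 (Nat.le_of_dvd (by norm_num) h16) fun e16 => ?_
    refine exists_noncomm hw.2 hle ?_
    have h1 : Nat.card ↥(C ⊓ KS Ω w) ≤ 2 := Nat.le_of_dvd two_pos hle2
    rw [← hC] at e16
    rw [e16, show (4 : ℕ).factorial = 8 * 3 from rfl] at hdvd
    have h2 : 2 ∣ Nat.card ↥(C ⊓ KS Ω w) := by
      have h3 : 16 ∣ 8 * Nat.card ↥(C ⊓ KS Ω w) := Nat.Coprime.dvd_of_dvd_mul_right (show Nat.Coprime 16 3 by decide)
        (by rwa [mul_comm 8, mul_assoc])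
      omega
    show Nat.card C = 8 * Nat.card ↥(C ⊓ KS Ω w)
    have h5 : 0 < Nat.card ↥(C ⊓ KS Ω w) := Nat.card_pos
    omega
  obtain ⟨hle1, hle2⟩ := cent_le X h htS ht hne
  have hR := R_dvd X h htS ht hne
  have hD := D_dvd X h htS ht hne
  have hz1 : 2 ∣ Nat.card ↥(C ⊓ KS Ω z) := h.top.1 ▸
    orderOf_dvd_natCard _ (show z ∈ C ⊓ KS Ω z from ⟨(z_mem X h htS ht hne).1, self_mem_KS z⟩)
  have ht1 : 2 ∣ Nat.card ↥(C ⊓ KS Ω t) := ht.1 ▸
    orderOf_dvd_natCard _ (show t ∈ C ⊓ KS Ω t from ⟨(z_mem X h htS ht hne).2, self_mem_KS t⟩)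
  -- two-powers dividing a number at most four
  have d4 : ∀ (W : Subgroup G), W ≤ C → ∀ d : ℕ, Nat.card W ∣ d → d ≤ 4 → 2 ∣ Nat.card W → (W ≠ ⊥ → d ≠ 0) →
      Nat.card W ∣ 4 := by
    intro W hW d hd hd4 h2 hd0
    have hne0 : d ≠ 0 := hd0 fun e => by rw [e, card_bot] at h2; omega
    obtain ⟨j, hj⟩ := IsPGroup.iff_card.1 (hCp.to_le hW)
    have := Nat.le_of_dvd (Nat.pos_of_ne_zero hne0) hd
    rw [hj] at this ⊢
    exact pow_dvd_pow 2 ((Nat.pow_le_pow_iff_right one_lt_two).mp (show 2 ^ j ≤ 2 ^ 2 by omega))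
  have hd0 : ∀ {a b : G}, IsTopFix Ω 2 4 a → IsTopFix Ω 2 4 b → fixedBy Ω a ≠ fixedBy Ω b →
      (fixedBy Ω a \ fixedBy Ω b).ncard ≠ 0 ∧ (fixedBy Ω a \ fixedBy Ω b).ncard ≤ 4 := by
    intro a b ha hb hab
    refine ⟨fun e => hab (Set.eq_of_subset_of_ncard_le
      (Set.sdiff_eq_empty.mp ((Set.ncard_eq_zero (Set.toFinite _)).mp e)) (by rw [ha.2, hb.2]) (Set.toFinite _)), ?_⟩
    exact ha.2 ▸ Set.ncard_le_ncard Set.sdiff_subset (Set.toFinite _)
  rcases key z h.top hle1 (d4 _ inf_le_left _ hR (hd0 ht h.top hne).2 hz1 fun _ => (hd0 ht h.top hne).1) with hr | hr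
  · exact Or.inl hr
  rcases key t ht hle2 (d4 _ inf_le_left _ hD (hd0 h.top ht hne.symm).2 ht1 fun _ => (hd0 h.top ht hne.symm).1)
    with hd | hd
  · exact Or.inl hd
  exact Or.inr ⟨hr, hd⟩

end CfsgLib.FixityFour
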