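import Cfsg.Agent.Lib.FixityFour.Move
import Cfsg.Agent.Lib.FixityFour.TwoStay

/-!
Involutions whose fixed sets are not stabilised by a Sylow subgroup.
-/

set_option autoImplicit false
set_option linter.unusedSectionVars false
set_option linter.style.haveILetI false

namespace CfsgLib.FixityFour

open MulAction Subgroup
open scoped Pointwise

universe u v

variable {G : Type u} [Group G] [Finite G] {Ω : Type v} [MulAction G Ω] [Finite Ω]

namespace Move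

variable {k : ℕ} {S : Sylow 2 G} {W : Subgroup G} {z s : G}

theorem diff_bound (h : Move Ω 2 k S W z s) :
    (fixedBy Ω (s * z * s⁻¹) \ fixedBy Ω z).ncard ≠ 0 ∧ (fixedBy Ω (s * z * s⁻¹) \ fixedBy Ω z).ncard ≤ k :=
  ⟨fun e => h.fixed_ne (Set.eq_of_subset_of_ncard_le
    (Set.sdiff_eq_empty.mp ((Set.ncard_eq_zero (Set.toFinite _)).mp e)) (by rw [h.top.2, h.top'.2]) (Set.toFinite _)),
  h.top'.2 ▸ Set.ncard_le_ncard Set.sdiff_subset (Set.toFinite _)⟩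

theorem cent_le' (h : Move Ω 2 k S W z s) : centIn (S : Subgroup G) z ≤ W := fun _ hg =>
  h.eqW.ge ⟨hg.1, centralizer_le_MS z hg.2⟩

/-- At most three fixed points. -/
theorem small (h : Move Ω 2 k S W z s) (X : Fix G Ω 2 k) (hk : k ≤ 3) :
    (∃ n : ℕ, Nonempty ((S : Subgroup G) ≃* DihedralGroup n)) ∨ Cfsg.IsQuasiDihedral (S : Subgroup G) := by
  haveI : Fact (Nat.Prime 2) := ⟨Nat.prime_two⟩
  obtain ⟨j, hj⟩ := IsPGroup.iff_card.1 (h.pGroup.to_le (inf_le_left : W ⊓ KS Ω z ≤ W))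
  have hd := h.diff_bound
  have hR := Nat.le_of_dvd (Nat.pos_of_ne_zero hd.1) (h.card_dvd X)
  rw [hj] at hR
  have hj1 : j ≤ 1 := by
    by_contra hc
    have := Nat.pow_le_pow_right (show 0 < 2 by norm_num) (show 2 ≤ j by omega)
    omega
  have hdvd := card_dvd_mul_factorial (Ω := Ω) h.le_MS
  rw [h.top.2, hj] at hdvd
  have hfac : k.factorial ∣ 2 * 3 := Nat.factorial_dvd_factorial hk
  have h4 : Nat.card W ≤ 4 := Nat.le_of_dvd (by norm_num) (two_pow_dvd h.pGroup (q := 3) (by decide) (hdvd.trans (by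
    calc 2 ^ j * k.factorial ∣ 2 ^ 1 * (2 * 3) := mul_dvd_mul (pow_dvd_pow 2 hj1) hfac
      _ = 4 * 3 := by norm_num)))
  obtain ⟨hc4, hsq⟩ := four_eq h.zW h.zW' h4 (h.commute_factors X ⟨h.zW, self_mem_KS z⟩ ⟨h.zW', self_mem_KS _⟩)
    h.top.1 h.top'.1 fun e => h.fixed_ne (by rw [← e])
  have hC : centIn (S : Subgroup G) z = W := le_antisymm h.cent_le' fun w hw => mem_centIn.mpr ⟨h.le_left hw,
    congrArg Subtype.val (MacWilliams.exp_two_comm (fun v : W => Subtype.ext (by simpa [pow_two] using hsq v v.2))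
      ⟨w, hw⟩ ⟨z, h.zW⟩)⟩
  exact dihedral_semi S (h.le_left h.zW) h.top.1 (by rw [hC, hc4]) (by rw [hC]; exact hsq)

end Move

section Four
variable {S : Sylow 2 G} {W : Subgroup G} {z s : G} (h : Move Ω 2 4 S W z s) (X : Fix G Ω 2 4)
  (hK : Nat.card ↥(W ⊓ KS Ω z) = 4)

local notation "Kz" => W ⊓ KS Ω z
local notation "Kz'" => W ⊓ KS Ω (s * z * s⁻¹)

include h X hK

theorem Move.comm_four {a b : G} (ha : a ∈ Kz) (hb : b ∈ Kz) : Commute a b := by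
  haveI : Fact (Nat.Prime 2) := ⟨Nat.prime_two⟩
  exact congrArg Subtype.val
    ((IsPGroup.isMulCommutative_of_card_eq_prime_sq (p := 2) (G := ↥Kz) (by rw [hK]; norm_num)).is_comm.comm
      ⟨a, ha⟩ ⟨b, hb⟩)

theorem Move.comm_four' {a b : G} (ha : a ∈ Kz') (hb : b ∈ Kz') : Commute a b := by
  obtain ⟨a₀, ha₀, rfl⟩ := h.mem_conj.mp ha
  obtain ⟨b₀, hb₀, rfl⟩ := h.mem_conj.mp hb
  exact CfsgLib.Bender.Q.conj_comm (h.comm_four X hK ha₀ hb₀).eq

/-- The product of the two factors. -/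
def Move.prod : Subgroup G where
  carrier := {g | ∃ a ∈ Kz, ∃ b ∈ Kz', g = a * b}
  one_mem' := ⟨1, one_mem _, 1, one_mem _, (mul_one 1).symm⟩
  mul_mem' := by
    rintro _ _ ⟨a, ha, b, hb, rfl⟩ ⟨a', ha', b', hb', rfl⟩
    exact ⟨a * a', mul_mem ha ha', b * b', mul_mem hb hb', (h.commute_factors X ha' hb).symm.mul_mul_mul_comm _ _⟩
  inv_mem' := by
    rintro _ ⟨a, ha, b, hb, rfl⟩
    exact ⟨a⁻¹, inv_mem ha, b⁻¹, inv_mem hb,
      by rw [mul_inv_rev]; exact (h.commute_factors X ha hb).symm.inv_inv.eq⟩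

theorem Move.prod_le : h.prod X ≤ W := by
  rintro _ ⟨a, ha, b, hb, rfl⟩
  exact mul_mem ha.1 hb.1

theorem Move.prod_comm {a b : G} (ha : a ∈ h.prod X) (hb : b ∈ h.prod X) : a * b = b * a := by
  obtain ⟨a₁, h1, a₂, h2, rfl⟩ := ha
  obtain ⟨b₁, h3, b₂, h4, rfl⟩ := hb
  exact (Commute.mul_left ((h.comm_four X hK h1 h3).mul_right (h.commute_factors X h1 h4))
    ((h.commute_factors X h3 h2).symm.mul_right (h.comm_four' X hK h2 h4))).eq

theorem Move.prod_unique {a b a' b' : G} (ha : a ∈ Kz) (hb : b ∈ Kz') (ha' : a' ∈ Kz) (hb' : b' ∈ Kz')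
    (e : a * b = a' * b') : a = a' ∧ b = b' := by
  have e2 : a'⁻¹ * a = b' * b⁻¹ := by rw [eq_mul_inv_iff_mul_eq, mul_assoc, e, inv_mul_cancel_left]
  have h1 := h.no_common X (mul_mem (inv_mem ha'.1) ha.1) (mul_mem (inv_mem ha'.2) ha.2)
    (by rw [e2]; exact mul_mem hb'.2 (inv_mem hb.2))
  have ha2 : a' = a := inv_mul_eq_one.mp h1
  subst ha2
  exact ⟨rfl, mul_left_cancel e⟩

theorem Move.card_prod : Nat.card ↥(h.prod X) = 16 := by
  let f : ↥Kz × ↥Kz' → ↥(h.prod X) := fun p => ⟨p.1 * p.2, p.1, p.1.2, p.2, p.2.2, rfl⟩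
  rw [← Nat.card_eq_of_bijective f ⟨?_, ?_⟩, Nat.card_prod, h.card_conj, hK]
  · rintro ⟨a, b⟩ ⟨a', b'⟩ e
    obtain ⟨e1, e2⟩ := h.prod_unique X hK a.2 b.2 a'.2 b'.2 (congrArg Subtype.val e :)
    exact Prod.ext (Subtype.ext e1) (Subtype.ext e2)
  · rintro ⟨_, a, ha, b, hb, rfl⟩
    exact ⟨(⟨a, ha⟩, ⟨b, hb⟩), rfl⟩

theorem Move.elementary (hel : ∀ a ∈ Kz, a * a = 1) {e : G} (he : e ∈ h.prod X) : e * e = 1 := by
  obtain ⟨a, ha, b, hb, rfl⟩ := he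
  have hb2 : b * b = 1 := by
    obtain ⟨b₀, hb₀, rfl⟩ := h.mem_conj.mp hb
    rw [show s * b₀ * s⁻¹ * (s * b₀ * s⁻¹) = s * (b₀ * b₀) * s⁻¹ by group, hel b₀ hb₀, mul_one, mul_inv_cancel]
  rw [(h.commute_factors X ha hb).symm.mul_mul_mul_comm, hel a ha, hb2, one_mul]

/-- When the factors are cyclic their only involutions are those given. -/
theorem Move.sq_cases (hcy : ∃ a ∈ Kz, a * a ≠ 1) {a : G} (ha : a ∈ Kz) (ha2 : a * a = 1) : a = 1 ∨ a = z := by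
  by_contra hc
  push Not at hc
  obtain ⟨w, hw, hw2⟩ := hcy
  exact hw2 ((four_eq ha (show z ∈ Kz from ⟨h.zW, self_mem_KS z⟩) hK.le
    (h.comm_four X hK ha ⟨h.zW, self_mem_KS z⟩) (orderOf_eq_prime (hp := ⟨Nat.prime_two⟩) (by rw [pow_two]; exact ha2) hc.1)
    h.top.1 hc.2).2 w hw)

theorem Move.central_cyclic (hcy : ∃ a ∈ Kz, a * a ≠ 1) {w : G} (hw : w ∈ W) : w * z = z * w := by
  have hm : w * z * w⁻¹ ∈ Kz := ⟨W.mul_mem (W.mul_mem hw h.zW) (W.inv_mem hw), KS_conj (h.le_MS hw) (self_mem_KS z)⟩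
  rcases h.sq_cases X hK hcy hm (by rw [← pow_two]; exact (h.top.conj w).sq) with e | e
  · exact absurd (conj_eq_one_iff.mp e) (X.ne_one h.top)
  · exact mul_inv_eq_iff_eq_mul.mp e

theorem Move.split_sq (hcy : ∃ a ∈ Kz, a * a ≠ 1) {e : G} (he : e ∈ h.prod X) (he2 : e * e = 1) :
    e = 1 ∨ e = z ∨ e = s * z * s⁻¹ ∨ e = z * (s * z * s⁻¹) := by
  obtain ⟨a, ha, b, hb, rfl⟩ := he
  rw [(h.commute_factors X ha hb).symm.mul_mul_mul_comm] at he2
  obtain ⟨ha2, hb2⟩ := h.prod_unique X hK (mul_mem ha ha) (mul_mem hb hb) (one_mem _) (one_mem _)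
    (he2.trans (mul_one 1).symm)
  obtain ⟨b₀, hb₀, rfl⟩ := h.mem_conj.mp hb
  have hb02 : b₀ * b₀ = 1 := conj_eq_one_iff.mp
    ((show s * (b₀ * b₀) * s⁻¹ = s * b₀ * s⁻¹ * (s * b₀ * s⁻¹) by group).trans hb2)
  rcases h.sq_cases X hK hcy ha ha2 with rfl | rfl <;> rcases h.sq_cases X hK hcy hb₀ hb02 with rfl | rfl <;> simp

end Four

end CfsgLib.FixityFour
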